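import Mathlib.RingTheory.LocalRing.ResidueField.Fiber
import Mathlib.RingTheory.Flat.FaithfullyFlat.Basic
import Mathlib.LinearAlgebra.TensorProduct.Pi
import Mathlib.LinearAlgebra.TensorProduct.Tower
import Mathlib.RingTheory.Localization.BaseChange
import Mathlib.RingTheory.IsTensorProduct
import Mathlib.LinearAlgebra.TensorProduct.Quotient
import Mathlib.Algebra.Module.Torsion.Basic

/-!
# Joint injectivity on fibres of a family of linear maps, and base change
-/

set_option autoImplicit false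

namespace Groth.Agent.Flat2E.FibInj

open TensorProduct

section Def

variable {A M N : Type*} [CommRing A] [AddCommGroup M] [Module A M] [AddCommGroup N] [Module A N]
  {ι : Type*}

/-- joint injectivity of a family of maps after tensoring with `P` -/
def TInj (P : Type*) [AddCommGroup P] [Module A P] (γ : ι → M →ₗ[A] N) : Prop :=
  ∀ z : P ⊗[A] M, (∀ i, (γ i).lTensor P z = 0) → z = 0

/-- joint injectivity on the fibre at `p` -/
abbrev FInj (γ : ι → M →ₗ[A] N) (p : Ideal A) [p.IsPrime] : Prop :=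
  TInj p.ResidueField γ

variable (p : Ideal A) [p.IsPrime]

theorem exists_smul_eq_one_tmul (z : p.ResidueField ⊗[A] M) :
    ∃ c ∉ p, ∃ m : M, c • z = 1 ⊗ₜ[A] m := by
  induction z with
  | zero => exact ⟨1, fun h => Ideal.IsPrime.ne_top ‹_› ((Ideal.eq_top_iff_one p).mpr h), 0, by simp⟩
  | tmul k m =>
    obtain ⟨a, b, hb, rfl⟩ := IsFractionRing.div_surjective (A := A ⧸ p) k
    obtain ⟨a, rfl⟩ := Ideal.Quotient.mk_surjective a
    obtain ⟨b, rfl⟩ := Ideal.Quotient.mk_surjective b
    have hb0 : (Ideal.Quotient.mk p b) ≠ 0 := nonZeroDivisors.ne_zero hb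
    have hbp : b ∉ p := fun h => hb0 (Ideal.Quotient.eq_zero_iff_mem.mpr h)
    refine ⟨b, hbp, a • m, ?_⟩
    have e1 : ∀ x : A, algebraMap (A ⧸ p) p.ResidueField (Ideal.Quotient.mk p x) =
        algebraMap A p.ResidueField x := fun x => rfl
    have hbk : algebraMap A p.ResidueField b ≠ 0 := by
      simpa using hbp
    rw [e1, e1, TensorProduct.smul_tmul', Algebra.smul_def, mul_div_cancel₀ _ hbk,
      ← TensorProduct.smul_tmul, Algebra.smul_def, mul_one]
  | add x y hx hy =>
    obtain ⟨c, hc, m, e⟩ := hx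
    obtain ⟨c', hc', m', e'⟩ := hy
    refine ⟨c * c', fun h => (Ideal.IsPrime.mem_or_mem ‹_› h).elim hc hc', c' • m + c • m', ?_⟩
    rw [smul_add, mul_smul, mul_smul, smul_comm c c' x, e, e', tmul_add, tmul_smul, tmul_smul]

theorem one_tmul_eq_zero_iff (m : M) :
    (1 : p.ResidueField) ⊗ₜ[A] m = 0 ↔ ∃ c ∉ p, c • m ∈ p • (⊤ : Submodule A M) := by
  constructor
  · intro h
    let Q := M ⧸ p • (⊤ : Submodule A M)
    let φ : p.ResidueField ⊗[A] M →ₗ[A] p.ResidueField ⊗[A ⧸ p] Q :=
      TensorProduct.lift (LinearMap.mk₂ A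
        (fun k m => k ⊗ₜ[A ⧸ p] (Submodule.Quotient.mk m : Q))
        (fun _ _ _ => add_tmul _ _ _) (fun _ _ _ => rfl)
        (fun _ _ _ => by rw [Submodule.Quotient.mk_add, tmul_add])
        (fun c k m => by
          rw [Submodule.Quotient.mk_smul, ← algebraMap_smul (A ⧸ p) c (Submodule.Quotient.mk m : Q),
            tmul_smul, algebraMap_smul]))
    have h1 : φ ((1 : p.ResidueField) ⊗ₜ[A] m) = 1 ⊗ₜ[A ⧸ p] (Submodule.Quotient.mk m : Q) := rfl
    rw [h, map_zero] at h1
    have h2 : IsLocalizedModule (nonZeroDivisors (A ⧸ p))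
        (TensorProduct.mk (A ⧸ p) p.ResidueField Q 1) := by
      rw [isLocalizedModule_iff_isBaseChange (nonZeroDivisors (A ⧸ p)) p.ResidueField]
      exact TensorProduct.isBaseChange _ _ _
    obtain ⟨⟨c, hc⟩, h3⟩ := (IsLocalizedModule.eq_zero_iff (nonZeroDivisors (A ⧸ p))
      (TensorProduct.mk (A ⧸ p) p.ResidueField Q 1)).mp h1.symm
    obtain ⟨c, rfl⟩ := Ideal.Quotient.mk_surjective c
    refine ⟨c, fun h => nonZeroDivisors.ne_zero hc (Ideal.Quotient.eq_zero_iff_mem.mpr h), ?_⟩
    rw [← Submodule.Quotient.mk_eq_zero]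
    exact h3
  · rintro ⟨c, hc, h⟩
    have h1 : ∀ n ∈ p • (⊤ : Submodule A M), (1 : p.ResidueField) ⊗ₜ[A] n = 0 := by
      intro n hn
      induction hn using Submodule.smul_induction_on' with
      | smul r hr n _ =>
        have : algebraMap A p.ResidueField r = 0 := by simpa using hr
        rw [← TensorProduct.smul_tmul, Algebra.smul_def, mul_one, this, zero_tmul]
      | add x _ y _ hx hy => rw [tmul_add, hx, hy, add_zero]
    have h2 := h1 _ h
    have hc' : algebraMap A p.ResidueField c ≠ 0 := by simpa using hc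
    rw [tmul_smul, ← algebraMap_smul p.ResidueField c] at h2
    exact (smul_eq_zero.mp h2).resolve_left hc'

theorem smul_cancel {c : A} (hc : c ∉ p) (z : p.ResidueField ⊗[A] M) (h : c • z = 0) : z = 0 := by
  have hc' : algebraMap A p.ResidueField c ≠ 0 := by simpa using hc
  rw [← algebraMap_smul p.ResidueField c] at h
  exact (smul_eq_zero.mp h).resolve_left hc'

theorem fInj_iff [Finite ι] (γ : ι → M →ₗ[A] N) :
    FInj γ p ↔ ∀ m : M, (∀ i, γ i m ∈ p • (⊤ : Submodule A N)) →
      ∃ c ∉ p, c • m ∈ p • (⊤ : Submodule A M) := by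
  constructor
  · intro h m hm
    rw [← one_tmul_eq_zero_iff]
    apply h
    intro i
    rw [LinearMap.lTensor_tmul, one_tmul_eq_zero_iff]
    exact ⟨1, fun h => Ideal.IsPrime.ne_top ‹_› ((Ideal.eq_top_iff_one p).mpr h),
      by rw [one_smul]; exact hm i⟩
  · intro h z hz
    obtain ⟨c, hc, m, hcm⟩ := exists_smul_eq_one_tmul p z
    have h1 : ∀ i, ∃ c' ∉ p, c' • γ i m ∈ p • (⊤ : Submodule A N) := by
      intro i
      rw [← one_tmul_eq_zero_iff, ← LinearMap.lTensor_tmul, ← hcm, map_smul, hz i, smul_zero]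
    choose d hd hdm using h1
    cases nonempty_fintype ι
    have hD : (∏ i, d i) ∉ p := by
      have : (∏ i, d i) ∈ p.primeCompl := Submonoid.prod_mem _ fun i _ => hd i
      exact this
    obtain ⟨e, he, hem⟩ := h ((∏ i, d i) • m) (by
      intro i
      obtain ⟨e, he⟩ : d i ∣ ∏ i, d i := Finset.dvd_prod_of_mem d (Finset.mem_univ i)
      rw [map_smul, he, mul_comm, mul_smul]
      exact Submodule.smul_mem _ _ (hdm i))
    have h2 : (1 : p.ResidueField) ⊗ₜ[A] m = 0 := by
      rw [one_tmul_eq_zero_iff]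
      exact ⟨e * ∏ i, d i, fun h => (Ideal.IsPrime.mem_or_mem ‹_› h).elim he hD, by rwa [mul_smul]⟩
    rw [← hcm] at h2
    exact smul_cancel p hc z h2

end Def

section BaseChange

/-- joint injectivity is insensitive to faithfully flat scalar extension -/
theorem tInj_iff_of_faithfullyFlat {k K V W ι : Type*} [CommRing k] [CommRing K] [Algebra k K]
    [Module.FaithfullyFlat k K] [AddCommGroup V] [Module k V] [AddCommGroup W] [Module k W]
    [Finite ι] (γ : ι → V →ₗ[k] W) :
    TInj K γ ↔ ∀ v : V, (∀ i, γ i v = 0) → v = 0 := by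
  cases nonempty_fintype ι
  classical
  have h1 : TInj K γ ↔ Function.Injective ((LinearMap.pi γ).lTensor K) := by
    rw [injective_iff_map_eq_zero]
    refine forall_congr' fun z => ?_
    have h2 : (LinearMap.pi γ).lTensor K z = 0 ↔ ∀ i, (γ i).lTensor K z = 0 := by
      rw [← (TensorProduct.piRight k k K (fun _ : ι => W)).map_eq_zero_iff, funext_iff]
      refine forall_congr' fun i => ?_
      have h3 : ∀ z : K ⊗[k] V, TensorProduct.piRight k k K (fun _ : ι => W)
          ((LinearMap.pi γ).lTensor K z) i = (γ i).lTensor K z := by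
        intro z
        induction z with
        | zero => simp
        | tmul a v => simp
        | add x y hx hy => rw [map_add, map_add, Pi.add_apply, hx, hy, map_add]
      rw [h3, Pi.zero_apply]
    rw [h2]
  rw [h1, Module.FaithfullyFlat.lTensor_injective_iff_injective, injective_iff_map_eq_zero]
  refine forall_congr' fun v => ?_
  rw [funext_iff]
  rfl

/-- transport of joint injectivity along a compatible equivalence -/
theorem forall_congr_equiv {T T' U U' ι : Type*} [AddCommGroup T] [AddCommGroup T']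
    [AddCommGroup U] [AddCommGroup U'] (e : T ≃+ T') (e' : U ≃+ U') (γ : ι → T → U)
    (γ' : ι → T' → U') (h : ∀ i z, e' (γ i z) = γ' i (e z)) :
    (∀ z, (∀ i, γ i z = 0) → z = 0) ↔ (∀ z, (∀ i, γ' i z = 0) → z = 0) := by
  constructor
  · intro H z hz
    obtain ⟨z, rfl⟩ := e.surjective z
    rw [H z fun i => ?_, map_zero]
    rw [← e'.map_eq_zero_iff, h, hz]
  · intro H z hz
    rw [← e.map_eq_zero_iff]
    exact H _ fun i => by rw [← h, hz, map_zero]

variable {A₀ A M₀ M ι : Type*} [CommRing A₀] [CommRing A] [Algebra A₀ A] [AddCommGroup M₀]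
  [Module A₀ M₀] [AddCommGroup M] [Module A M] [Module A₀ M] [IsScalarTower A₀ A M]
  (θ : M₀ →ₗ[A₀] M) (hθ : IsBaseChange A θ) [Finite ι]
  (γ₀ : ι → M₀ →ₗ[A₀] M₀) (γ : ι → M →ₗ[A] M) (hγ : ∀ i m, γ i (θ m) = θ (γ₀ i m))
  (p : Ideal A) [p.IsPrime] (p₀ : Ideal A₀) [p₀.IsPrime]
  (hp : p₀ = p.comap (algebraMap A₀ A))

include hθ hγ hp in
/-- joint injectivity on fibres is invariant under base change -/
theorem fInj_baseChange_iff : FInj γ p ↔ FInj γ₀ p₀ := by
  let K := p.ResidueField
  let K₀ := p₀.ResidueField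
  let : Algebra K₀ K := (Ideal.ResidueField.map p₀ p (algebraMap A₀ A) hp).toAlgebra
  have : IsScalarTower A₀ K₀ K := .of_algebraMap_eq fun x => by
    have := Ideal.ResidueField.map_algebraMap p₀ p (algebraMap A₀ A) hp x
    change _ = (Ideal.ResidueField.map p₀ p (algebraMap A₀ A) hp) _
    rw [this, ← IsScalarTower.algebraMap_apply]
  have : Module.FaithfullyFlat K₀ K := inferInstance
  -- first equivalence
  let E1 : K ⊗[A] M ≃ₗ[K] K ⊗[A₀] M₀ :=
    (AlgebraTensorModule.congr (LinearEquiv.refl K K) hθ.equiv.symm).trans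
      (AlgebraTensorModule.cancelBaseChange A₀ A K K M₀)
  have hE1 : ∀ (k : K) (m : M₀), E1 (k ⊗ₜ θ m) = k ⊗ₜ m := by
    intro k m
    simp only [E1, LinearEquiv.trans_apply, AlgebraTensorModule.congr_tmul, LinearEquiv.refl_apply,
      hθ.equiv_symm_apply, AlgebraTensorModule.cancelBaseChange_tmul, one_smul]
  have hE1' : ∀ i (z : K ⊗[A] M), E1 ((γ i).lTensor K z) = (γ₀ i).lTensor K (E1 z) := by
    intro i z
    obtain ⟨w, rfl⟩ := E1.symm.surjective z
    rw [E1.apply_symm_apply]
    induction w with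
    | zero => simp
    | tmul k m =>
      have : E1.symm (k ⊗ₜ m) = k ⊗ₜ θ m := by rw [LinearEquiv.symm_apply_eq, hE1]
      rw [this, LinearMap.lTensor_tmul, hγ, hE1, LinearMap.lTensor_tmul]
    | add x y hx hy => rw [map_add, map_add, map_add, map_add, hx, hy]
  let E2 : K ⊗[K₀] (K₀ ⊗[A₀] M₀) ≃ₗ[K] K ⊗[A₀] M₀ :=
    AlgebraTensorModule.cancelBaseChange A₀ K₀ K K M₀
  have hE2' : ∀ i (z : K ⊗[K₀] (K₀ ⊗[A₀] M₀)),
      E2 (((γ₀ i).baseChange K₀).lTensor K z) = (γ₀ i).lTensor K (E2 z) := by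
    intro i z
    induction z with
    | zero => simp
    | tmul k w =>
      induction w with
      | zero => simp
      | tmul a m => simp [E2]
      | add x y hx hy => rw [tmul_add, map_add, map_add, map_add, map_add, hx, hy]
    | add x y hx hy => rw [map_add, map_add, map_add, map_add, hx, hy]
  have h1 : FInj γ p ↔ TInj K γ₀ :=
    forall_congr_equiv E1.toAddEquiv E1.toAddEquiv (fun i z => (γ i).lTensor K z)
      (fun i z => (γ₀ i).lTensor K z) hE1'
  have h2 : TInj K (fun i => (γ₀ i).baseChange K₀) ↔ TInj K γ₀ :=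
    forall_congr_equiv E2.toAddEquiv E2.toAddEquiv
      (fun i z => ((γ₀ i).baseChange K₀).lTensor K z)
      (fun i z => (γ₀ i).lTensor K z) hE2'
  rw [h1, ← h2, tInj_iff_of_faithfullyFlat]
  rfl

end BaseChange

end Groth.Agent.Flat2E.FibInj
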