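import Mathlib.RingTheory.Etale.StandardEtale
import Mathlib.RingTheory.LocalRing.ResidueField.Ideal
import Mathlib.FieldTheory.PrimitiveElement
import Mathlib.RingTheory.Polynomial.ScaleRoots
import Mathlib.RingTheory.Localization.Integer

/-!
# Étale algebras with prescribed finite separable residue field extension

`Groth.Agent.Flat2E.EtaleResField.exists_etale_residueField_equiv`: for a prime `p` of `R` and a finite
separable extension `L` of `κ(p)`, there are an étale `R`-algebra `R'` and a prime `P` of `R'` over `p`
such that `κ(P) ≃ L` over `κ(p)`.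
-/

set_option autoImplicit false
universe u v

namespace Groth.Agent.Flat2E.EtaleResField

open Polynomial

/-- A monic polynomial over the residue field of a prime becomes, after scaling the roots by a nonzero element coming
from the ring, the image of a monic polynomial over the ring. -/
theorem exists_monic_lift_scaleRoots {R : Type u} [CommRing R] (p : Ideal R) [p.IsPrime]
    (f : p.ResidueField[X]) (hf : f.Monic) :
    ∃ (s : R) (F : R[X]), s ∉ p ∧ F.Monic ∧ F.natDegree = f.natDegree ∧
      F.map (algebraMap R p.ResidueField) = f.scaleRoots (algebraMap R p.ResidueField s) := by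
  classical
  obtain ⟨b, hb⟩ := IsLocalization.exist_integer_multiples_of_finset (nonZeroDivisors (R ⧸ p))
    (f.support.image f.coeff)
  obtain ⟨s, hs⟩ := Ideal.Quotient.mk_surjective (b : R ⧸ p)
  have hsp : s ∉ p := by
    intro h
    have : (b : R ⧸ p) = 0 := by rw [← hs]; exact Ideal.Quotient.eq_zero_iff_mem.mpr h
    exact nonZeroDivisors.coe_ne_zero b this
  have key : ∀ i, ∃ a : R, algebraMap R p.ResidueField a = algebraMap R p.ResidueField s * f.coeff i := by
    intro i
    by_cases hi : i ∈ f.support
    · obtain ⟨a, ha⟩ := hb _ (Finset.mem_image_of_mem _ hi)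
      obtain ⟨a, rfl⟩ := Ideal.Quotient.mk_surjective a
      refine ⟨a, ?_⟩
      rw [Algebra.smul_def] at ha
      simp only [Ideal.algebraMap_quotient_residueField_mk] at ha
      rw [ha]
      congr 1
      rw [← hs]; rfl
    · refine ⟨0, ?_⟩
      rw [Polynomial.notMem_support_iff.mp hi]; simp
  have hlift : f.scaleRoots (algebraMap R p.ResidueField s) ∈
      Polynomial.lifts (algebraMap R p.ResidueField) := by
    rw [Polynomial.lifts_iff_coeff_lifts]
    intro i
    rw [Polynomial.coeff_scaleRoots]
    rcases lt_trichotomy i f.natDegree with hi | hi | hi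
    · obtain ⟨a, ha⟩ := key i
      refine ⟨a * s ^ (f.natDegree - i - 1), ?_⟩
      rw [map_mul, ha, map_pow]
      have : f.natDegree - i = (f.natDegree - i - 1) + 1 := by omega
      conv_rhs => rw [this, pow_succ]
      ring
    · subst hi
      exact ⟨1, by simp [hf]⟩
    · refine ⟨0, ?_⟩
      rw [Polynomial.coeff_eq_zero_of_natDegree_lt hi]; simp
  have hmonic : (f.scaleRoots (algebraMap R p.ResidueField s)).Monic := by
    rwa [Polynomial.monic_scaleRoots_iff]
  obtain ⟨F, hF1, hF2, hF3⟩ := Polynomial.lifts_and_natDegree_eq_and_monic hlift hmonic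
  exact ⟨s, F, hsp, hF3, by rw [hF2, Polynomial.natDegree_scaleRoots], hF1⟩

/-- For a finite separable extension `L` of the residue field of a prime `p` of `R` there is a (standard) étale
`R`-algebra `R'` with a prime `P` over `p` whose residue field is `L`. -/
theorem exists_etale_residueField_equiv {R : Type u} [CommRing R] (p : Ideal R) [p.IsPrime]
    (L : Type v) [Field L] [Algebra p.ResidueField L] [FiniteDimensional p.ResidueField L]
    [Algebra.IsSeparable p.ResidueField L] :
    ∃ (R' : Type u) (_ : CommRing R') (_ : Algebra R R') (_ : Algebra.Etale R R') (P : Ideal R')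
      (_ : P.IsPrime) (_ : P.LiesOver p) (e : L ≃+* P.ResidueField),
      ∀ x : p.ResidueField, e (algebraMap p.ResidueField L x) =
        Ideal.ResidueField.mapₐ p P (Algebra.ofId R R') (P.over_def p) x := by
  obtain ⟨θ, hθ⟩ := Field.exists_primitive_element p.ResidueField L
  have hint : IsIntegral p.ResidueField θ := Algebra.IsIntegral.isIntegral θ
  obtain ⟨s, F, hs, hF, hFd, hFm⟩ := exists_monic_lift_scaleRoots p (minpoly p.ResidueField θ)
    (minpoly.monic hint)
  let : Algebra R L := ((algebraMap p.ResidueField L).comp (algebraMap R p.ResidueField)).toAlgebra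
  have : IsScalarTower R p.ResidueField L := IsScalarTower.of_algebraMap_eq' rfl
  set σ : L := algebraMap R L s with hσ
  have hσ0 : σ ≠ 0 := by
    rw [hσ, IsScalarTower.algebraMap_apply R p.ResidueField L]
    intro h
    rw [map_eq_zero] at h
    exact hs (Ideal.algebraMap_residueField_eq_zero.mp h)
  -- the new generator
  set θ' : L := σ * θ with hθ'
  have hroot : aeval θ' F = 0 := by
    rw [← Polynomial.aeval_map_algebraMap p.ResidueField, hFm]
    have := Polynomial.scaleRoots_aeval_eq_zero (r := algebraMap R p.ResidueField s) (minpoly.aeval p.ResidueField θ)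
    rw [← IsScalarTower.algebraMap_apply] at this
    exact this
  have hgen : IntermediateField.adjoin p.ResidueField {θ'} = ⊤ := by
    rw [eq_top_iff, ← hθ, IntermediateField.adjoin_simple_le_iff]
    have h1 : θ = θ' * σ⁻¹ := by rw [hθ']; field_simp
    rw [h1]
    refine mul_mem (IntermediateField.mem_adjoin_simple_self _ _) (inv_mem ?_)
    rw [hσ, IsScalarTower.algebraMap_apply R p.ResidueField L]
    exact IntermediateField.algebraMap_mem _ _
  have hint' : IsIntegral p.ResidueField θ' := Algebra.IsIntegral.isIntegral θ'
  have hmin : F.map (algebraMap R p.ResidueField) = minpoly p.ResidueField θ' := by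
    have hmonic : (F.map (algebraMap R p.ResidueField)).Monic := hF.map _
    have hdvd : minpoly p.ResidueField θ' ∣ F.map (algebraMap R p.ResidueField) :=
      minpoly.dvd _ _ (by rw [Polynomial.aeval_map_algebraMap]; exact hroot)
    have e1 : (minpoly p.ResidueField θ).natDegree = Module.finrank p.ResidueField L :=
      (Field.primitive_element_iff_minpoly_natDegree_eq _ _).mp hθ
    have e2 : (minpoly p.ResidueField θ').natDegree = Module.finrank p.ResidueField L :=
      (Field.primitive_element_iff_minpoly_natDegree_eq _ _).mp hgen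
    refine Polynomial.eq_of_monic_of_dvd_of_natDegree_le (minpoly.monic hint') hmonic hdvd ?_
    rw [e2, ← e1, ← hFd, Polynomial.natDegree_map_eq_iff.mpr (Or.inl (by rw [hF.leadingCoeff]; simp))]
  have hsep : (minpoly p.ResidueField θ').Separable := Algebra.IsSeparable.isSeparable _ _
  have hder : aeval θ' (derivative F) ≠ 0 := by
    rw [← Polynomial.aeval_map_algebraMap p.ResidueField, ← Polynomial.derivative_map, hmin]
    exact hsep.aeval_derivative_ne_zero (minpoly.aeval _ _)
  let E : StandardEtalePair R := ⟨F, hF, derivative F, 1, 0, 1, by simp⟩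
  have hmap : E.HasMap θ' := ⟨hroot, IsUnit.mk0 _ hder⟩
  let φ : E.Ring →ₐ[R] L := E.lift θ' hmap
  let P : Ideal E.Ring := RingHom.ker φ
  have hP : P.IsPrime := RingHom.ker_isPrime _
  have hPp : P.LiesOver p := by
    constructor
    ext x
    change x ∈ p ↔ algebraMap R E.Ring x ∈ RingHom.ker φ
    rw [RingHom.mem_ker, AlgHom.commutes, IsScalarTower.algebraMap_apply R p.ResidueField L,
      map_eq_zero, Ideal.algebraMap_residueField_eq_zero]
  -- the comparison map
  let ψ : P.ResidueField →+* L := Ideal.ResidueField.lift P φ.toRingHom le_rfl (by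
    intro x hx
    exact IsUnit.mk0 _ (fun h => hx h))
  have hψ : ∀ x : E.Ring, ψ (algebraMap _ _ x) = φ x := fun x =>
    Ideal.ResidueField.lift_algebraMap P _ _ _ x
  have hψp : ∀ x : p.ResidueField,
      ψ (Ideal.ResidueField.mapₐ p P (Algebra.ofId R E.Ring) (P.over_def p) x) =
        algebraMap p.ResidueField L x := by
    have : ψ.comp (Ideal.ResidueField.mapₐ p P (Algebra.ofId R E.Ring) (P.over_def p)).toRingHom =
        algebraMap p.ResidueField L := by
      apply Ideal.ResidueField.ringHom_ext
      ext x
      simp only [RingHom.comp_apply]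
      change ψ (Ideal.ResidueField.mapₐ p P (Algebra.ofId R E.Ring) (P.over_def p) (algebraMap R _ x)) = _
      rw [AlgHom.commutes, IsScalarTower.algebraMap_apply R E.Ring P.ResidueField, hψ, AlgHom.commutes,
        IsScalarTower.algebraMap_apply R p.ResidueField L]
    intro x
    exact congr($this x)
  have hψs : Function.Surjective ψ := by
    -- the range is a subfield containing `κ(p)` and `θ'`
    let K : IntermediateField p.ResidueField L :=
      { ψ.fieldRange with
        algebraMap_mem' := fun x => ⟨_, hψp x⟩ }
    have hK : K = ⊤ := by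
      rw [eq_top_iff, ← hgen, IntermediateField.adjoin_simple_le_iff]
      refine ⟨algebraMap _ _ E.X, ?_⟩
      rw [hψ]
      exact E.lift_X _ _
    intro x
    have : x ∈ K := by rw [hK]; trivial
    exact this
  let e : P.ResidueField ≃+* L := RingEquiv.ofBijective ψ ⟨ψ.injective, hψs⟩
  refine ⟨E.Ring, inferInstance, inferInstance, inferInstance, P, hP, hPp, e.symm, fun x => ?_⟩
  rw [RingEquiv.symm_apply_eq]
  exact (hψp x).symm

end Groth.Agent.Flat2E.EtaleResField
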