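import Groth.Agent.Flat2E.EtaleResField
import Mathlib.RingTheory.Etale.QuasiFinite
import Mathlib.FieldTheory.PurelyInseparable.PerfectClosure
import Mathlib.FieldTheory.Galois.Basic
import Mathlib.RingTheory.Unramified.LocalStructure
import Mathlib.FieldTheory.IsAlgClosed.AlgebraicClosure

/-!
# Splitting integral algebras by étale base change: auxiliary results
-/

set_option autoImplicit false
universe u v w

namespace Groth.Agent.Flat2E.SplitIntegral

open Polynomial TensorProduct

/-- If the minimal polynomials of all separable elements of `K/k` split in `L`, and `K` and `L` both map to `M` over `k`,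
then some `ℓ^n`-th power of every element of `K` lands in the image of `L`. -/
theorem exists_pow_mem_range {k K L M : Type*} [Field k] [Field K] [Field L] [Field M] [Algebra k K] [Algebra k L]
    [Algebra.IsAlgebraic k K] (χ : K →+* M) (ρ : L →+* M)
    (h : χ.comp (algebraMap k K) = ρ.comp (algebraMap k L)) (ℓ : ℕ) [ExpChar k ℓ]
    (hs : ∀ y : K, IsSeparable k y → ((minpoly k y).map (algebraMap k L)).Splits) (x : K) :
    ∃ n : ℕ, χ x ^ ℓ ^ n ∈ ρ.range := by
  have : ExpChar (separableClosure k K) ℓ := expChar_of_injective_algebraMap (algebraMap k _).injective ℓ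
  obtain ⟨n, y, hy⟩ := IsPurelyInseparable.pow_mem (separableClosure k K) ℓ x
  refine ⟨n, ?_⟩
  rw [← map_pow, ← hy]
  have hysep : IsSeparable k (y : K) := mem_separableClosure_iff.mp y.2
  have hyint : IsIntegral k (y : K) := Algebra.IsIntegral.isIntegral _
  refine (hs y hysep).mem_range_of_isRoot ((minpoly.monic hyint).map _).ne_zero ?_
  rw [Polynomial.map_map, ← h, ← Polynomial.map_map, Polynomial.IsRoot, Polynomial.eval_map,
    show algebraMap (separableClosure k K) K y = (y : K) from rfl, Polynomial.eval₂_hom,
    Polynomial.eval_map_algebraMap, minpoly.aeval, map_zero]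

/-- A finite Galois extension in which the minimal polynomials of all separable elements of finitely many given
extensions (with finite separable closure) split. -/
theorem exists_finite_separable_splits (k : Type u) [Field k] {ι : Type w} [Finite ι] (K : ι → Type v)
    [∀ i, Field (K i)] [∀ i, Algebra k (K i)] [∀ i, Module.Finite k (separableClosure k (K i))] :
    ∃ L : IntermediateField k (AlgebraicClosure k), FiniteDimensional k L ∧ Algebra.IsSeparable k L ∧
      ∀ (i : ι) (y : K i), IsSeparable k y → ((minpoly k y).map (algebraMap k L)).Splits := by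
  classical
  let σ : ∀ i, separableClosure k (K i) →ₐ[k] AlgebraicClosure k := fun i => IsAlgClosed.lift
  let E : IntermediateField k (AlgebraicClosure k) := ⨆ i, (σ i).fieldRange
  have h1 : ∀ i, FiniteDimensional k (σ i).fieldRange := fun i =>
    Module.Finite.equiv (AlgEquiv.ofInjectiveField (σ i)).toLinearEquiv
  have h2 : ∀ i, Algebra.IsSeparable k (σ i).fieldRange := fun i =>
    AlgEquiv.Algebra.isSeparable (AlgEquiv.ofInjectiveField (σ i))
  have h3 : FiniteDimensional k E := IntermediateField.finiteDimensional_iSup_of_finite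
  have h4 : Algebra.IsSeparable k E := IntermediateField.isSeparable_iSup _ _
  have h6 : Algebra.IsSeparable k (IntermediateField.normalClosure k E (AlgebraicClosure k)) := by
    have : ∀ f : E →ₐ[k] AlgebraicClosure k, Algebra.IsSeparable k f.fieldRange := fun f =>
      AlgEquiv.Algebra.isSeparable (AlgEquiv.ofInjectiveField f)
    exact IntermediateField.isSeparable_iSup _ _
  refine ⟨IntermediateField.normalClosure k E (AlgebraicClosure k), inferInstance, h6, ?_⟩
  intro i y hy
  let y' : separableClosure k (K i) := ⟨y, mem_separableClosure_iff.mpr hy⟩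
  have hy' : minpoly k y = minpoly k y' :=
    (minpoly.algebraMap_eq (algebraMap (separableClosure k (K i)) (K i)).injective y')
  have hmem : σ i y' ∈ IntermediateField.normalClosure k E (AlgebraicClosure k) := by
    refine E.le_normalClosure ?_
    exact (le_iSup (fun i => (σ i).fieldRange) i) ⟨y', rfl⟩
  have h5 : minpoly k y' = minpoly k (⟨σ i y', hmem⟩ : IntermediateField.normalClosure k E (AlgebraicClosure k)) := by
    rw [← minpoly.algebraMap_eq (algebraMap (IntermediateField.normalClosure k E (AlgebraicClosure k))
      (AlgebraicClosure k)).injective]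
    exact (minpoly.algHom_eq (σ i) (σ i).injective y').symm
  rw [hy', h5]
  exact Normal.splits inferInstance _

/-- Criterion for a residue field to be purely inseparable over a subfield. -/
theorem isPurelyInseparable_residueField {F : Type*} [Field F] {A : Type*} [CommRing A] (r : Ideal A) [r.IsPrime]
    [Algebra F r.ResidueField] (ℓ : ℕ) [ExpChar F ℓ] (T : Set A) (hT : Subring.closure T = ⊤)
    (h : ∀ t ∈ T, ∃ n : ℕ, algebraMap A r.ResidueField t ^ ℓ ^ n ∈ (algebraMap F r.ResidueField).range) :
    IsPurelyInseparable F r.ResidueField := by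
  rw [isPurelyInseparable_iff_perfectClosure_eq_top, eq_top_iff]
  have key : ∀ a : A, algebraMap A r.ResidueField a ∈ perfectClosure F r.ResidueField := by
    intro a
    have ha : a ∈ (perfectClosure F r.ResidueField).toSubring.comap (algebraMap A r.ResidueField) := by
      have : Subring.closure T ≤ (perfectClosure F r.ResidueField).toSubring.comap (algebraMap A r.ResidueField) := by
        rw [Subring.closure_le]
        intro t ht
        exact (mem_perfectClosure_iff_pow_mem ℓ).mpr (h t ht)
      rw [hT] at this
      exact this trivial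
    exact ha
  intro x _
  obtain ⟨a, b, hb, rfl⟩ := IsFractionRing.div_surjective (A := A ⧸ r) x
  obtain ⟨a, rfl⟩ := Ideal.Quotient.mk_surjective a
  obtain ⟨b, rfl⟩ := Ideal.Quotient.mk_surjective b
  exact div_mem (key a) (key b)

/-- Assembling a decomposition of an integral algebra `B` over `R'` into factors with exactly one prime over `P` from complete
orthogonal idempotents. -/
theorem assemble {R' B : Type u} [CommRing R'] [CommRing B] [Algebra R' B] [Algebra.IsIntegral R' B]
    (P : Ideal R') [P.IsPrime] (ℓ : ℕ) [ExpChar P.ResidueField ℓ] (n : ℕ) (e : Fin n → B)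
    (he : CompleteOrthogonalIdempotents e)
    (hex : ∀ j, ∃ Q : Ideal B, Q.IsPrime ∧ Q.comap (algebraMap R' B) = P ∧ e j ∉ Q)
    (huniq : ∀ (j : Fin n) (Q Q' : Ideal B), Q.IsPrime → Q'.IsPrime → Q.comap (algebraMap R' B) = P →
      Q'.comap (algebraMap R' B) = P → e j ∉ Q → e j ∉ Q' → Q = Q')
    (T : Set B) (hT : Subring.closure T = ⊤)
    (hpi : ∀ (M : Type u) [Field M] (χ : B →+* M) (ρ : P.ResidueField →+* M),
      χ.comp (algebraMap R' B) = ρ.comp (algebraMap R' P.ResidueField) →
        ∀ t ∈ T, ∃ n : ℕ, χ t ^ ℓ ^ n ∈ ρ.range) :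
    ∃ (m : ℕ) (A : Fin m → Type u) (_ : ∀ j, CommRing (A j)) (_ : ∀ j, Algebra R' (A j)) (_ : B ≃ₐ[R'] (Π j, A j)),
      ∀ j, Algebra.IsIntegral R' (A j) ∧ ∃ (r : PrimeSpectrum (A j)) (hr : r.asIdeal.comap (algebraMap R' (A j)) = P),
        (∀ r' : PrimeSpectrum (A j), r'.asIdeal.comap (algebraMap R' (A j)) = P → r' = r) ∧
        letI := (Ideal.ResidueField.map P r.asIdeal (algebraMap R' (A j)) hr.symm).toAlgebra
        IsPurelyInseparable P.ResidueField r.asIdeal.ResidueField := by
  let A : Fin n → Type u := fun j => B ⧸ Ideal.span {1 - e j}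
  let f : B →ₐ[R'] (Π j, A j) := AlgHom.pi fun j => Ideal.Quotient.mkₐ R' (Ideal.span {1 - e j})
  have hf : Function.Bijective f := he.bijective_pi
  refine ⟨n, A, inferInstance, inferInstance, AlgEquiv.ofBijective f hf, fun j => ⟨?_, ?_⟩⟩
  · exact Algebra.IsIntegral.of_surjective (Ideal.Quotient.mkₐ R' (Ideal.span {1 - e j}))
      Ideal.Quotient.mk_surjective
  · obtain ⟨Q, hQ, hQP, heQ⟩ := hex j
    have hle : ∀ Q' : Ideal B, Q'.IsPrime → e j ∉ Q' → Ideal.span {1 - e j} ≤ Q' := by
      intro Q' hQ' hj
      rw [Ideal.span_singleton_le_iff_mem]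
      have : e j * (1 - e j) ∈ Q' := by
        rw [mul_sub, mul_one, he.idem j, sub_self]; exact zero_mem _
      exact (hQ'.mem_or_mem this).resolve_left hj
    have hle' : ∀ Q' : Ideal B, Q'.IsPrime → Ideal.span {1 - e j} ≤ Q' → e j ∉ Q' := by
      intro Q' hQ' hj h
      rw [Ideal.span_singleton_le_iff_mem] at hj
      exact hQ'.ne_top ((Ideal.eq_top_iff_one _).mpr (by simpa using add_mem hj h))
    have hker : RingHom.ker (Ideal.Quotient.mk (Ideal.span {1 - e j})) ≤ Q := by
      rw [Ideal.mk_ker]; exact hle Q hQ heQ
    let r : PrimeSpectrum (A j) := ⟨Q.map (Ideal.Quotient.mk (Ideal.span {1 - e j})),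
      Ideal.map_isPrime_of_surjective Ideal.Quotient.mk_surjective hker⟩
    have hrp : r.asIdeal.IsPrime := r.isPrime
    have hrQ : r.asIdeal.comap (Ideal.Quotient.mk (Ideal.span {1 - e j})) = Q := by
      change (Q.map _).comap _ = Q
      rw [Ideal.comap_map_of_surjective _ Ideal.Quotient.mk_surjective, sup_eq_left,
        ← RingHom.ker_eq_comap_bot]
      exact hker
    have halg : algebraMap R' (A j) = (Ideal.Quotient.mk (Ideal.span {1 - e j})).comp (algebraMap R' B) := rfl
    have hr : r.asIdeal.comap (algebraMap R' (A j)) = P := by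
      rw [halg, ← Ideal.comap_comap, hrQ, hQP]
    refine ⟨r, hr, ?_, ?_⟩
    · intro r' hr'
      apply PrimeSpectrum.ext
      have h1 : r'.asIdeal.comap (Ideal.Quotient.mk (Ideal.span {1 - e j})) = Q := by
        refine huniq j _ _ inferInstance hQ ?_ hQP ?_ heQ
        · rw [Ideal.comap_comap, ← halg, hr']
        · refine hle' _ inferInstance ?_
          rw [Ideal.span_singleton_le_iff_mem, Ideal.mem_comap,
            Ideal.Quotient.eq_zero_iff_mem.mpr (Ideal.mem_span_singleton_self _)]
          exact zero_mem _
      have h2 : r'.asIdeal = (r'.asIdeal.comap (Ideal.Quotient.mk (Ideal.span {1 - e j}))).map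
          (Ideal.Quotient.mk (Ideal.span {1 - e j})) :=
        (Ideal.map_comap_of_surjective _ Ideal.Quotient.mk_surjective _).symm
      rw [h2, h1]
    · let ρ := Ideal.ResidueField.map P r.asIdeal (algebraMap R' (A j)) hr.symm
      let := ρ.toAlgebra
      let χ : B →+* r.asIdeal.ResidueField :=
        (algebraMap (A j) r.asIdeal.ResidueField).comp (Ideal.Quotient.mk (Ideal.span {1 - e j}))
      refine isPurelyInseparable_residueField r.asIdeal ℓ ((Ideal.Quotient.mk (Ideal.span {1 - e j})) '' T) ?_ ?_
      · rw [← RingHom.map_closure, hT]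
        exact (RingHom.range_eq_map _).symm.trans (RingHom.range_eq_top.mpr Ideal.Quotient.mk_surjective)
      · rintro _ ⟨t, ht, rfl⟩
        refine hpi r.asIdeal.ResidueField χ ρ ?_ t ht
        ext x
        simp only [χ, ρ, RingHom.comp_apply, Ideal.ResidueField.map_algebraMap]
        rfl

/-- Ring homomorphisms out of a tensor product. -/
theorem exists_ringHom_tensorProduct {R A B M : Type*} [CommRing R] [CommRing A] [CommRing B] [CommRing M]
    [Algebra R A] [Algebra R B] (a : A →+* M) (b : B →+* M)
    (h : a.comp (algebraMap R A) = b.comp (algebraMap R B)) :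
    ∃ c : A ⊗[R] B →+* M, (∀ x : A, c (x ⊗ₜ 1) = a x) ∧ ∀ y : B, c (1 ⊗ₜ y) = b y := by
  let _ : Algebra R M := (a.comp (algebraMap R A)).toAlgebra
  let a' : A →ₐ[R] M := { a with commutes' := fun _ => rfl }
  let b' : B →ₐ[R] M := { b with commutes' := fun r => (RingHom.congr_fun h r).symm }
  refine ⟨(Algebra.TensorProduct.lift a' b' (fun _ _ => Commute.all _ _)).toRingHom, fun x => ?_, fun y => ?_⟩
  · change Algebra.TensorProduct.lift a' b' (fun _ _ => Commute.all _ _) (x ⊗ₜ 1) = _
    rw [Algebra.TensorProduct.lift_tmul, map_one, mul_one]; rfl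
  · change Algebra.TensorProduct.lift a' b' (fun _ _ => Commute.all _ _) (1 ⊗ₜ y) = _
    rw [Algebra.TensorProduct.lift_tmul, map_one, one_mul]; rfl

/-- Existence of a prime of a tensor product over two given primes with the same contraction. -/
theorem exists_prime_tensorProduct {R A B : Type*} [CommRing R] [CommRing A] [CommRing B] [Algebra R A] [Algebra R B]
    (P : Ideal A) [P.IsPrime] (Q : Ideal B) [Q.IsPrime]
    (h : P.comap (algebraMap R A) = Q.comap (algebraMap R B)) :
    ∃ J : Ideal (A ⊗[R] B), J.IsPrime ∧ J.comap (algebraMap A (A ⊗[R] B)) = P ∧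
      J.comap (Algebra.TensorProduct.includeRight : B →ₐ[R] A ⊗[R] B).toRingHom = Q := by
  let p : Ideal R := P.comap (algebraMap R A)
  let _ : Algebra p.ResidueField P.ResidueField := (Ideal.ResidueField.map p P (algebraMap R A) rfl).toAlgebra
  let _ : Algebra p.ResidueField Q.ResidueField := (Ideal.ResidueField.map p Q (algebraMap R B) h).toAlgebra
  obtain ⟨m, hm⟩ := Ideal.exists_maximal (P.ResidueField ⊗[p.ResidueField] Q.ResidueField)
  let a : P.ResidueField →+* (P.ResidueField ⊗[p.ResidueField] Q.ResidueField) ⧸ m := (Ideal.Quotient.mk m).comp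
    (Algebra.TensorProduct.includeLeftRingHom : P.ResidueField →+* P.ResidueField ⊗[p.ResidueField] Q.ResidueField)
  let b : Q.ResidueField →+* (P.ResidueField ⊗[p.ResidueField] Q.ResidueField) ⧸ m := (Ideal.Quotient.mk m).comp
    (Algebra.TensorProduct.includeRight : Q.ResidueField →ₐ[p.ResidueField] P.ResidueField ⊗[p.ResidueField] Q.ResidueField).toRingHom
  have hab : a.comp (algebraMap p.ResidueField P.ResidueField) = b.comp (algebraMap p.ResidueField Q.ResidueField) := by
    apply RingHom.ext
    intro y
    change Ideal.Quotient.mk m _ = Ideal.Quotient.mk m _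
    congr 1
    exact RingHom.congr_fun (Algebra.TensorProduct.includeLeftRingHom_comp_algebraMap (R := p.ResidueField)
      (A := P.ResidueField) (B := Q.ResidueField)) y
  obtain ⟨c, hc1, hc2⟩ := exists_ringHom_tensorProduct (R := R)
    (a.comp (algebraMap A P.ResidueField)) (b.comp (algebraMap B Q.ResidueField)) (by
      apply RingHom.ext
      intro r
      have h1 : algebraMap A P.ResidueField (algebraMap R A r) =
          algebraMap p.ResidueField P.ResidueField (algebraMap R p.ResidueField r) :=
        (Ideal.ResidueField.map_algebraMap p P (algebraMap R A) rfl r).symm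
      have h2 : algebraMap B Q.ResidueField (algebraMap R B r) =
          algebraMap p.ResidueField Q.ResidueField (algebraMap R p.ResidueField r) :=
        (Ideal.ResidueField.map_algebraMap p Q (algebraMap R B) h r).symm
      simp only [RingHom.comp_apply]
      rw [h1, h2]
      exact RingHom.congr_fun hab _)
  have hnt : Nontrivial ((P.ResidueField ⊗[p.ResidueField] Q.ResidueField) ⧸ m) :=
    Ideal.Quotient.nontrivial_iff.mpr hm.ne_top
  have hprime : (RingHom.ker c).IsPrime := RingHom.ker_isPrime c
  refine ⟨RingHom.ker c, hprime, ?_, ?_⟩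
  · ext x
    rw [Ideal.mem_comap, RingHom.mem_ker, Algebra.TensorProduct.algebraMap_apply, Algebra.algebraMap_self_apply, hc1,
      RingHom.comp_apply, map_eq_zero_iff _ a.injective, Ideal.algebraMap_residueField_eq_zero]
  · ext x
    rw [Ideal.mem_comap, RingHom.mem_ker]
    change c (1 ⊗ₜ x) = 0 ↔ _
    rw [hc2, RingHom.comp_apply, map_eq_zero_iff _ b.injective, Ideal.algebraMap_residueField_eq_zero]

/-- Powers of the elements of `S` in a common field extension `M` of `L` and of a residue field of `S` over `p`, when the
minimal polynomials over `κ(p)` of separable elements of the residue fields of `S` over `p` split in `L`. -/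
theorem pow_mem_range_of_splits {R S : Type*} [CommRing R] [CommRing S] [Algebra R S] [Algebra.IsIntegral R S]
    (p : Ideal R) [p.IsPrime] (L : Type*) [Field L] [Algebra p.ResidueField L] (ℓ : ℕ) [ExpChar p.ResidueField ℓ]
    (hL : ∀ (q : PrimeSpectrum S) (hq : q.asIdeal.comap (algebraMap R S) = p),
      letI := (Ideal.ResidueField.map p q.asIdeal (algebraMap R S) hq.symm).toAlgebra
      ∀ y : q.asIdeal.ResidueField, IsSeparable p.ResidueField y →
        ((minpoly p.ResidueField y).map (algebraMap p.ResidueField L)).Splits)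
    {M : Type*} [Field M] (χ : S →+* M) (ρ : L →+* M)
    (h : χ.comp (algebraMap R S) = (ρ.comp (algebraMap p.ResidueField L)).comp (algebraMap R p.ResidueField)) (s : S) :
    ∃ n : ℕ, χ s ^ ℓ ^ n ∈ ρ.range := by
  have hprime : (RingHom.ker χ).IsPrime := RingHom.ker_isPrime χ
  have hq : (RingHom.ker χ).comap (algebraMap R S) = p := by
    ext x
    rw [Ideal.mem_comap, RingHom.mem_ker, ← RingHom.comp_apply, h, RingHom.comp_apply, map_eq_zero,
      Ideal.algebraMap_residueField_eq_zero]
  let q : Ideal S := RingHom.ker χ
  let _ : Algebra p.ResidueField q.ResidueField := (Ideal.ResidueField.map p q (algebraMap R S) hq.symm).toAlgebra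
  let χ' : q.ResidueField →+* M := Ideal.ResidueField.lift q χ le_rfl (fun x hx => IsUnit.mk0 _ (fun h => hx h))
  have hχ' : ∀ x : S, χ' (algebraMap S q.ResidueField x) = χ x := fun x => Ideal.ResidueField.lift_algebraMap q χ _ _ x
  have hcomp : χ'.comp (algebraMap p.ResidueField q.ResidueField) = ρ.comp (algebraMap p.ResidueField L) := by
    apply Ideal.ResidueField.ringHom_ext
    rw [← h]
    apply RingHom.ext
    intro r
    simp only [RingHom.comp_apply]
    rw [← hχ']
    congr 1
    exact Ideal.ResidueField.map_algebraMap p q (algebraMap R S) hq.symm r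
  have halg : Algebra.IsAlgebraic p.ResidueField q.ResidueField := by
    have key : ∀ a : S, algebraMap S q.ResidueField a ∈ algebraicClosure p.ResidueField q.ResidueField := by
      intro a
      rw [mem_algebraicClosure_iff]
      obtain ⟨F, hF, hFa⟩ := Algebra.IsIntegral.isIntegral (R := R) a
      refine ⟨F.map (algebraMap R p.ResidueField), (hF.map _).ne_zero, ?_⟩
      rw [Polynomial.aeval_def, Polynomial.eval₂_map]
      have : (algebraMap p.ResidueField q.ResidueField).comp (algebraMap R p.ResidueField) =
          (algebraMap S q.ResidueField).comp (algebraMap R S) := by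
        apply RingHom.ext
        intro r
        exact Ideal.ResidueField.map_algebraMap p q (algebraMap R S) hq.symm r
      rw [this, ← Polynomial.hom_eval₂, hFa, map_zero]
    constructor
    intro x
    rw [← mem_algebraicClosure_iff]
    obtain ⟨a, b, hb, rfl⟩ := IsFractionRing.div_surjective (A := S ⧸ q) x
    obtain ⟨a, rfl⟩ := Ideal.Quotient.mk_surjective a
    obtain ⟨b, rfl⟩ := Ideal.Quotient.mk_surjective b
    exact div_mem (key a) (key b)
  obtain ⟨n, hn⟩ := exists_pow_mem_range (k := p.ResidueField) χ' ρ hcomp ℓ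
    (hL ⟨q, hprime⟩ hq) (algebraMap S q.ResidueField s)
  exact ⟨n, by rwa [hχ'] at hn⟩

end Groth.Agent.Flat2E.SplitIntegral
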