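import Mathlib.RingTheory.Localization.Integral
import Mathlib.RingTheory.Polynomial.ScaleRoots
import Mathlib.FieldTheory.IsAlgClosed.Basic
import Mathlib.RingTheory.Localization.AtPrime.Basic
import Mathlib.RingTheory.IntegralClosure.IntegrallyClosed
import Mathlib.RingTheory.Localization.Away.Basic
import Mathlib.FieldTheory.IsAlgClosed.AlgebraicClosure
import Mathlib.RingTheory.LocalRing.ResidueField.Ideal

/-! # Rings in which every monic polynomial has a root -/

set_option autoImplicit false

universe u v

open Polynomial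

namespace Groth.Agent.Flat2E.AIC1

/-- `B` is absolutely integrally closed in the weak sense: every monic polynomial of nonzero degree has a root. -/
def IsAIC (B : Type u) [CommRing B] : Prop :=
  ∀ p : B[X], p.Monic → p.natDegree ≠ 0 → ∃ x, p.IsRoot x

theorem IsAIC.exists_multiset {B : Type u} [CommRing B] (h : IsAIC B) (n : ℕ) :
    ∀ p : B[X], p.Monic → p.natDegree = n → ∃ s : Multiset B, p = (s.map fun a => X - C a).prod := by
  induction n with
  | zero =>
    intro p hp hn
    refine ⟨0, ?_⟩
    simpa using (hp.natDegree_eq_zero).1 hn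
  | succ n ih =>
    intro p hp hn
    nontriviality B
    obtain ⟨x, hx⟩ := h p hp (by omega)
    obtain ⟨q, hq⟩ := dvd_iff_isRoot.mpr hx
    have hqm : q.Monic := (monic_X_sub_C x).of_mul_monic_left (hq ▸ hp)
    have hqd : q.natDegree = n := by
      have := congrArg natDegree hq
      rw [(monic_X_sub_C x).natDegree_mul hqm, natDegree_X_sub_C] at this
      omega
    obtain ⟨s, hs⟩ := ih q hqm hqd
    exact ⟨x ::ₘ s, by rw [hq, hs]; simp⟩

theorem IsAIC.splits {B : Type u} [CommRing B] (h : IsAIC B) (p : B[X]) (hp : p.Monic) :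
    ∃ s : Multiset B, p = (s.map fun a => X - C a).prod :=
  h.exists_multiset _ p hp rfl

theorem IsAIC.of_surjective {B : Type u} {C : Type v} [CommRing B] [CommRing C] (h : IsAIC B)
    (f : B →+* C) (hf : Function.Surjective f) : IsAIC C := by
  intro p hp hn
  nontriviality C
  have : Nontrivial B := f.domain_nontrivial
  obtain ⟨q, hq, hd, hqm⟩ := lifts_and_natDegree_eq_and_monic (f := f) (p := p)
    ((mem_lifts p).2 (Polynomial.map_surjective f hf p)) hp
  obtain ⟨x, hx⟩ := h q hqm (by omega)
  exact ⟨f x, by rw [← hq]; exact hx.map⟩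

theorem IsAIC.of_isLocalization {B : Type u} {C : Type v} [CommRing B] [CommRing C] [Algebra B C]
    (M : Submonoid B) [IsLocalization M C] (h : IsAIC B) : IsAIC C := by
  intro p hp hn
  nontriviality C
  have : Nontrivial B := (algebraMap B C).domain_nontrivial
  set c := IsLocalization.commonDenom M p.support p.coeff with hc
  have h1 := IsLocalization.scaleRoots_commonDenom_mem_lifts (R := B) M p
    (by rw [hp.leadingCoeff]; exact one_mem _)
  obtain ⟨q, hq, hd, hqm⟩ := lifts_and_natDegree_eq_and_monic h1 ((monic_scaleRoots_iff _).2 hp)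
  rw [natDegree_scaleRoots] at hd
  obtain ⟨x, hx⟩ := h q hqm (by omega)
  have hx' : (p.scaleRoots (algebraMap B C c)).IsRoot (algebraMap B C x) := by
    rw [← hq]; exact hx.map
  obtain ⟨y, hy⟩ := IsLocalization.map_units C c
  refine ⟨algebraMap B C x * ↑(y⁻¹), ?_⟩
  have h2 := Polynomial.scaleRoots_eval_mul p (algebraMap B C x * ↑(y⁻¹)) (algebraMap B C c)
  have h3 : algebraMap B C c * (algebraMap B C x * ↑(y⁻¹)) = algebraMap B C x := by
    rw [← hy, mul_comm, mul_assoc, Units.inv_mul, mul_one]
  rw [h3, hx'.eq_zero] at h2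
  have h4 : IsUnit ((algebraMap B C c) ^ p.natDegree) := (IsLocalization.map_units C c).pow _
  exact (h4.mul_right_eq_zero).1 h2.symm

/-- the fraction field of an AIC domain is algebraically closed -/
theorem IsAIC.isAlgClosed {B : Type u} {K : Type v} [CommRing B] [Field K] [Algebra B K]
    (M : Submonoid B) [IsLocalization M K] (h : IsAIC B) : IsAlgClosed K := by
  refine IsAlgClosed.of_exists_root K fun p hp hirr => ?_
  exact (h.of_isLocalization M) p hp hirr.natDegree_pos.ne'

theorem IsAIC.isIntegrallyClosed {B : Type u} [CommRing B] [IsDomain B] (h : IsAIC B) :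
    IsIntegrallyClosed B := by
  rw [isIntegrallyClosed_iff (FractionRing B)]
  intro x hx
  obtain ⟨p, hp, hpx⟩ := hx
  obtain ⟨s, rfl⟩ := h.splits p hp
  rw [← aeval_def, map_multiset_prod, Multiset.prod_eq_zero_iff, Multiset.mem_map] at hpx
  obtain ⟨q, hq, hqx⟩ := hpx
  rw [Multiset.mem_map] at hq
  obtain ⟨a, -, rfl⟩ := hq
  refine ⟨a, ?_⟩
  rw [aeval_sub, aeval_X, aeval_C, sub_eq_zero] at hqx
  exact hqx.symm

/-- the residue field of an AIC ring at a prime is algebraically closed -/
theorem IsAIC.isAlgClosed_residueField {B : Type u} [CommRing B] (h : IsAIC B) (q : Ideal B) [q.IsPrime] :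
    IsAlgClosed q.ResidueField := by
  have h1 : IsAIC (B ⧸ q) := h.of_surjective _ Ideal.Quotient.mk_surjective
  exact h1.isAlgClosed (nonZeroDivisors (B ⧸ q))

end Groth.Agent.Flat2E.AIC1
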