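import Groth.Agent.Flat2E.AIC1
import Mathlib.RingTheory.Unramified.LocalStructure
import Mathlib.RingTheory.QuasiFinite.Basic

/-! # Etale algebras have local sections over rings in which monic polynomials split -/

set_option autoImplicit false

universe u v

open Polynomial Groth.Agent.Flat2E.AIC1

namespace Groth.Agent.Flat2E.AIC2

theorem exists_algHom_of_etale {A B E : Type u} [CommRing A] [CommRing B] [CommRing E]
    [Algebra A B] [Algebra A E] [Algebra.Etale A E] (h : IsAIC B) (q : Ideal B) [q.IsPrime]
    (Q : Ideal E) [Q.IsPrime] (hQ : Q.under A = q.under A) :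
    ∃ b ∉ q, Nonempty (E →ₐ[A] Localization.Away b) := by
  obtain ⟨c, hc, hstd⟩ := Algebra.IsEtaleAt.exists_isStandardEtale (R := A) Q
  obtain ⟨⟨P⟩⟩ := hstd
  have : IsAlgClosed q.ResidueField := h.isAlgClosed_residueField q
  have : q.LiesOver (q.under A) := ⟨rfl⟩
  have : Q.LiesOver (q.under A) := ⟨hQ.symm⟩
  let := Localization.AtPrime.algebraOfLiesOver (q.under A) q
  let := Localization.AtPrime.algebraOfLiesOver (q.under A) Q
  let j : Q.ResidueField →ₐ[(q.under A).ResidueField] q.ResidueField := IsAlgClosed.lift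
  let j' : Q.ResidueField →ₐ[A] q.ResidueField := j.restrictScalars A
  let ψ : E →ₐ[A] q.ResidueField := j'.comp (IsScalarTower.toAlgHom A E Q.ResidueField)
  have hψ : IsUnit (ψ c) := by
    have : IsUnit (algebraMap E Q.ResidueField c) := by
      rw [isUnit_iff_ne_zero, Ne, Ideal.algebraMap_residueField_eq_zero]
      exact hc
    exact this.map j'
  let φ : Localization.Away c →ₐ[A] q.ResidueField := IsLocalization.Away.liftAlgHom c hψ
  have hm := P.hasMap.map φ
  obtain ⟨s, hs⟩ := h.splits (P.f.map (algebraMap A B)) (P.monic_f.map _)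
  have h1 : (((s.map fun a => X - C a).prod).map (algebraMap B q.ResidueField)).eval (φ P.x) = 0 := by
    rw [← hs, Polynomial.map_map, ← IsScalarTower.algebraMap_eq, eval_map_algebraMap]
    exact hm.1
  rw [Polynomial.map_multiset_prod, eval_multiset_prod, Multiset.map_map, Multiset.map_map,
    Multiset.prod_eq_zero_iff, Multiset.mem_map] at h1
  obtain ⟨a, has, ha⟩ := h1
  have ha' : algebraMap B q.ResidueField a = φ P.x := by
    simp only [Function.comp_apply, Polynomial.map_sub, map_X, map_C, eval_sub, eval_X, eval_C] at ha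
    exact (sub_eq_zero.1 ha).symm
  have hroot : aeval a P.f = 0 := by
    rw [← eval_map_algebraMap, hs, ← IsRoot.def, ← dvd_iff_isRoot]
    exact Multiset.dvd_prod (Multiset.mem_map_of_mem _ has)
  have hb : aeval a P.g ∉ q := by
    rw [← Ideal.algebraMap_residueField_eq_zero, ← aeval_algebraMap_apply, ha']
    exact hm.2.ne_zero
  refine ⟨aeval a P.g, hb, ⟨?_⟩⟩
  have hmap : P.HasMap (algebraMap B (Localization.Away (aeval a P.g)) a) := by
    refine ⟨?_, ?_⟩
    · rw [aeval_algebraMap_apply, hroot, map_zero]
    · rw [aeval_algebraMap_apply]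
      exact IsLocalization.Away.algebraMap_isUnit _
  exact ((P.lift _ hmap).comp P.equivRing.toAlgHom).comp
    (IsScalarTower.toAlgHom A E (Localization.Away c))

end Groth.Agent.Flat2E.AIC2
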