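import Mathlib.RingTheory.FinitePresentation
import Mathlib.RingTheory.Localization.AtPrime.Basic
import Mathlib.RingTheory.Localization.Away.Basic
import Mathlib.RingTheory.Localization.Integer
import Mathlib.RingTheory.Ideal.Quotient.Operations

/-! # Spreading out an algebra map from a localization at a prime -/

set_option autoImplicit false

universe u v w

open MvPolynomial

namespace Groth.Agent.Flat2E.AIC3

/-- A `B`-algebra map from a finitely presented algebra to `B_q` is defined over some `B_b`, `b ∉ q`. -/
theorem exists_algHom_away {B : Type u} {E : Type v} [CommRing B] [CommRing E] [Algebra B E]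
    [Algebra.FinitePresentation B E] (q : Ideal B) [q.IsPrime] (φ : E →ₐ[B] Localization.AtPrime q) :
    ∃ b ∉ q, Nonempty (E →ₐ[B] Localization.Away b) := by
  classical
  obtain ⟨n, π, hπ, T, hT⟩ := Algebra.FinitePresentation.out (R := B) (A := E)
  obtain ⟨s, hs⟩ := IsLocalization.exist_integer_multiples q.primeCompl Finset.univ
    (fun i : Fin n => φ (π (X i)))
  choose a ha using fun i => hs i (Finset.mem_univ i)
  let ψ : MvPolynomial (Fin n) B →ₐ[B] Localization.Away (s : B) :=
    aeval (fun i => IsLocalization.mk' _ (a i) (⟨s, Submonoid.mem_powers _⟩ : Submonoid.powers (s : B)))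
  have hu : IsUnit (algebraMap B (Localization.AtPrime q) s) := IsLocalization.map_units _ s
  let j : Localization.Away (s : B) →ₐ[B] Localization.AtPrime q :=
    IsLocalization.Away.liftAlgHom (f := Algebra.ofId B (Localization.AtPrime q)) (s : B) hu
  have hj : j.comp ψ = φ.comp π := by
    refine MvPolynomial.algHom_ext fun i => ?_
    have h1 : algebraMap B (Localization.AtPrime q) s * j (ψ (X i)) =
        algebraMap B (Localization.AtPrime q) s * φ (π (X i)) := by
      have h2 := ha i
      simp only [Algebra.smul_def] at h2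
      rw [← h2, ← j.commutes (s : B), ← map_mul]
      simp only [ψ, aeval_X]
      rw [IsLocalization.mk'_spec'_mk, j.commutes]
    exact hu.mul_left_cancel h1
  have hker : ∀ f : MvPolynomial (Fin n) B, π f = 0 → ∃ t : B, t ∉ q ∧ algebraMap B _ t * ψ f = 0 := by
    intro f hf
    have h1 : j (ψ f) = 0 := by
      have := DFunLike.congr_fun hj f
      simp only [AlgHom.comp_apply, hf, map_zero] at this
      exact this
    obtain ⟨c, ⟨_, k, rfl⟩, hc⟩ := IsLocalization.exists_mk'_eq (Submonoid.powers (s : B)) (ψ f)
    have h2 : algebraMap B (Localization.Away (s : B)) ((s : B) ^ k) * ψ f = algebraMap B _ c := by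
      rw [← hc]; exact IsLocalization.mk'_spec'_mk _ _ _ _
    have h3 : algebraMap B (Localization.AtPrime q) c = 0 := by
      rw [← j.commutes, ← h2, map_mul, h1, mul_zero]
    obtain ⟨⟨t, ht⟩, htc⟩ := (IsLocalization.map_eq_zero_iff q.primeCompl _ _).1 h3
    refine ⟨t * (s : B) ^ k, ?_, ?_⟩
    · exact q.primeCompl.mul_mem ht (q.primeCompl.pow_mem s.2 k)
    · rw [map_mul, mul_assoc, h2, ← map_mul]
      rw [show t * c = 0 from htc, map_zero]
  choose! t ht1 ht2 using hker
  have hTk : ∀ f ∈ T, π f = 0 := fun f hf => by
    have : f ∈ RingHom.ker π.toRingHom := hT ▸ Ideal.subset_span hf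
    exact this
  set t0 : B := ∏ f ∈ T, t f with ht0
  have ht0q : t0 ∉ q := by
    have : t0 ∈ q.primeCompl := Submonoid.prod_mem _ fun f hf => ht1 f (hTk f hf)
    exact this
  set b : B := (s : B) * t0 with hb
  have hbq : b ∉ q := q.primeCompl.mul_mem s.2 ht0q
  refine ⟨b, hbq, ⟨?_⟩⟩
  have hbu : IsUnit (algebraMap B (Localization.Away b) b) := IsLocalization.Away.algebraMap_isUnit b
  have hsu : IsUnit (algebraMap B (Localization.Away b) (s : B)) := by
    rw [hb, map_mul] at hbu
    exact isUnit_of_mul_isUnit_left hbu
  let l : Localization.Away (s : B) →ₐ[B] Localization.Away b :=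
    IsLocalization.Away.liftAlgHom (f := Algebra.ofId B (Localization.Away b)) (s : B) hsu
  refine AlgHom.liftOfSurjective π hπ (l.comp ψ) ?_
  have h4 : RingHom.ker π.toRingHom ≤ RingHom.ker (l.comp ψ).toRingHom := by
    rw [← hT, Ideal.span_le]
    intro f hf
    change l (ψ f) = 0
    have h5 : IsUnit (algebraMap B (Localization.Away b) (t f)) := by
      have : t f ∣ b := (Finset.dvd_prod_of_mem t hf).trans (Dvd.intro_left _ rfl)
      exact isUnit_of_dvd_unit (map_dvd (algebraMap B (Localization.Away b)) this) hbu
    have h6 : algebraMap B (Localization.Away b) (t f) * l (ψ f) = 0 := by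
      rw [← l.commutes, ← map_mul, ht2 f (hTk f hf), map_zero]
    exact (h5.mul_right_eq_zero).1 h6
  exact h4

end Groth.Agent.Flat2E.AIC3
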