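import Groth.Agent.Flat2E.AIC1
import Groth.Agent.Flat2E.AIC3
import Mathlib.RingTheory.Flat.Basic
import Mathlib.RingTheory.Flat.Stability
import Mathlib.RingTheory.TensorProduct.Finite
import Mathlib.FieldTheory.IsAlgClosed.Basic
import Mathlib.RingTheory.Spectrum.Prime.TensorProduct
import Mathlib.RingTheory.TensorProduct.Quotient
import Mathlib.RingTheory.Flat.Domain

/-! # Finite flat algebras have local sections over AIC rings whose local rings are domains -/

set_option autoImplicit false

universe u v w

open Groth.Agent.Flat2E.AIC1 TensorProduct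

namespace Groth.Agent.Flat2E.AIC4

/-- a nonzero integral algebra over an algebraically closed field has a point -/
theorem exists_point {K : Type u} {E : Type v} [Field K] [IsAlgClosed K] [CommRing E] [Algebra K E]
    [Algebra.IsIntegral K E] [Nontrivial E] : Nonempty (E →ₐ[K] K) := by
  obtain ⟨m, hm⟩ := Ideal.exists_maximal E
  let : Field (E ⧸ m) := Ideal.Quotient.field m
  have h1 : Algebra.IsIntegral K (E ⧸ m) := inferInstance
  have h2 := IsAlgClosed.algebraMap_bijective_of_isIntegral (k := K) (K := E ⧸ m)
  let e : K ≃ₐ[K] (E ⧸ m) := AlgEquiv.ofBijective (Algebra.ofId K (E ⧸ m)) h2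
  exact ⟨e.symm.toAlgHom.comp (Ideal.Quotient.mkₐ K m)⟩

/-- integral flat nonzero algebra over an AIC domain has a section -/
theorem exists_section {R : Type u} {E : Type u} [CommRing R] [IsDomain R] (h : IsAIC R)
    [CommRing E] [Algebra R E] [Algebra.IsIntegral R E] [Module.Flat R E] [Nontrivial E] :
    Nonempty (E →ₐ[R] R) := by
  have h1 : IsAlgClosed (FractionRing R) := h.isAlgClosed (nonZeroDivisors R)
  have h2 : IsIntegrallyClosed R := h.isIntegrallyClosed
  have hinj : Function.Injective (Algebra.TensorProduct.includeRight : E →ₐ[R] FractionRing R ⊗[R] E) := 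
    Algebra.TensorProduct.includeRight_injective (IsFractionRing.injective R (FractionRing R))
  have : Nontrivial (FractionRing R ⊗[R] E) := hinj.nontrivial
  obtain ⟨φ⟩ := exists_point (K := FractionRing R) (E := FractionRing R ⊗[R] E)
  let ψ : E →ₐ[R] FractionRing R := (φ.restrictScalars R).comp Algebra.TensorProduct.includeRight
  have hint : ∀ x, ∃ y, algebraMap R (FractionRing R) y = ψ x := fun x =>
    IsIntegrallyClosed.isIntegral_iff.1 ((Algebra.IsIntegral.isIntegral (R := R) x).map ψ)
  let e : R ≃ₐ[R] (⊥ : Subalgebra R (FractionRing R)) := (Algebra.botEquivOfInjective (IsFractionRing.injective R (FractionRing R))).symm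
  have hb : ∀ x, ψ x ∈ (⊥ : Subalgebra R (FractionRing R)) := fun x => by
    obtain ⟨y, hy⟩ := hint x
    exact Algebra.mem_bot.2 ⟨y, hy⟩
  exact ⟨e.symm.toAlgHom.comp (ψ.codRestrict _ hb)⟩

theorem exists_algHom_of_finite_flat {B : Type u} {E : Type u} [CommRing B] [CommRing E] [Algebra B E]
    (h : IsAIC B) (q : Ideal B) [q.IsPrime] [IsDomain (Localization.AtPrime q)]
    [Module.Finite B E] [Module.Flat B E] [Algebra.FinitePresentation B E]
    (hE : ∃ Q : Ideal E, Q.IsPrime ∧ Q.under B = q) : ∃ b ∉ q, Nonempty (E →ₐ[B] Localization.Away b) := by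
  have h1 : IsAIC (Localization.AtPrime q) := h.of_isLocalization q.primeCompl
  have : Nontrivial (Localization.AtPrime q ⊗[B] E) := by
    obtain ⟨Q, hQ, hQq⟩ := hE
    have hu : ∀ y : q.primeCompl, IsUnit (Algebra.ofId B Q.ResidueField (y : B)) := fun y => by
      rw [isUnit_iff_ne_zero]
      change algebraMap B Q.ResidueField (y : B) ≠ 0
      rw [IsScalarTower.algebraMap_apply B E Q.ResidueField, Ne, Ideal.algebraMap_residueField_eq_zero]
      intro hy
      exact y.2 (hQq ▸ hy)
    let f : Localization.AtPrime q →ₐ[B] Q.ResidueField :=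
      IsLocalization.liftAlgHom (M := q.primeCompl) (f := Algebra.ofId B Q.ResidueField) hu
    let g : E →ₐ[B] Q.ResidueField := IsScalarTower.toAlgHom B E Q.ResidueField
    exact (Algebra.TensorProduct.lift f g (fun _ _ => mul_comm _ _)).toRingHom.domain_nontrivial
  obtain ⟨φ⟩ := exists_section (R := Localization.AtPrime q) (E := Localization.AtPrime q ⊗[B] E) h1
  exact AIC3.exists_algHom_away q ((φ.restrictScalars B).comp Algebra.TensorProduct.includeRight)

end Groth.Agent.Flat2E.AIC4
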