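import Groth.Agent.Flat2E.AIC1
import Mathlib.FieldTheory.IsAlgClosed.Basic
import Mathlib.RingTheory.Localization.Integral
import Mathlib.RingTheory.IntegralClosure.IntegrallyClosed

/-! # The integral closure of a ring in a product of algebraically closed fields -/

set_option autoImplicit false

universe u v w

open Polynomial Groth.Agent.Flat2E.AIC1

namespace Groth.Agent.Flat2E.AIC5

section
variable {A : Type u} [CommRing A] {I : Type v} (K : I → Type w) [∀ i, Field (K i)]
  [∀ i, Algebra A (K i)]

theorem isAIC_integralClosure_pi [∀ i, IsAlgClosed (K i)] : IsAIC (integralClosure A (Π i, K i)) := by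
  intro p hp hn
  have h1 : ∀ i, ∃ x : K i, (p.map ((Pi.evalRingHom K i).comp
      (algebraMap (integralClosure A (Π i, K i)) (Π i, K i)))).IsRoot x := by
    intro i
    refine IsAlgClosed.exists_root _ ?_
    rw [hp.degree_map]
    exact degree_ne_of_natDegree_ne hn
  choose x hx using h1
  have hx' : eval₂ (algebraMap (integralClosure A (Π i, K i)) (Π i, K i)) x p = 0 := by
    funext i
    have h2 := hx i
    rw [IsRoot, eval_map] at h2
    have h3 := Polynomial.hom_eval₂ p (algebraMap (integralClosure A (Π i, K i)) (Π i, K i))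
      (Pi.evalRingHom K i) x
    exact h3.trans h2
  have hxi : IsIntegral A x := isIntegral_trans (R := A) (A := integralClosure A (Π i, K i)) x ⟨p, hp, hx'⟩
  refine ⟨⟨x, hxi⟩, ?_⟩
  have hinj : Function.Injective (algebraMap (integralClosure A (Π i, K i)) (Π i, K i)) :=
    Subtype.val_injective
  apply hinj
  rw [map_zero, ← hx']
  exact (Polynomial.eval₂_at_apply _ _).symm

open Classical in
/-- support idempotent -/
noncomputable def supp (b : Π i, K i) : Π i, K i := fun i => if b i = 0 then 0 else 1

theorem supp_mul_self (b : Π i, K i) : supp K b * supp K b = supp K b := by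
  funext i; simp only [supp, Pi.mul_apply]; split_ifs <;> simp

theorem isIntegral_supp (b : Π i, K i) : IsIntegral A (supp K b) := by
  refine ⟨X ^ 2 - X, ?_, ?_⟩
  · nontriviality A
    exact monic_X_pow_sub (by rw [degree_X]; decide)
  · simp [pow_two, supp_mul_self]

theorem exists_notMem_of_mul_eq_zero (q : Ideal (integralClosure A (Π i, K i))) [q.IsPrime]
    (b c : integralClosure A (Π i, K i)) (hbc : b * c = 0) :
    ∃ s ∉ q, s * b = 0 ∨ s * c = 0 := by
  let e : integralClosure A (Π i, K i) := ⟨supp K b.1, isIntegral_supp K b.1⟩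
  have he1 : (1 - e) * b = 0 := by
    apply Subtype.ext; funext i
    change (1 - supp K b.1 i) * b.1 i = 0
    simp only [supp]; split_ifs with h <;> simp [h]
  have he2 : e * c = 0 := by
    apply Subtype.ext; funext i
    change supp K b.1 i * c.1 i = 0
    simp only [supp]; split_ifs with h
    · simp
    · have h1 : b.1 i * c.1 i = 0 := congrFun (congrArg Subtype.val hbc) i
      have := (mul_eq_zero.1 h1).resolve_left h
      simp [this]
  by_cases h : e ∈ q
  · refine ⟨1 - e, fun h' => ?_, Or.inl he1⟩
    have : (1 : integralClosure A (Π i, K i)) ∈ q := by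
      have := q.add_mem h' h
      rwa [sub_add_cancel] at this
    exact (Ideal.IsPrime.ne_top ‹_›) ((Ideal.eq_top_iff_one _).2 this)
  · exact ⟨e, h, Or.inr he2⟩

theorem isDomain_localization (q : Ideal (integralClosure A (Π i, K i))) [q.IsPrime] :
    IsDomain (Localization.AtPrime q) := by
  have h1 : NoZeroDivisors (Localization.AtPrime q) := by
    refine ⟨fun {x y} hxy => ?_⟩
    obtain ⟨b, s, rfl⟩ := IsLocalization.exists_mk'_eq q.primeCompl x
    obtain ⟨c, t, rfl⟩ := IsLocalization.exists_mk'_eq q.primeCompl y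
    rw [← IsLocalization.mk'_mul, IsLocalization.mk'_eq_zero_iff] at hxy
    obtain ⟨u, hu⟩ := hxy
    have hu' : ((u : integralClosure A (Π i, K i)) * b) * c = 0 := by rw [mul_assoc]; exact hu
    obtain ⟨s', hs', h | h⟩ := exists_notMem_of_mul_eq_zero K q _ _ hu'
    · left
      rw [IsLocalization.mk'_eq_zero_iff]
      exact ⟨⟨s', hs'⟩ * u, by rw [← h, ← mul_assoc]; rfl⟩
    · right
      rw [IsLocalization.mk'_eq_zero_iff]
      exact ⟨⟨s', hs'⟩, h⟩
  exact NoZeroDivisors.to_isDomain (Localization.AtPrime q)

end

section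
variable {A A' : Type u} [CommRing A] [CommRing A'] [Algebra A A'] {I J : Type v} (K : I → Type w)
  (ι : J → I) [∀ i, Field (K i)] [∀ i, Algebra A (K i)] [∀ j, Algebra A' (K (ι j))]
  [∀ j, IsScalarTower A A' (K (ι j))]

theorem isIntegral_res {b : Π i, K i} (hb : IsIntegral A b) :
    IsIntegral A' (fun j => b (ι j) : Π j, K (ι j)) := by
  have h1 : IsIntegral A (fun j => b (ι j) : Π j, K (ι j)) := by
    let r : (Π i, K i) →ₐ[A] (Π j, K (ι j)) :=
      { toFun := fun b j => b (ι j)
        map_one' := rfl
        map_mul' := fun _ _ => rfl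
        map_zero' := rfl
        map_add' := fun _ _ => rfl
        commutes' := fun _ => rfl }
    exact hb.map r
  exact h1.tower_top

/-- restriction map between the integral closures -/
def res : integralClosure A (Π i, K i) →+* integralClosure A' (Π j, K (ι j)) where
  toFun b := ⟨fun j => b.1 (ι j), isIntegral_res K ι b.2⟩
  map_one' := rfl
  map_mul' _ _ := rfl
  map_zero' := rfl
  map_add' _ _ := rfl

theorem res_algebraMap (a : A) : res (A := A) (A' := A') K ι (algebraMap A (integralClosure A (Π i, K i)) a) =
    algebraMap A' (integralClosure A' (Π j, K (ι j))) (algebraMap A A' a) := by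
  apply Subtype.ext; funext j
  exact IsScalarTower.algebraMap_apply A A' (K (ι j)) a

theorem isLocalization_res (f : A) [IsLocalization.Away f A'] (hι : Function.Injective ι)
    (hr : ∀ i, i ∈ Set.range ι ↔ algebraMap A (K i) f ≠ 0) :
    letI := (res (A := A) (A' := A') K ι).toAlgebra
    IsLocalization.Away (algebraMap A (integralClosure A (Π i, K i)) f)
      (integralClosure A' (Π j, K (ι j))) := by
  let := (res (A := A) (A' := A') K ι).toAlgebra
  have halg : ∀ b, algebraMap (integralClosure A (Π i, K i)) (integralClosure A' (Π j, K (ι j))) b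
    = res (A := A) (A' := A') K ι b := fun _ => rfl
  refine IsLocalization.Away.mk _ ?_ ?_ ?_
  · rw [halg, res_algebraMap]
    exact (IsLocalization.Away.algebraMap_isUnit (S := A') f).map _
  · intro b'
    classical
    obtain ⟨⟨_, n, rfl⟩, hm⟩ := IsIntegral.exists_multiple_integral_of_isLocalization (R := A) (Rₘ := A')
      (Submonoid.powers f) b'.1 b'.2
    replace hm : IsIntegral A (f ^ n • b'.1) := hm
    obtain ⟨p, hp, hpe⟩ := hm
    set c : Π j, K (ι j) := f ^ n • b'.1 with hc
    let b : Π i, K i := fun i => if h : ∃ j, ι j = i then h.choose_spec ▸ c h.choose else 0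
    have hbj : ∀ j, b (ι j) = c j := by
      intro j
      have h : ∃ j', ι j' = ι j := ⟨j, rfl⟩
      have key : ∀ (j' : J) (e : ι j' = ι j), (e ▸ c j' : K (ι j)) = c j := by
        intro j' e
        obtain rfl := hι e
        rfl
      exact (dif_pos h).trans (key _ _)
    have hb0 : ∀ i, i ∉ Set.range ι → b i = 0 := fun i hi => dif_neg hi
    have hbint : IsIntegral A b := by
      refine ⟨X * p, monic_X.mul hp, ?_⟩
      rw [eval₂_mul, eval₂_X]
      funext i
      by_cases hi : i ∈ Set.range ι
      · obtain ⟨j, rfl⟩ := hi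
        have h1 := congrFun hpe j
        have h2 := Polynomial.hom_eval₂ p (algebraMap A (Π j, K (ι j))) (Pi.evalRingHom (fun j => K (ι j)) j) c
        have h3 := Polynomial.hom_eval₂ p (algebraMap A (Π i, K i)) (Pi.evalRingHom K (ι j)) b
        have h4 : eval₂ (algebraMap A (Π i, K i)) b p (ι j) = 0 := by
          refine h3.trans ?_
          change eval₂ _ (b (ι j)) p = 0
          rw [hbj]
          exact h2.symm.trans h1
        rw [Pi.mul_apply, h4, mul_zero]; rfl
      · rw [Pi.mul_apply, hb0 i hi, zero_mul]; rfl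
    refine ⟨n, ⟨b, hbint⟩, ?_⟩
    rw [halg, halg, ← map_pow, ← map_pow, res_algebraMap]
    apply Subtype.ext
    funext j
    change b'.1 j * algebraMap A' (K (ι j)) (algebraMap A A' (f ^ n)) = b (ι j)
    rw [hbj, ← IsScalarTower.algebraMap_apply, hc, Pi.smul_apply, Algebra.smul_def, mul_comm]
  · intro b b' hb
    refine ⟨1, ?_⟩
    apply Subtype.ext
    funext i
    change (algebraMap A (Π i, K i) f ^ 1 * b.1) i = (algebraMap A (Π i, K i) f ^ 1 * b'.1) i
    rw [pow_one, Pi.mul_apply, Pi.mul_apply, Pi.algebraMap_apply]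
    by_cases hi : i ∈ Set.range ι
    · obtain ⟨j, rfl⟩ := hi
      have h1 : b.1 (ι j) = b'.1 (ι j) := congrFun (congrArg Subtype.val hb) j
      rw [h1]
    · have h1 : algebraMap A (K i) f = 0 := by
        by_contra h
        exact hi ((hr i).2 h)
      rw [h1, zero_mul, zero_mul]

end

end Groth.Agent.Flat2E.AIC5
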