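import Groth.Agent.Flat2E.AIC5
import Mathlib.AlgebraicGeometry.Sites.SmallAffineZariski
import Mathlib.AlgebraicGeometry.ResidueField
import Mathlib.AlgebraicGeometry.Morphisms.Integral
import Mathlib.AlgebraicGeometry.Morphisms.UnderlyingMap
import Mathlib.FieldTheory.IsAlgClosed.AlgebraicClosure

/-! # The absolutely integrally closed integral cover of a scheme -/

set_option autoImplicit false

universe u

open AlgebraicGeometry CategoryTheory Limits Scheme.AffineZariskiSite Opposite
open Groth.Agent.Flat2E.AIC1 Groth.Agent.Flat2E.AIC5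

noncomputable section

namespace Groth.Agent.Flat2E.AIC6

variable (S : Scheme.{u})

/-- an algebraic closure of the residue field -/
abbrev Kb (x : S) : Type u := AlgebraicClosure (S.residueField x)

/-- evaluation in the algebraic closure of the residue field -/
def ev (U : S.Opens) (x : U) : Γ(S, U) →+* Kb S x.1 :=
  (algebraMap (S.residueField x.1) (AlgebraicClosure (S.residueField x.1))).comp
    (S.evaluation U x.1 x.2).hom

/-- algebra structure -/
@[instance_reducible]
def algKb (U : S.Opens) (x : U) : Algebra Γ(S, U) (Kb S x.1) := (ev S U x).toAlgebra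

attribute [local instance] algKb

/-- the ring of sections -/
abbrev BR (U : S.Opens) : Type u := integralClosure Γ(S, U) (Π x : U, Kb S x.1)

theorem ev_res {U V : S.Opens} (h : V ≤ U) (x : V) (a : Γ(S, U)) :
    ev S V x (S.presheaf.map (homOfLE h).op a) = ev S U ⟨x.1, h x.2⟩ a := by
  simp only [ev, RingHom.comp_apply]
  congr 1
  simp only [Scheme.evaluation, CommRingCat.hom_comp, RingHom.comp_apply]
  congr 1
  exact TopCat.Presheaf.germ_res_apply _ _ _ _ _

/-- restriction -/
def resBR {U V : S.Opens} (h : V ≤ U) : BR S U →+* BR S V :=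
  letI : Algebra Γ(S, U) Γ(S, V) := (S.presheaf.map (homOfLE h).op).hom.toAlgebra
  let ι : V → U := fun x => ⟨x.1, h x.2⟩
  haveI : ∀ x : V, IsScalarTower Γ(S, U) Γ(S, V) (Kb S (ι x).1) := fun x =>
    IsScalarTower.of_algebraMap_eq fun a => (ev_res S h x a).symm
  res (fun x : U => Kb S x.1) ι

/-- the presheaf -/
def BF : S.Opensᵒᵖ ⥤ CommRingCat.{u} where
  obj U := .of (BR S U.unop)
  map i := CommRingCat.ofHom (resBR S i.unop.le)
  map_id _ := rfl
  map_comp _ _ := rfl

/-- structure map -/
def BFmap : S.presheaf ⟶ BF S where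
  app U := CommRingCat.ofHom (algebraMap Γ(S, U.unop) (BR S U.unop))
  naturality {U V} i := by
    ext a
    apply Subtype.ext
    funext x
    exact ev_res S i.unop.le x a

theorem coequifibered_BFmap :
    ((toOpensFunctor S).op.whiskerLeft (BFmap S)).Coequifibered := by
  refine coequifibered_iff_forall_isLocalizationAway.mpr fun U f ↦ ?_
  have h := S.basicOpen_le f
  let : Algebra Γ(S, U.1) Γ(S, S.basicOpen f) := (S.presheaf.map (homOfLE h).op).hom.toAlgebra
  let ι : (S.basicOpen f) → U.1 := fun x => ⟨x.1, h x.2⟩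
  have : ∀ x : (S.basicOpen f), IsScalarTower Γ(S, U.1) Γ(S, S.basicOpen f) (Kb S (ι x).1) := fun x =>
    IsScalarTower.of_algebraMap_eq fun a => (ev_res S h x a).symm
  have : IsLocalization.Away f Γ(S, S.basicOpen f) := U.2.isLocalization_basicOpen _
  have := isLocalization_res (A := Γ(S, U.1)) (A' := Γ(S, S.basicOpen f)) (fun x : U.1 => Kb S x.1) ι f
    (fun x y hxy => Subtype.ext (congrArg (fun z : U.1 => z.1) hxy)) (fun x => by
      have h1 : algebraMap Γ(S, U.1) (Kb S x.1) f ≠ 0 ↔ x.1 ∈ S.basicOpen f := by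
        rw [← Scheme.evaluation_ne_zero_iff_mem_basicOpen S x.1 x.2 f]
        change (algebraMap (S.residueField x.1) (AlgebraicClosure (S.residueField x.1)))
          (S.evaluation U.1 x.1 x.2 f) ≠ 0 ↔ _
        rw [map_ne_zero_iff _ (algebraMap (S.residueField x.1) (AlgebraicClosure (S.residueField x.1))).injective]
      rw [h1]
      constructor
      · rintro ⟨y, rfl⟩; exact y.2
      · intro hx; exact ⟨⟨x.1, hx⟩, rfl⟩)
  exact this

/-- gluing data -/
def glueData := relativeGluingData (coequifibered_BFmap S)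

instance : ((glueData S).functor ⋙ Scheme.forget).IsLocallyDirected :=
  Scheme.Cover.RelativeGluingData.instIsLocallyDirectedI₀CompFunctorForgetOfIsThin ..

/-- the cover -/
def T : Scheme.{u} := (glueData S).glued

/-- the structure map of the cover -/
def π : T S ⟶ S := (glueData S).toBase

/-- the charts -/
def chart : (T S).OpenCover := (glueData S).cover

/-- the chart over an affine open -/
def chartι (U : S.AffineZariskiSite) : Spec (.of (BR S U.1)) ⟶ T S := (chart S).f U

instance (U : S.AffineZariskiSite) : IsOpenImmersion (chartι S U) :=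
  inferInstanceAs (IsOpenImmersion ((chart S).f U))

theorem chartι_π (U : S.AffineZariskiSite) :
    chartι S U ≫ π S = Spec.map (CommRingCat.ofHom (algebraMap Γ(S, U.1) (BR S U.1))) ≫ U.2.fromSpec :=
  colimit.ι_desc _ _

theorem preimage_π (U : S.AffineZariskiSite) : π S ⁻¹ᵁ U.1 = (chartι S U).opensRange := by
  simpa using! (glueData S).toBase_preimage_eq_opensRange_ι U

theorem exists_chart (t : T S) : ∃ (U : S.AffineZariskiSite) (q : Spec (.of (BR S U.1))), chartι S U q = t := by
  obtain ⟨U, q, hq⟩ := (chart S).exists_eq t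
  exact ⟨U, q, hq⟩

instance : IsIntegralHom (π S) := by
  rw [IsZariskiLocalAtTarget.iff_of_iSup_eq_top (P := @IsIntegralHom) _
    (iSup_affineOpens_eq_top _)]
  intro U
  let e := IsOpenImmersion.isoOfRangeEq (π S ⁻¹ᵁ U).ι (chartι S U)
      (by simpa using congr($(preimage_π S U).1))
  rw [← MorphismProperty.cancel_left_of_respectsIso @IsIntegralHom e.inv,
    ← MorphismProperty.cancel_right_of_respectsIso @IsIntegralHom _ U.2.isoSpec.hom]
  have : (CommRingCat.ofHom (algebraMap Γ(S, U.1) (BR S U.1))).hom.IsIntegral := by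
    change (algebraMap Γ(S, U.1) (BR S U.1)).IsIntegral
    exact algebraMap_isIntegral_iff.mpr inferInstance
  convert! IsIntegralHom.SpecMap_iff.mpr this
  rw [← cancel_mono U.2.fromSpec]
  simp [IsAffineOpen.isoSpec_hom, e, chartι_π]

instance : Surjective (π S) := by
  refine ⟨fun x => ?_⟩
  obtain ⟨_, ⟨U, hU, rfl⟩, hxU, -⟩ := S.isBasis_affineOpens.exists_subset_of_mem_open
    (Set.mem_univ x) isOpen_univ
  let f : BR S U →+* Kb S x :=
    (Pi.evalRingHom (fun y : U => Kb S y.1) ⟨x, hxU⟩).comp (algebraMap (BR S U) (Π y : U, Kb S y.1))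
  let q : Spec (.of (BR S U)) := ⟨RingHom.ker f, RingHom.ker_isPrime f⟩
  refine ⟨chartι S ⟨U, hU⟩ q, ?_⟩
  rw [← Scheme.Hom.comp_apply, chartι_π, Scheme.Hom.comp_apply]
  have h1 : hU.fromSpec (hU.primeIdealOf ⟨x, hxU⟩) = x := hU.fromSpec_primeIdealOf ⟨x, hxU⟩
  refine Eq.trans ?_ h1
  congr 1
  apply PrimeSpectrum.ext
  ext a
  change f (algebraMap Γ(S, U) (BR S U) a) = 0 ↔ _
  change ev S U ⟨x, hxU⟩ a = 0 ↔ _
  rw [ev, RingHom.comp_apply, map_eq_zero]
  change S.evaluation U x hxU a = 0 ↔ _
  rw [Scheme.evaluation_eq_zero_iff_notMem_basicOpen, hU.primeIdealOf_eq_map_closedPoint,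
    Scheme.mem_basicOpen S a x hxU]
  change ¬ IsUnit (S.presheaf.germ U x hxU a) ↔
    S.presheaf.germ U x hxU a ∈ IsLocalRing.maximalIdeal (S.presheaf.stalk x)
  rw [IsLocalRing.mem_maximalIdeal, mem_nonunits_iff]

end Groth.Agent.Flat2E.AIC6
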