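import Groth.Agent.Flat2E.AIC6
import Groth.Agent.Flat2E.AIC2
import Groth.Agent.Flat2E.AIC4
import Mathlib.AlgebraicGeometry.Morphisms.Etale
import Mathlib.AlgebraicGeometry.Morphisms.Flat
import Mathlib.AlgebraicGeometry.Morphisms.Finite
import Mathlib.AlgebraicGeometry.Morphisms.FinitePresentation

/-! # Local sections over absolutely integrally closed rings, scheme version -/

set_option autoImplicit false

universe u

open AlgebraicGeometry CategoryTheory Limits
open Groth.Agent.Flat2E.AIC1 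

namespace Groth.Agent.Flat2E.AIC7

theorem exists_section_of_etale {R : Type u} [CommRing R] (h : IsAIC R) (q : Spec (.of R)) {E : Scheme.{u}}
    (e : E ⟶ Spec (.of R)) [Etale e] (hq : q ∈ Set.range e) :
    ∃ (c : R) (σ : Spec (.of (Localization.Away c)) ⟶ E), c ∉ q.asIdeal ∧
      σ ≫ e = Spec.map (CommRingCat.ofHom (algebraMap R (Localization.Away c))) := by
  obtain ⟨y, hy⟩ := hq
  obtain ⟨_, ⟨U, hU, rfl⟩, hyU, -⟩ := E.isBasis_affineOpens.exists_subset_of_mem_open
    (Set.mem_univ y) isOpen_univ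
  obtain ⟨φ, hφ⟩ := Spec.map_surjective (hU.fromSpec ≫ e)
  have het : φ.hom.Etale := by
    have : Etale (Spec.map φ) := by rw [hφ]; infer_instance
    exact (HasRingHomProperty.Spec_iff (P := @Etale)).1 this
  algebraize [φ.hom]
  let Q := hU.primeIdealOf ⟨y, hyU⟩
  have hQ : hU.fromSpec Q = y := hU.fromSpec_primeIdealOf ⟨y, hyU⟩
  have hQ2 : Spec.map φ Q = q := by
    rw [hφ, Scheme.Hom.comp_apply, hQ, hy]
  obtain ⟨c, hc, ⟨ψ⟩⟩ := AIC2.exists_algHom_of_etale (A := R) (B := R) (E := Γ(E, U)) h q.asIdeal Q.asIdeal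
    (by rw [← hQ2]; rfl)
  refine ⟨c, Spec.map (CommRingCat.ofHom ψ.toRingHom) ≫ hU.fromSpec, hc, ?_⟩
  rw [Category.assoc, ← hφ, ← Spec.map_comp]
  congr 1
  ext x
  exact ψ.commutes x

theorem exists_section_of_finite_flat {R : Type u} [CommRing R] (h : IsAIC R) (q : Spec (.of R))
    [IsDomain (Localization.AtPrime q.asIdeal)] {V : Scheme.{u}}
    (p : V ⟶ Spec (.of R)) [IsFinite p] [Flat p] [LocallyOfFinitePresentation p] (hq : q ∈ Set.range p) :
    ∃ (c : R) (σ : Spec (.of (Localization.Away c)) ⟶ V), c ∉ q.asIdeal ∧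
      σ ≫ p = Spec.map (CommRingCat.ofHom (algebraMap R (Localization.Away c))) := by
  obtain ⟨y, hy⟩ := hq
  have : IsAffine V := isAffine_of_isAffineHom p
  obtain ⟨φ, hφ⟩ := Spec.map_surjective (V.isoSpec.inv ≫ p)
  have h1 : φ.hom.Finite := by
    have : IsFinite (Spec.map φ) := by rw [hφ]; infer_instance
    exact (IsFinite.SpecMap_iff _).1 this
  have h2 : φ.hom.Flat := by
    have : Flat (Spec.map φ) := by rw [hφ]; infer_instance
    exact (HasRingHomProperty.Spec_iff (P := @Flat)).1 this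
  have h3 : φ.hom.FinitePresentation := by
    have : LocallyOfFinitePresentation (Spec.map φ) := by rw [hφ]; infer_instance
    exact (HasRingHomProperty.Spec_iff (P := @LocallyOfFinitePresentation)).1 this
  algebraize [φ.hom]
  let Q := V.isoSpec.hom y
  have hQ2 : Spec.map φ Q = q := by
    rw [hφ, Scheme.Hom.comp_apply]
    simp [Q, hy]
  obtain ⟨c, hc, ⟨ψ⟩⟩ := AIC4.exists_algHom_of_finite_flat (B := R) (E := Γ(V, ⊤)) h q.asIdeal
    ⟨Q.asIdeal, Q.2, by rw [← hQ2]; rfl⟩
  refine ⟨c, Spec.map (CommRingCat.ofHom ψ.toRingHom) ≫ V.isoSpec.inv, hc, ?_⟩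
  rw [Category.assoc, ← hφ, ← Spec.map_comp]
  congr 1
  ext x
  exact ψ.commutes x

theorem good_away {R : Type u} [CommRing R] (h : IsAIC R) (q : Spec (.of R))
    [IsDomain (Localization.AtPrime q.asIdeal)] (c : R) (hc : c ∉ q.asIdeal) :
    IsAIC (Localization.Away c) ∧ ∃ q' : Spec (.of (Localization.Away c)),
      Spec.map (CommRingCat.ofHom (algebraMap R (Localization.Away c))) q' = q ∧
      IsDomain (Localization.AtPrime q'.asIdeal) := by
  refine ⟨h.of_isLocalization (Submonoid.powers c), ?_⟩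
  have h1 : q ∈ Set.range (PrimeSpectrum.comap (algebraMap R (Localization.Away c))) := by
    rw [PrimeSpectrum.localization_away_comap_range (Localization.Away c) c]
    exact hc
  obtain ⟨q', hq'⟩ := h1
  refine ⟨q', hq', ?_⟩
  have h2 : IsLocalization.AtPrime (Localization.AtPrime q'.asIdeal)
      (q'.asIdeal.comap (algebraMap R (Localization.Away c))) :=
    IsLocalization.isLocalization_isLocalization_atPrime_isLocalization (Submonoid.powers c)
      (Localization.AtPrime q'.asIdeal) q'.asIdeal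
  have h3 : q'.asIdeal.comap (algebraMap R (Localization.Away c)) = q.asIdeal :=
    congrArg PrimeSpectrum.asIdeal hq'
  have h4 : IsLocalization q.asIdeal.primeCompl (Localization.AtPrime q'.asIdeal) := by
    have h5 : (q'.asIdeal.comap (algebraMap R (Localization.Away c))).primeCompl = q.asIdeal.primeCompl := by
      ext x
      change x ∉ _ ↔ x ∉ _
      rw [h3]
    rw [← h5]; exact h2
  exact (IsLocalization.algEquiv q.asIdeal.primeCompl (Localization.AtPrime q'.asIdeal)
    (Localization.AtPrime q.asIdeal)).toMulEquiv.isDomain _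

attribute [local instance] AIC6.algKb

theorem isAIC_BR (S : Scheme.{u}) (U : S.Opens) : IsAIC (AIC6.BR S U) :=
  AIC5.isAIC_integralClosure_pi _

theorem isDomain_BR (S : Scheme.{u}) (U : S.Opens) (q : Spec (.of (AIC6.BR S U))) :
    IsDomain (Localization.AtPrime q.asIdeal) :=
  AIC5.isDomain_localization _ _

/-- transport of a local morphism along an open immersion -/
theorem exists_open_of_openImmersion {Z T S S' : Scheme.{u}} (j : Z ⟶ T) [IsOpenImmersion j] (π : T ⟶ S)
    (g : S' ⟶ S) (z : Z) (W : Z.Opens) (hz : z ∈ W) (r : (W : Scheme.{u}) ⟶ S') (hr : r ≫ g = W.ι ≫ j ≫ π) :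
    ∃ (V : T.Opens) (r' : (V : Scheme.{u}) ⟶ S'), j z ∈ V ∧ r' ≫ g = V.ι ≫ π := by
  refine ⟨j ''ᵁ W, (j.isoImage W).inv ≫ r, ⟨z, hz, rfl⟩, ?_⟩
  rw [Category.assoc, hr, Scheme.Hom.isoImage_inv_ι_assoc]

end Groth.Agent.Flat2E.AIC7
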