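import Mathlib.Topology.Connected.Clopen
import Mathlib.Topology.Connected.TotallyDisconnected
import Mathlib.Topology.Sets.Opens
import Mathlib.SetTheory.Cardinal.Finite

/-!
# Counting connected components of a space decomposed into disjoint opens
-/

set_option autoImplicit false

namespace Groth.Agent.Flat2E.CardComp

variable {Z : Type*} [TopologicalSpace Z] {m : ℕ} (W : Fin m → TopologicalSpace.Opens Z)

theorem isClopen_of_partition (hd : ∀ i j, i ≠ j → Disjoint (W i) (W j)) (hs : ⨆ i, W i = ⊤) (i : Fin m) :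
    IsClopen (W i : Set Z) := by
  refine ⟨⟨?_⟩, (W i).2⟩
  have : (W i : Set Z)ᶜ = ⋃ j : {j // j ≠ i}, (W j : Set Z) := by
    ext z
    simp only [Set.mem_compl_iff, SetLike.mem_coe, Set.mem_iUnion]
    constructor
    · intro hz
      have h1 : z ∈ (⨆ i, W i) := by rw [hs]; trivial
      obtain ⟨j, hj⟩ := TopologicalSpace.Opens.mem_iSup.mp h1
      exact ⟨⟨j, fun h => hz (h ▸ hj)⟩, hj⟩
    · rintro ⟨⟨j, hj⟩, hz⟩ hz'
      have := hd j i hj
      rw [disjoint_iff] at this
      have h2 : z ∈ W j ⊓ W i := ⟨hz, hz'⟩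
      rw [this] at h2
      exact h2
  rw [this]
  exact isOpen_iUnion fun j => (W j).2

theorem le_card (hd : ∀ i j, i ≠ j → Disjoint (W i) (W j)) (hs : ⨆ i, W i = ⊤) (hne : ∀ i, (W i : Set Z).Nonempty) :
    (m : ℕ∞) ≤ ENat.card (ConnectedComponents Z) := by
  choose z hz using hne
  let φ : Fin m → ConnectedComponents Z := fun i => (z i : ConnectedComponents Z)
  have hφ : Function.Injective φ := by
    intro i j hij
    by_contra hne
    have h1 : connectedComponent (z i) = connectedComponent (z j) := ConnectedComponents.coe_eq_coe.mp hij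
    have h2 : connectedComponent (z j) ⊆ W j := (isClopen_of_partition W hd hs j).connectedComponent_subset (hz j)
    have h3 : z i ∈ W j := h2 (h1 ▸ mem_connectedComponent)
    have := hd i j hne
    rw [disjoint_iff] at this
    have h4 : z i ∈ W i ⊓ W j := ⟨hz i, h3⟩
    rw [this] at h4
    exact h4
  have h5 := ENat.card_le_card_of_injective hφ
  simpa using h5

theorem card_eq (hd : ∀ i j, i ≠ j → Disjoint (W i) (W j)) (hs : ⨆ i, W i = ⊤) (hc : ∀ i, IsConnected (W i : Set Z)) :
    ENat.card (ConnectedComponents Z) = (m : ℕ∞) := by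
  refine le_antisymm ?_ (le_card W hd hs fun i => (hc i).nonempty)
  choose z hz using fun i => (hc i).nonempty
  let φ : Fin m → ConnectedComponents Z := fun i => (z i : ConnectedComponents Z)
  have hφ : Function.Surjective φ := by
    intro c
    obtain ⟨x, rfl⟩ := ConnectedComponents.surjective_coe c
    have h1 : x ∈ (⨆ i, W i) := by rw [hs]; trivial
    obtain ⟨j, hj⟩ := TopologicalSpace.Opens.mem_iSup.mp h1
    refine ⟨j, ?_⟩
    change ((z j : Z) : ConnectedComponents Z) = (x : ConnectedComponents Z)
    rw [ConnectedComponents.coe_eq_coe']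
    exact (hc j).2.subset_connectedComponent hj (hz j)
  obtain ⟨ψ, hψ⟩ := hφ.hasRightInverse
  have h5 := ENat.card_le_card_of_injective hψ.injective
  simpa using h5

end Groth.Agent.Flat2E.CardComp
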