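import Groth.Agent.Flat2E.OnePoint
import Mathlib.AlgebraicGeometry.Geometrically.Connected
import Mathlib.AlgebraicGeometry.Limits
import Mathlib.Algebra.Category.Ring.Constructions

/-!
# Geometrically connected fibre over a point, clopen decompositions
-/

set_option autoImplicit false
universe u

namespace Groth.Agent.Flat2E.ConnFibAt

open AlgebraicGeometry CategoryTheory Limits

/-- `f` has (nonempty) geometrically connected fibre over `s`. -/
def ConnectedFibreAt {X S : Scheme.{u}} (f : X ⟶ S) (s : S) : Prop :=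
  ∀ (K : Type u) [Field K] (y : Spec (.of K) ⟶ S) (Z : Scheme.{u}) (fst : Z ⟶ X) (snd : Z ⟶ Spec (.of K)),
    IsPullback fst snd f y → y (IsLocalRing.closedPoint K) = s → ConnectedSpace Z

theorem ConnectedFibreAt.of_iso {X X' S : Scheme.{u}} {f : X ⟶ S} {f' : X' ⟶ S} (e : X ≅ X') (he : e.hom ≫ f' = f)
    {s : S} (h : ConnectedFibreAt f' s) : ConnectedFibreAt f s := by
  intro K _ y Z fst snd hZ hy
  subst he
  have h1 : IsPullback e.hom (e.hom ≫ f') f' (𝟙 S) := IsPullback.of_horiz_isIso ⟨by simp⟩
  have h2 := hZ.flip.paste_vert h1.flip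
  rw [Category.comp_id] at h2
  exact h K y Z _ _ h2.flip hy

theorem ConnectedFibreAt.comp_of_onePoint {X S T : Scheme.{u}} (h : X ⟶ T) [GeometricallyConnected h] (t : T ⟶ S) (s : S)
    (hone : ∀ (K : Type u) [Field K] (y : Spec (.of K) ⟶ S) (P : Scheme.{u}) (fst : P ⟶ T) (snd : P ⟶ Spec (.of K)),
    IsPullback fst snd t y → y (IsLocalRing.closedPoint K) = s → Subsingleton P ∧ Nonempty P) :
    ConnectedFibreAt (h ≫ t) s := by
  intro K _ y Z fst snd hZ hy
  obtain ⟨h1, h2⟩ := hone K y (pullback t y) (pullback.fst _ _) (pullback.snd _ _) (IsPullback.of_hasPullback _ _) hy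
  have hP := IsPullback.of_hasPullback t y
  obtain ⟨c, h3⟩ : ∃ c, IsPullback fst c h (pullback.fst t y) := ⟨_, hZ.of_bot' hP⟩
  have h4 : GeometricallyConnected c := MorphismProperty.of_isPullback h3 inferInstance
  exact GeometricallyConnected.connectedSpace_of_subsingleton (f := c)

/-- A family of opens giving a decomposition of `X` into pairwise disjoint pieces with geometrically connected
fibres over `s`. -/
structure IsSplitting {X S : Scheme.{u}} (f : X ⟶ S) (s : S) (m : ℕ) (U : Fin m → X.Opens) : Prop where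
  disjoint : ∀ i j, i ≠ j → Disjoint (U i) (U j)
  iSup_eq : ⨆ i, U i = ⊤
  conn : ∀ i, ConnectedFibreAt ((U i).ι ≫ f) s

open TensorProduct in
theorem exists_isSplitting_of_pi {R' B : Type u} [CommRing R'] [CommRing B] [Algebra R' B] {X' : Scheme.{u}}
    (h' : X' ⟶ Spec (.of B)) [GeometricallyConnected h'] (p' : PrimeSpectrum R') (m : ℕ)
    (A : Fin m → Type u) [∀ j, CommRing (A j)] [∀ j, Algebra R' (A j)] (e : B ≃ₐ[R'] (Π j, A j))
    (r : ∀ j, PrimeSpectrum (A j)) (hr : ∀ j, (r j).asIdeal.comap (algebraMap R' (A j)) = p'.asIdeal)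
    (huniq : ∀ j, ∀ r' : PrimeSpectrum (A j), r'.asIdeal.comap (algebraMap R' (A j)) = p'.asIdeal → r' = r j)
    (hpi : ∀ j, letI := (Ideal.ResidueField.map p'.asIdeal (r j).asIdeal (algebraMap R' (A j)) (hr j).symm).toAlgebra
      IsPurelyInseparable p'.asIdeal.ResidueField (r j).asIdeal.ResidueField) :
    ∃ U : Fin m → X'.Opens, IsSplitting (h' ≫ Spec.map (CommRingCat.ofHom (algebraMap R' B))) p' m U := by
  let g : ∀ j, B →+* A j := fun j => (Pi.evalRingHom A j).comp (e : B ≃+* (Π j, A j)).toRingHom
  let i : ∀ j, Spec (.of (A j)) ⟶ Spec (.of B) := fun j => Spec.map (CommRingCat.ofHom (g j))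
  have hiso : IsIso (Spec.map (CommRingCat.ofHom (e : B ≃+* (Π j, A j)).toRingHom)) := by
    rw [isIso_SpecMap_iff]
    exact e.bijective
  have hi : ∀ j, IsOpenImmersion (i j) := fun j => by
    have : i j = Spec.map (CommRingCat.ofHom (Pi.evalRingHom A j)) ≫ Spec.map (CommRingCat.ofHom (e : B ≃+* (Π j, A j)).toRingHom) := by
      rw [← Spec.map_comp]
      rfl
    rw [this]
    infer_instance
  -- ranges of the open immersions
  have hrange : ∀ j (Q : Spec (.of B)), Q ∈ Set.range (i j) ↔ e.symm (Pi.single j 1) ∉ (Q : PrimeSpectrum B).asIdeal := by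
    intro j Q
    constructor
    · rintro ⟨P, rfl⟩ hmem
      have h1 : g j (e.symm (Pi.single j 1)) ∈ (P : PrimeSpectrum (A j)).asIdeal := hmem
      have h2 : g j (e.symm (Pi.single j 1)) = 1 := by
        simp [g]
      rw [h2] at h1
      exact (P : PrimeSpectrum (A j)).2.ne_top ((Ideal.eq_top_iff_one _).mpr h1)
    · intro hQ
      have hsurj : Function.Surjective (g j) := by
        intro a
        refine ⟨e.symm (Pi.single j a), ?_⟩
        simp [g]
      have h1 : RingHom.ker (g j) ≤ (Q : PrimeSpectrum B).asIdeal := by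
        intro x hx
        have h2 : x * e.symm (Pi.single j 1) = 0 := by
          apply e.injective
          rw [map_mul, map_zero, AlgEquiv.apply_symm_apply]
          ext l
          by_cases hl : l = j
          · subst hl
            have : e x l = 0 := hx
            simp [this]
          · simp [hl]
        have h4 := (Q : PrimeSpectrum B).2.mem_or_mem (x := x) (y := e.symm (Pi.single j 1)) (by rw [h2]; exact Ideal.zero_mem _)
        exact h4.resolve_right hQ
      have h2 := range_comap_of_surjective _ (g j) hsurj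
      have h3 : (Q : PrimeSpectrum B) ∈ Set.range (PrimeSpectrum.comap (g j)) := by
        rw [h2]
        exact h1
      exact h3
  let U : Fin m → X'.Opens := fun j => h' ⁻¹ᵁ (i j).opensRange
  refine ⟨U, ⟨?_, ?_, ?_⟩⟩
  · intro j k hjk
    rw [disjoint_iff, eq_bot_iff]
    intro x hx
    obtain ⟨hx1, hx2⟩ := hx
    have hx1' : e.symm (Pi.single j 1) ∉ (h' x : PrimeSpectrum B).asIdeal := (hrange j _).mp hx1
    have hx2' : e.symm (Pi.single k 1) ∉ (h' x : PrimeSpectrum B).asIdeal := (hrange k _).mp hx2
    have h3 : e.symm (Pi.single j 1) * e.symm (Pi.single k 1) = 0 := by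
      rw [← map_mul, ← map_zero e.symm]
      congr 1
      ext l
      by_cases hl : l = j
      · subst hl
        simp [hjk]
      · simp [hl]
    have h4 := (h' x : PrimeSpectrum B).2.mem_or_mem (x := e.symm (Pi.single j 1)) (y := e.symm (Pi.single k 1)) (by rw [h3]; exact Ideal.zero_mem _)
    exact (h4.elim hx1' hx2').elim
  · rw [eq_top_iff]
    intro x _
    rw [TopologicalSpace.Opens.mem_iSup]
    by_contra hcon
    push Not at hcon
    have h1 : ∀ j, e.symm (Pi.single j 1) ∈ (h' x : PrimeSpectrum B).asIdeal := by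
      intro j
      by_contra h2
      exact hcon j ((hrange j _).mpr h2)
    have h2 : ∑ j, e.symm (Pi.single j 1) ∈ (h' x : PrimeSpectrum B).asIdeal := Ideal.sum_mem _ fun j _ => h1 j
    rw [← map_sum] at h2
    have h3 : ∑ j, (Pi.single j 1 : Π j, A j) = 1 := Finset.univ_sum_single (1 : Π j, A j)
    rw [h3, map_one] at h2
    exact (h' x : PrimeSpectrum B).2.ne_top ((Ideal.eq_top_iff_one _).mpr h2)
  · intro j
    let l : pullback h' (i j) ⟶ X' := pullback.fst h' (i j)
    let h'' : pullback h' (i j) ⟶ Spec (.of (A j)) := pullback.snd h' (i j)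
    have hl : Set.range l = (U j : Set X') := by
      rw [Scheme.Pullback.range_fst]
      rfl
    have hl' : Set.range (U j).ι = Set.range l := by
      rw [hl]
      exact Scheme.Opens.range_ι _
    let E : (U j : Scheme.{u}) ≅ pullback h' (i j) := IsOpenImmersion.isoOfRangeEq (U j).ι l hl'
    have hE : E.hom ≫ l = (U j).ι := IsOpenImmersion.isoOfRangeEq_hom_fac _ _ _
    have h1 : ConnectedFibreAt (h'' ≫ Spec.map (CommRingCat.ofHom (algebraMap R' (A j)))) p' := by
      refine ConnectedFibreAt.comp_of_onePoint _ _ _ ?_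
      intro K _ y P fst snd hP hy
      exact OnePoint.subsingleton_nonempty_pullback p'.asIdeal (r j) (hr j) (huniq j) (hpi j) y (congrArg PrimeSpectrum.asIdeal hy) fst snd hP
    refine ConnectedFibreAt.of_iso E ?_ h1
    have h2 : l ≫ h' = h'' ≫ i j := pullback.condition
    rw [← hE, Category.assoc, reassoc_of% h2]
    congr 2
    rw [← Spec.map_comp, ← CommRingCat.ofHom_comp]
    congr 2
    ext x
    simp [g]

end Groth.Agent.Flat2E.ConnFibAt
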