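import Groth.Agent.Flat2E.RelAssAlg
import Groth.Agent.Flat2E.FibInj

/-!
# Associated primes of a fibre meeting an open set, in terms of joint injectivity
-/

set_option autoImplicit false
universe u

namespace Groth.Agent.Flat2E.FibAss

open Groth.Agent.Flat2E.RelAssAlg Groth.Agent.Flat2E.FibInj

theorem locAss_of_isAssociatedPrime {B M : Type*} [CommRing B] [AddCommGroup M] [Module B M]
    (S : Submonoid B) [IsNoetherianRing (Localization S)] (Q : Ideal (Localization S))
    (hQ : IsAssociatedPrime Q (LocalizedModule S M)) :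
    LocAss (⊥ : Submodule B M) (Q.comap (algebraMap B (Localization S))) := by
  have hQp : Q.IsPrime := hQ.1
  obtain ⟨-, y, hy⟩ := isAssociatedPrime_iff.mp hQ
  obtain ⟨m, t, rfl⟩ := exists_mk S y
  refine ⟨m, ?_, ?_⟩
  · intro s hs h0
    apply hs
    rw [Ideal.mem_comap, hy, Submodule.mem_colon_singleton, Submodule.mem_bot,
      ← Localization.mk_one_eq_algebraMap, mk_smul_eq_zero_iff]
    refine ⟨1, S.one_mem, ?_⟩
    rw [one_mul]
    exact h0
  · intro a ha
    rw [Ideal.mem_comap, hy, Submodule.mem_colon_singleton, Submodule.mem_bot,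
      ← Localization.mk_one_eq_algebraMap, mk_smul_eq_zero_iff] at ha
    obtain ⟨c, hc, h⟩ := ha
    refine ⟨1, c, comap_prime_disjoint S Q hc, ?_⟩
    rw [pow_one, h]
    exact Submodule.zero_mem _

section Domain

variable {R B M : Type u} [CommRing R] [IsDomain R] [CommRing B] [Algebra R B]
  [Algebra.FiniteType R B] [AddCommGroup M] [Module B M] [Module R M] [IsScalarTower R B M]
  {ι : Type*} (g : ι → B)

theorem exists_locAss_of_torsionFree (m : M) (hm : ∀ i, g i • m = 0)
    (hm' : ∀ c : R, c ≠ 0 → c • m ≠ 0) :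
    ∃ q : Ideal B, q.IsPrime ∧ q.comap (algebraMap R B) = ⊥ ∧ LocAss (⊥ : Submodule B M) q ∧
      ∀ i, g i ∈ q := by
  have hN := isNoetherianRing_loc R B
  set S := Algebra.algebraMapSubmonoid B (nonZeroDivisors R)
  have hy : (LocalizedModule.mk m 1 : LocalizedModule S M) ≠ 0 := by
    intro h0
    have h1 : (Localization.mk 1 1 : Localization S) • (LocalizedModule.mk m (1 : S)) = 0 := by
      rw [h0, smul_zero]
    rw [mk_smul_eq_zero_iff] at h1
    obtain ⟨_, ⟨c, hc, rfl⟩, h⟩ := h1
    rw [mul_one, algebraMap_smul] at h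
    exact hm' c (nonZeroDivisors.ne_zero hc) h
  obtain ⟨Q, hQ, hle⟩ := exists_le_isAssociatedPrime_of_isNoetherianRing (Localization S) _ hy
  have hQp : Q.IsPrime := hQ.1
  refine ⟨Q.comap (algebraMap B (Localization S)), Ideal.comap_isPrime _ _,
    comap_eq_bot_of_disjoint _ fun s hs => comap_prime_disjoint S Q hs,
    locAss_of_isAssociatedPrime S Q hQ, fun i => ?_⟩
  rw [Ideal.mem_comap]
  apply hle
  rw [Submodule.mem_colon_singleton, Submodule.mem_bot, ← Localization.mk_one_eq_algebraMap,
    mk_smul_eq_zero_iff]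
  exact ⟨1, S.one_mem, by rw [one_mul, hm i]⟩

theorem exists_torsionFree_of_locAss [Finite ι] (q : Ideal B) [q.IsPrime]
    (hq : q.comap (algebraMap R B) = ⊥) (h : LocAss (⊥ : Submodule B M) q)
    (hg : ∀ i, g i ∈ q) :
    ∃ m : M, (∀ i, g i • m = 0) ∧ ∀ c : R, c ≠ 0 → c • m ≠ 0 := by
  cases nonempty_fintype ι
  have hN := isNoetherianRing_loc R B
  obtain ⟨m, hm1, hm2⟩ := exists_annihilator (Algebra.algebraMapSubmonoid B (nonZeroDivisors R))
    q (disjoint_of_comap_eq_bot q hq) h
  have h1 : ∀ i, ∃ c : R, c ≠ 0 ∧ c • g i • m = 0 := by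
    intro i
    obtain ⟨_, ⟨c, hc, rfl⟩, h2⟩ := hm1 (g i) (hg i)
    rw [mul_smul, algebraMap_smul] at h2
    exact ⟨c, nonZeroDivisors.ne_zero hc, h2⟩
  choose c hc hcm using h1
  have hC : ∏ i, c i ≠ 0 := Finset.prod_ne_zero_iff.mpr fun i _ => hc i
  refine ⟨(∏ i, c i) • m, fun i => ?_, fun d hd h0 => ?_⟩
  · obtain ⟨e, he⟩ : c i ∣ ∏ i, c i := Finset.dvd_prod_of_mem c (Finset.mem_univ i)
    rw [smul_comm, he, mul_comm, mul_smul, hcm, smul_zero]
  · rw [smul_smul] at h0
    have h3 : (1 * algebraMap R B (d * ∏ i, c i)) • m = 0 := by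
      rw [one_mul, algebraMap_smul, h0]
    have h4 := hm2 _ 1 (Submonoid.one_mem _) h3
    have h5 : d * ∏ i, c i ∈ q.comap (algebraMap R B) := h4
    rw [hq] at h5
    exact mul_ne_zero hd hC h5

end Domain

section General

variable {A B M : Type u} [CommRing A] [CommRing B] [Algebra A B] [Algebra.FiniteType A B]
  [AddCommGroup M] [Module B M] [Module A M] [IsScalarTower A B M] {ι : Type*} [Finite ι]
  (g : ι → B) (p : Ideal A) [hp : p.IsPrime]

/-- multiplication by the members of a family, as linear maps over the base -/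
noncomputable def mulFam (A : Type u) {B : Type u} (M : Type u) [CommRing A] [CommRing B]
    [Algebra A B] [AddCommGroup M] [Module B M] [Module A M] [IsScalarTower A B M] {ι : Type*}
    (g : ι → B) : ι → M →ₗ[A] M :=
  fun i => (LinearMap.lsmul B M (g i)).restrictScalars A

theorem fInj_mulFam_iff : FInj (mulFam A M g) p ↔
    ∀ q : Ideal B, q.IsPrime → q.comap (algebraMap A B) = p →
      LocAss (p.map (algebraMap A B) • (⊤ : Submodule B M)) q → ∃ i, g i ∉ q := by
  rw [fInj_iff]
  let π := Ideal.Quotient.mk p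
  let ρ := Ideal.Quotient.mk (p.map (algebraMap A B))
  let : Module (A ⧸ p) (QM B M p) := Module.compHom _ (algebraMap (A ⧸ p) (QB B p))
  have : IsScalarTower (A ⧸ p) (QB B p) (QM B M p) :=
    IsScalarTower.of_algebraMap_smul fun r x => rfl
  have : Algebra.FiniteType A (QB B p) := inferInstance
  have : Algebra.FiniteType (A ⧸ p) (QB B p) := .of_restrictScalars_finiteType A _ _
  have hmem : ∀ x : M, (x ∈ p • (⊤ : Submodule A M)) ↔
      (Submodule.Quotient.mk x : QM B M p) = 0 := by
    intro x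
    rw [← mem_map_smul_top_iff (B := B), ← Submodule.Quotient.mk_eq_zero]
  have hsm : ∀ (c : A) (m : M), (Ideal.Quotient.mk p c) • (Submodule.Quotient.mk m : QM B M p) =
      Submodule.Quotient.mk (c • m) := by
    intro c m
    change (Submodule.Quotient.mk (algebraMap A B c • m) : QM B M p) = _
    rw [algebraMap_smul]
  have h6 : p.map (Ideal.Quotient.mk p) = ⊥ := Ideal.map_quotient_self p
  constructor
  · intro H q hq hqp hass
    by_contra hcon
    push Not at hcon
    have hker : p.map (algebraMap A B) ≤ q := Ideal.map_le_iff_le_comap.mpr hqp.ge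
    have hqc : (q.map ρ).comap ρ = q := by
      rw [Ideal.comap_map_of_surjective _ Ideal.Quotient.mk_surjective, sup_eq_left,
        ← RingHom.ker_eq_comap_bot, Ideal.mk_ker]
      exact hker
    have hq' : (q.map ρ).IsPrime := Ideal.map_isPrime_of_surjective
      Ideal.Quotient.mk_surjective (by rw [Ideal.mk_ker]; exact hker)
    have h1 : (q.map ρ).comap (algebraMap (A ⧸ p) (QB B p)) = ⊥ := by
      apply Ideal.comap_injective_of_surjective π Ideal.Quotient.mk_surjective
      rw [← comap_comap_eq, hqc, hqp]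
      exact Ideal.mk_ker.symm
    have h2 : LocAss (⊥ : Submodule (QB B p) (QM B M p)) (q.map ρ) := by
      have h5 : LocAss (p.map (algebraMap A B) • (⊤ : Submodule B M)) ((q.map ρ).comap ρ) := by
        rw [hqc]
        exact hass
      rw [locAss_quotient_iff p le_rfl, h6, Ideal.map_bot, Submodule.bot_smul] at h5
      exact h5
    obtain ⟨m, hm1, hm2⟩ := exists_torsionFree_of_locAss (fun i => ρ (g i)) (q.map ρ) h1 h2
      (fun i => Ideal.mem_map_of_mem _ (hcon i))
    obtain ⟨m, rfl⟩ := Submodule.Quotient.mk_surjective _ m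
    obtain ⟨c, hc, hcm⟩ := H m (fun i => by
      rw [hmem]
      exact hm1 i)
    rw [hmem] at hcm
    exact hm2 (π c) (fun h => hc (Ideal.Quotient.eq_zero_iff_mem.mp h)) ((hsm c m).trans hcm)
  · intro H m hm
    by_contra hcon
    push Not at hcon
    obtain ⟨q', hq'1, hq'2, hq'3, hq'4⟩ := exists_locAss_of_torsionFree (R := A ⧸ p)
      (fun i => ρ (g i)) (Submodule.Quotient.mk m : QM B M p) (fun i => (hmem _).mp (hm i))
      (fun c hc h0 => by
        obtain ⟨c, rfl⟩ := Ideal.Quotient.mk_surjective c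
        exact hcon c (fun h => hc (Ideal.Quotient.eq_zero_iff_mem.mpr h)) ((hmem _).mpr
          ((hsm c m).symm.trans h0)))
    obtain ⟨i, hi⟩ := H (q'.comap ρ) (Ideal.comap_isPrime _ _) (by
      rw [comap_comap_eq, hq'2]
      exact Ideal.mk_ker) (by
      rw [locAss_quotient_iff p le_rfl, h6, Ideal.map_bot, Submodule.bot_smul]
      exact hq'3)
    exact hi (hq'4 i)

end General

end Groth.Agent.Flat2E.FibAss
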