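import Mathlib.RingTheory.TensorProduct.IsBaseChangeRightExact
import Mathlib.RingTheory.TensorProduct.IsBaseChangePi
import Mathlib.RingTheory.TensorProduct.MvPolynomial
import Mathlib.Algebra.Module.FinitePresentation
import Mathlib.RingTheory.Adjoin.FG
import Mathlib.RingTheory.FinitePresentation
import Mathlib.RingTheory.FiniteType
import Mathlib.LinearAlgebra.Matrix.ToLin

/-!
# Descent of finitely presented modules to finitely generated subrings
-/

set_option autoImplicit false
universe u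

namespace Groth.Agent.Flat2E.ModDescent

open TensorProduct

attribute [local instance] MvPolynomial.algebraMvPolynomial

/-- base change along one side of a pushout square -/
theorem isBaseChange_of_isPushout {A₀ A P₀ P M₀ M : Type*} [CommRing A₀] [CommRing A]
    [CommRing P₀] [CommRing P] [Algebra A₀ A] [Algebra A₀ P₀] [Algebra A P] [Algebra P₀ P]
    [Algebra A₀ P] [IsScalarTower A₀ A P] [IsScalarTower A₀ P₀ P] [Algebra.IsPushout A₀ A P₀ P]
    [AddCommGroup M₀] [Module P₀ M₀] [Module A₀ M₀] [IsScalarTower A₀ P₀ M₀]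
    [AddCommGroup M] [Module P M] [Module A M] [IsScalarTower A P M] [Module P₀ M]
    [IsScalarTower P₀ P M] [Module A₀ M] [IsScalarTower A₀ A M] [IsScalarTower A₀ P₀ M]
    (θ : M₀ →ₗ[P₀] M) (h : IsBaseChange P θ) : IsBaseChange A (θ.restrictScalars A₀) := by
  refine IsBaseChange.of_equiv
    ((Algebra.IsPushout.cancelBaseChange A₀ A P₀ P M₀).symm.trans (h.equiv.restrictScalars A)) ?_
  intro x
  simp [Algebra.IsPushout.cancelBaseChange_symm_tmul, IsBaseChange.equiv_tmul]

/-- Model of a finitely presented module over a finitely generated subring. -/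
theorem exists_model {A : Type u} [CommRing A] (n : ℕ) {M : Type u} [AddCommGroup M]
    [Module (MvPolynomial (Fin n) A) M] [Module A M] [IsScalarTower A (MvPolynomial (Fin n) A) M]
    [Module.FinitePresentation (MvPolynomial (Fin n) A) M] {ι : Type*} [Finite ι]
    (g : ι → MvPolynomial (Fin n) A) :
    ∃ (A₀ : Subalgebra ℤ A) (_ : A₀.FG) (M₀ : Type u) (_ : AddCommGroup M₀)
      (_ : Module (MvPolynomial (Fin n) A₀) M₀) (_ : Module A₀ M₀)
      (_ : IsScalarTower A₀ (MvPolynomial (Fin n) A₀) M₀)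
      (_ : Module.Finite (MvPolynomial (Fin n) A₀) M₀)
      (g₀ : ι → MvPolynomial (Fin n) A₀) (θ : M₀ →ₗ[A₀] M),
      IsBaseChange A θ ∧ ∀ i m, g i • θ m = θ (g₀ i • m) := by
  classical
  cases nonempty_fintype ι
  obtain ⟨b, a, F, G, hF, hFG⟩ := Module.FinitePresentation.exists_fin' (MvPolynomial (Fin n) A) M
  -- the coefficients
  let T : Set A := (⋃ i : Fin b, ⋃ j : Fin a, ((G (Pi.single j 1) i).coeffs : Set A)) ∪
    ⋃ i : ι, ((g i).coeffs : Set A)
  have hT : T.Finite := by
    refine Set.Finite.union (Set.finite_iUnion fun i => Set.finite_iUnion fun j =>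
      Finset.finite_toSet _) (Set.finite_iUnion fun i => Finset.finite_toSet _)
  let A₀ : Subalgebra ℤ A := Algebra.adjoin ℤ T
  have hA₀ : A₀.FG := Subalgebra.fg_def.mpr ⟨T, hT, rfl⟩
  have hrange : ∀ x : MvPolynomial (Fin n) A, (x.coeffs : Set A) ⊆ T →
      ∃ y : MvPolynomial (Fin n) A₀, algebraMap _ (MvPolynomial (Fin n) A) y = x := by
    intro x hx
    have h1 : x ∈ Set.range (MvPolynomial.map (σ := Fin n) (algebraMap A₀ A)) := by
      rw [MvPolynomial.mem_range_map_iff_coeffs_subset]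
      refine hx.trans ?_
      intro t ht
      exact ⟨⟨t, Algebra.subset_adjoin ht⟩, rfl⟩
    exact h1
  have hG : ∀ (i : Fin b) (j : Fin a), ∃ y : MvPolynomial (Fin n) A₀,
      algebraMap _ (MvPolynomial (Fin n) A) y = G (Pi.single j 1) i := fun i j =>
    hrange _ fun t ht => Or.inl (Set.mem_iUnion.mpr ⟨i, Set.mem_iUnion.mpr ⟨j, ht⟩⟩)
  have hg : ∀ i : ι, ∃ y : MvPolynomial (Fin n) A₀,
      algebraMap _ (MvPolynomial (Fin n) A) y = g i := fun i =>
    hrange _ fun t ht => Or.inr (Set.mem_iUnion.mpr ⟨i, ht⟩)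
  choose G₀ hG₀ using hG
  choose g₀ hg₀ using hg
  let P₀ := MvPolynomial (Fin n) A₀
  let P := MvPolynomial (Fin n) A
  let G' : (Fin a → P₀) →ₗ[P₀] (Fin b → P₀) := (Matrix.of G₀).mulVecLin
  let M₀ := (Fin b → P₀) ⧸ LinearMap.range G'
  let : Module P₀ M := Module.compHom M (algebraMap P₀ P)
  have : IsScalarTower P₀ P M := IsScalarTower.of_algebraMap_smul fun r x => rfl
  have : IsScalarTower A₀ P₀ M := IsScalarTower.of_algebraMap_smul fun r x => by
    change algebraMap P₀ P (algebraMap A₀ P₀ r) • x = (r : A) • x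
    rw [← IsScalarTower.algebraMap_apply A₀ P₀ P, IsScalarTower.algebraMap_apply A₀ A P,
      algebraMap_smul]
    rfl
  let φ (k : ℕ) : (Fin k → P₀) →ₗ[P₀] (Fin k → P) := (Algebra.linearMap P₀ P).compLeft (Fin k)
  have hφ (k : ℕ) : IsBaseChange P (φ k) := IsBaseChange.finitePow _ (IsBaseChange.linearMap P₀ P)
  have comm₁ : (φ b).comp G' = (G.restrictScalars P₀).comp (φ a) := by
    refine LinearMap.pi_ext' fun j => LinearMap.ext_ring ?_
    ext1 i
    have h1 : (φ b) (G' (Pi.single j 1)) i = algebraMap P₀ P (G₀ i j) := by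
      change algebraMap P₀ P (G' (Pi.single j 1) i) = _
      simp [G', Matrix.mulVec_single]
    have h2 : φ a (Pi.single j 1) = Pi.single j 1 := by
      ext1 k
      change algebraMap P₀ P ((Pi.single j 1 : Fin a → P₀) k) = _
      rcases eq_or_ne k j with rfl | hk
      · simp
      · simp [Pi.single_eq_of_ne hk]
    change (φ b) (G' (Pi.single j 1)) i = G (φ a (Pi.single j 1)) i
    rw [h1, h2, hG₀]
  let θ : M₀ →ₗ[P₀] M := Submodule.liftQ _ ((F.restrictScalars P₀).comp (φ b)) (by
    rintro _ ⟨x, rfl⟩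
    rw [LinearMap.mem_ker]
    change F (((φ b).comp G') x) = 0
    rw [comm₁]
    exact hFG.apply_apply_eq_zero _)
  have hθ : IsBaseChange P θ :=
    IsBaseChange.of_right_exact P (φ a) (φ b) θ (f := G') (g := Submodule.mkQ _)
      (f' := G) (g' := F) comm₁ (Submodule.liftQ_mkQ _ _ _) (hφ a) (hφ b)
      (LinearMap.exact_map_mkQ_range G') (Submodule.mkQ_surjective _) hFG hF
  have : IsScalarTower A₀ P₀ M₀ := inferInstance
  refine ⟨A₀, hA₀, M₀, inferInstance, inferInstance, inferInstance, inferInstance, inferInstance,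
    g₀, θ.restrictScalars A₀, isBaseChange_of_isPushout θ hθ, fun i m => ?_⟩
  change g i • θ m = θ (g₀ i • m)
  rw [map_smul, ← hg₀]
  rfl

end Groth.Agent.Flat2E.ModDescent
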