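import Groth.Agent.Flat2E.FibAss
import Groth.Agent.Flat2E.ModDescent
import Groth.Agent.Ega43.ConsCrit
import Mathlib.RingTheory.Spectrum.Prime.Noetherian
import Mathlib.RingTheory.Spectrum.Prime.ConstructibleSet

/-!
# Constructibility of the locus where all associated primes of the fibre meet an open
-/

set_option autoImplicit false
universe u

namespace Groth.Agent.Flat2E.FibAssCons

open Groth.Agent.Flat2E.RelAssAlg Groth.Agent.Flat2E.FibInj Groth.Agent.Flat2E.FibAss Topology

variable {A B M : Type u} [CommRing A] [CommRing B] [Algebra A B] 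
  [AddCommGroup M] [Module B M] [Module A M] [IsScalarTower A B M] {ι : Type*} [Finite ι]
  (g : ι → B)

/-- the locus of joint injectivity on fibres -/
def locus (A : Type u) {B : Type u} (M : Type u) [CommRing A] [CommRing B]
    [Algebra A B] [AddCommGroup M] [Module B M] [Module A M] [IsScalarTower A B M] {ι : Type*}
    (g : ι → B) : Set (PrimeSpectrum A) := {p | FInj (mulFam A M g) p.asIdeal}

theorem isConstructible_piece (A : Type u) [CommRing A] [IsNoetherianRing A] (p₀ : Ideal A) (r : A) :
    IsConstructible ({p : PrimeSpectrum A | p₀ ≤ p.asIdeal ∧ r ∉ p.asIdeal}) := by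
  have h1 : {p : PrimeSpectrum A | p₀ ≤ p.asIdeal ∧ r ∉ p.asIdeal} =
      ((PrimeSpectrum.zeroLocus (p₀ : Set A))ᶜ)ᶜ ∩ (PrimeSpectrum.basicOpen r : Set (PrimeSpectrum A)) := by
    ext p
    simp [PrimeSpectrum.mem_zeroLocus]
  rw [h1]
  refine IsConstructible.inter (IsConstructible.compl ?_) PrimeSpectrum.isConstructible_basicOpen
  have hopen : IsOpen ((PrimeSpectrum.zeroLocus (p₀ : Set A))ᶜ) :=
    (PrimeSpectrum.isClosed_zeroLocus _).isOpen_compl
  exact (TopologicalSpace.NoetherianSpace.isCompact _).isConstructible hopen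

theorem isConstructible_locus_of_isNoetherianRing [IsNoetherianRing A] [Algebra.FiniteType A B]
    [Module.Finite B M] : IsConstructible (locus A M g) := by
  apply Groth.Agent.Ega43.ConsCrit.isConstructible_of_forall_exists
  intro p₀
  by_cases h : p₀ ∈ locus A M g
  · have h' := (fInj_mulFam_iff (M := M) g p₀.asIdeal).mp h
    obtain ⟨r, hr, h1⟩ := exists_notMem_not_le (M := M) p₀.asIdeal (Ideal.span (Set.range g)) (by
      intro q hq hq0 hass hle
      obtain ⟨i, hi⟩ := h' q hq hq0 hass
      exact hi (hle (Ideal.subset_span ⟨i, rfl⟩)))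
    refine ⟨{p | p₀.asIdeal ≤ p.asIdeal ∧ r ∉ p.asIdeal}, isConstructible_piece A _ _,
      ⟨le_rfl, hr⟩, ?_⟩
    convert isConstructible_piece A p₀.asIdeal r using 1
    rw [Set.inter_eq_left]
    rintro p ⟨hp1, hp2⟩
    change FInj (mulFam A M g) p.asIdeal
    rw [fInj_mulFam_iff]
    intro q hq hqp hass
    by_contra hcon
    push Not at hcon
    refine h1 p.asIdeal inferInstance hp1 hp2 q hq hqp hass ?_
    rw [Ideal.span_le]
    rintro _ ⟨i, rfl⟩
    exact hcon i
  · have h' : ¬ FInj (mulFam A M g) p₀.asIdeal := h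
    rw [fInj_mulFam_iff] at h'
    push Not at h'
    obtain ⟨q₀, hq₀, hq₀p, hass, hg⟩ := h'
    obtain ⟨r, hr, h1⟩ := exists_notMem_exists_locAss (M := M) p₀.asIdeal q₀ hq₀p hass
    refine ⟨{p | p₀.asIdeal ≤ p.asIdeal ∧ r ∉ p.asIdeal}, isConstructible_piece A _ _,
      ⟨le_rfl, hr⟩, ?_⟩
    convert IsConstructible.empty (X := PrimeSpectrum A) using 1
    rw [Set.eq_empty_iff_forall_notMem]
    rintro p ⟨⟨hp1, hp2⟩, hp3⟩
    have hp3' : FInj (mulFam A M g) p.asIdeal := hp3
    rw [fInj_mulFam_iff] at hp3'
    obtain ⟨q, hq, hle, hqp, hass'⟩ := h1 p.asIdeal inferInstance hp1 hp2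
    obtain ⟨i, hi⟩ := hp3' q hq hqp hass'
    exact hi (hle (hg i))

/-- preimages of constructible sets under maps of prime spectra are constructible -/
theorem isConstructible_preimage_comap {A₀ A : Type*} [CommRing A₀] [CommRing A] (f : A₀ →+* A)
    {E : Set (PrimeSpectrum A₀)} (hE : IsConstructible E) :
    IsConstructible (PrimeSpectrum.comap f ⁻¹' E) := by
  obtain ⟨S, rfl⟩ := PrimeSpectrum.exists_constructibleSetData_iff.mpr hE
  rw [← PrimeSpectrum.ConstructibleSetData.toSet_map]
  exact PrimeSpectrum.ConstructibleSetData.isConstructible_toSet _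

theorem isConstructible_locus_mvPolynomial {n : ℕ} {M : Type u} [AddCommGroup M]
    [Module (MvPolynomial (Fin n) A) M] [Module A M] [IsScalarTower A (MvPolynomial (Fin n) A) M]
    [Module.FinitePresentation (MvPolynomial (Fin n) A) M] 
    (g : ι → MvPolynomial (Fin n) A) : IsConstructible (locus A M g) := by
  obtain ⟨A₀, hA₀, M₀, _, _, _, _, _, g₀, θ, hθ, h⟩ := ModDescent.exists_model n (M := M) g
  have : IsNoetherianRing A₀ := isNoetherianRing_of_fg hA₀
  have h1 := isConstructible_locus_of_isNoetherianRing (A := A₀) (M := M₀) g₀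
  have h2 : locus A M g = PrimeSpectrum.comap (algebraMap A₀ A) ⁻¹' (locus A₀ M₀ g₀) := by
    ext p
    exact fInj_baseChange_iff θ hθ (mulFam A₀ M₀ g₀) (mulFam A M g) h p.asIdeal _ rfl
  rw [h2]
  exact isConstructible_preimage_comap _ h1

theorem isConstructible_locus [Algebra.FinitePresentation A B] [Module.FinitePresentation B M] :
    IsConstructible (locus A M g) := by
  obtain ⟨n, f, hf, hker⟩ := Algebra.FinitePresentation.out (R := A) (A := B)
  let P := MvPolynomial (Fin n) A
  let : Algebra P B := f.toRingHom.toAlgebra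
  have : IsScalarTower A P B := IsScalarTower.of_algebraMap_eq fun x => (f.commutes x).symm
  let : Module P M := Module.compHom M f.toRingHom
  have : IsScalarTower P B M := IsScalarTower.of_algebraMap_smul fun r x => rfl
  have : IsScalarTower A P M := IsScalarTower.of_algebraMap_smul fun r x => by
    change f (algebraMap A P r) • x = r • x
    rw [f.commutes, algebraMap_smul]
  have : Module.FinitePresentation P B :=
    Module.finitePresentation_of_surjective (Algebra.linearMap P B) hf hker
  have : Module.FinitePresentation P M := Module.FinitePresentation.trans P M B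
  choose g' hg' using fun i => hf (g i)
  have h1 := isConstructible_locus_mvPolynomial (M := M) g'
  have h2 : mulFam A M g' = mulFam A M g := by
    funext i
    ext m
    change f (g' i) • m = g i • m
    rw [hg']
  have h3 : locus A M g' = locus A M g := by
    unfold locus
    rw [h2]
  rwa [h3] at h1

end Groth.Agent.Flat2E.FibAssCons
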