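import Mathlib.RingTheory.Flat.Equalizer
import Mathlib.RingTheory.Nakayama
import Mathlib.RingTheory.LocalRing.Module
import Mathlib.RingTheory.LocalRing.RingHom.Basic
import Mathlib.LinearAlgebra.TensorProduct.Quotient

/-!
# Freeness from flatness over the base and freeness of the fibre (algebra core of Stacks 080Q)
-/

set_option autoImplicit false

namespace Groth.Agent.Flat2E.FlatFree

open TensorProduct IsLocalRing

/-- Let `R → A` be a ring map with `A` local such that the maximal ideal of `R` extends into the maximal
ideal of `A` and let `M` be an `A`-module of finite presentation, flat over `R`, with `M / 𝔪_R M` flat over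
`A / 𝔪_R A`. Then `M` is free. -/
theorem free_of_flat_of_flat_quotient {R A M : Type*} [CommRing R] [CommRing A] [IsLocalRing A]
    [Algebra R A] [AddCommGroup M] [Module A M] [Module R M] [IsScalarTower R A M]
    [Module.FinitePresentation A M] [Module.Flat R M] (J : Ideal R)
    (hJ : J.map (algebraMap R A) ≤ maximalIdeal A)
    (h2 : Module.Flat (A ⧸ J.map (algebraMap R A))
      (M ⧸ (J.map (algebraMap R A) • (⊤ : Submodule A M)))) :
    Module.Free A M := by
  classical
  set I : Ideal A := J.map (algebraMap R A) with hI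
  have hIne : I ≠ ⊤ := fun h => (maximalIdeal.isMaximal A).ne_top (top_le_iff.mp (h ▸ hJ))
  have : Nontrivial (A ⧸ I) := Ideal.Quotient.nontrivial_iff.mpr hIne
  have : IsLocalRing (A ⧸ I) := IsLocalRing.of_surjective' (Ideal.Quotient.mk I) Ideal.Quotient.mk_surjective
  let Mb := M ⧸ (I • (⊤ : Submodule A M))
  have : Module.Finite A Mb := inferInstance
  have : Module.Finite (A ⧸ I) Mb := Module.Finite.of_restrictScalars_finite A (A ⧸ I) Mb
  have : Module.Flat (A ⧸ I) Mb := h2
  have : Module.Free (A ⧸ I) Mb := Module.free_of_flat_of_isLocalRing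
  let b := Module.Free.chooseBasis (A ⧸ I) Mb
  have : Finite (Module.Free.ChooseBasisIndex (A ⧸ I) Mb) := inferInstance
  let ι := Module.Free.ChooseBasisIndex (A ⧸ I) Mb
  let _ : Fintype ι := Fintype.ofFinite _
  have hv : ∀ i, ∃ v : M, Submodule.Quotient.mk v = b i := fun i => Submodule.Quotient.mk_surjective _ (b i)
  choose v hv using hv
  have hjac : I ≤ Ideal.jacobson ⊥ := by
    rw [IsLocalRing.jacobson_eq_maximalIdeal ⊥ bot_ne_top]
    exact hJ
  -- spanning
  have hspan : Submodule.span A (Set.range v) = ⊤ := by
    apply eq_top_iff.mpr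
    refine Submodule.le_of_le_smul_of_le_jacobson_bot (I := I) (Module.Finite.fg_top) hjac ?_
    intro m _
    have hm : (Submodule.Quotient.mk m : Mb) ∈ Submodule.span (A ⧸ I) (Set.range b) := by
      rw [b.span_eq]; trivial
    have key : ∀ w ∈ Submodule.span (A ⧸ I) (Set.range b),
        ∃ m' ∈ Submodule.span A (Set.range v), (Submodule.Quotient.mk m' : Mb) = w := by
      intro w hw
      induction hw using Submodule.span_induction with
      | mem x hx =>
        obtain ⟨i, rfl⟩ := hx
        exact ⟨v i, Submodule.subset_span ⟨i, rfl⟩, hv i⟩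
      | zero => exact ⟨0, zero_mem _, rfl⟩
      | add x y _ _ hx hy =>
        obtain ⟨x', hx', rfl⟩ := hx
        obtain ⟨y', hy', rfl⟩ := hy
        exact ⟨x' + y', add_mem hx' hy', rfl⟩
      | smul a x _ hx =>
        obtain ⟨x', hx', rfl⟩ := hx
        obtain ⟨a, rfl⟩ := Ideal.Quotient.mk_surjective a
        exact ⟨a • x', Submodule.smul_mem _ a hx', rfl⟩
    obtain ⟨m', hm', h⟩ := key _ hm
    have : m - m' ∈ I • (⊤ : Submodule A M) := (Submodule.Quotient.eq _).mp h.symm
    have e : m = m' + (m - m') := by abel
    rw [e]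
    exact Submodule.add_mem_sup hm' this
  -- the surjection
  let φ : (ι → A) →ₗ[A] M := Fintype.linearCombination A v
  have hφs : Function.Surjective φ := by
    rw [← LinearMap.range_eq_top, Fintype.range_linearCombination, hspan]
  have hKfg : (LinearMap.ker φ).FG := Module.FinitePresentation.fg_ker φ hφs
  have hK : LinearMap.ker φ ≤ I • LinearMap.ker φ := by
    intro x hx
    -- x ∈ I (A^n)
    have hxI : ∀ i, x i ∈ I := by
      have h0 : (Submodule.Quotient.mk (φ x) : Mb) = 0 := by
        rw [LinearMap.mem_ker.mp hx]; rfl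
      have h1 : ∑ i, (Ideal.Quotient.mk I (x i)) • b i = 0 := by
        rw [← h0]
        simp only [φ, Fintype.linearCombination_apply]
        have : (Submodule.Quotient.mk (∑ i, x i • v i) : Mb) = ∑ i, x i • (Submodule.Quotient.mk (v i) : Mb) := by
          simp only [← Submodule.mkQ_apply, map_sum, map_smul]
        rw [this]
        refine Finset.sum_congr rfl fun i _ => ?_
        rw [hv]
        rfl
      have h2 := Fintype.linearIndependent_iff.mp b.linearIndependent _ h1
      intro i
      exact Ideal.Quotient.eq_zero_iff_mem.mp (h2 i)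
    -- pass to R-modules
    let K := LinearMap.ker φ
    let KR := K.restrictScalars R
    let g : KR →ₗ[R] (ι → A) := KR.subtype
    have hinj := LinearMap.lTensor_injective_of_exact_of_flat (R := R) (φ.restrictScalars R) hφs g
      (Subtype.val_injective) (by
        intro y
        constructor
        · intro hy
          exact ⟨⟨y, hy⟩, rfl⟩
        · rintro ⟨⟨y', hy'⟩, rfl⟩
          exact hy') (R ⧸ J)
    have hxR : x ∈ J • (⊤ : Submodule R (ι → A)) := by
      have : x = ∑ i, Pi.single i (x i) := by
        rw [Finset.univ_sum_single]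
      rw [this]
      refine Submodule.sum_mem _ fun i _ => ?_
      have hmap : ∀ a ∈ I, (Pi.single i a : ι → A) ∈ J • (⊤ : Submodule R (ι → A)) := by
        intro a ha
        have ha' : a ∈ J • (⊤ : Submodule R A) := by
          rw [Ideal.smul_top_eq_map]
          exact ha
        have := Submodule.smul_top_le_comap_smul_top (I := J) (LinearMap.single R (fun _ : ι => A) i) ha'
        exact this
      exact hmap _ (hxI i)
    have hz : (g.lTensor (R ⧸ J)) ((Ideal.Quotient.mk J 1) ⊗ₜ (⟨x, hx⟩ : KR)) = 0 := by
      rw [LinearMap.lTensor_tmul]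
      apply (TensorProduct.quotTensorEquivQuotSMul (ι → A) J).injective
      rw [TensorProduct.quotTensorEquivQuotSMul_mk_tmul, map_zero, one_smul]
      exact (Submodule.Quotient.mk_eq_zero _).mpr hxR
    have hz' : (Ideal.Quotient.mk J 1) ⊗ₜ[R] (⟨x, hx⟩ : KR) = 0 := hinj (by rw [hz, map_zero])
    have hxK : (⟨x, hx⟩ : KR) ∈ J • (⊤ : Submodule R KR) := by
      rw [← Submodule.Quotient.mk_eq_zero]
      have := TensorProduct.quotTensorEquivQuotSMul_mk_tmul (R := R) (M := KR) J 1 (⟨x, hx⟩ : KR)
      rw [hz', map_zero, one_smul] at this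
      exact this.symm
    -- conclude
    have hmap := Submodule.mem_map_of_mem (f := KR.subtype) hxK
    rw [Submodule.map_smul'', Submodule.map_top, Submodule.range_subtype] at hmap
    have hmap' : x ∈ J • KR := hmap
    refine Submodule.smul_induction_on hmap' ?_ ?_
    · intro r hr n hn
      have : r • n = (algebraMap R A r) • n := (algebraMap_smul A r n).symm
      rw [this]
      exact Submodule.smul_mem_smul (Ideal.mem_map_of_mem _ hr) hn
    · intro y z hy hz
      exact add_mem hy hz
  have hbot : LinearMap.ker φ = ⊥ := Submodule.eq_bot_of_le_smul_of_le_jacobson_bot I _ hKfg hK hjac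
  exact Module.Free.of_equiv (LinearEquiv.ofBijective φ ⟨LinearMap.ker_eq_bot.mp hbot, hφs⟩)

end Groth.Agent.Flat2E.FlatFree
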