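import Groth.Agent.FormalB.FormalKer
import Groth.Agent.PerfB.TensInv
import Groth.Agent.CohqB.TwistMono
import Groth.Agent.CurvesC.GGSec
import Groth.Agent.Ega2.AmpleGlobGen
import Groth.Agent.CycB.CohProp
import Groth.Agent.Grpsch.PicGrp

/-!
# Lifting maps out of negative twists along formal systems

* `exists_lift`: `S` short exact, `N ⊗ P ≅ O_X`, `P` invertible and `H¹(S.X₁ ⊗ P) = 0`; then every map `N ⟶ S.X₃`
  lifts to `S.X₂`.
* `exists_epi`: if `M ⊗ P` is globally generated, `M` coherent and `X` compact, then `M` is a quotient of a finite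
  sum of copies of `N`.
-/

set_option autoImplicit false
universe u

open CategoryTheory CategoryTheory.Limits AlgebraicGeometry Opposite TopologicalSpace

namespace Groth.Agent.Flat2E.FormalLift418

open Groth.Agent.PerfB.TensExact Groth.Agent.PerfB.TensInv Groth.Agent.Fdesc

variable {X : Scheme.{u}} {P N : X.Modules}

/-- `- ⊗ P` is an equivalence if `N ⊗ P ≅ O_X`. -/
noncomputable def twEquiv (e : CohB1.tensorMod N P ≅ Coh.structureModule X) : X.Modules ≌ X.Modules :=
  CategoryTheory.Equivalence.mk (DCoh.tensorRightMod P) (DCoh.tensorRightMod N)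
    (tensorInvIso ((Ega2.Tens.swap P N) ≪≫ e)).symm (tensorInvIso e)

theorem full_tw (e : CohB1.tensorMod N P ≅ Coh.structureModule X) : (DCoh.tensorRightMod P).Full :=
  inferInstanceAs (twEquiv e).functor.Full

theorem faithful_tw (e : CohB1.tensorMod N P ≅ Coh.structureModule X) : (DCoh.tensorRightMod P).Faithful :=
  inferInstanceAs (twEquiv e).functor.Faithful

/-- Every map `N ⟶ S.X₃` lifts to `S.X₂` if `S` is short exact, `N ⊗ P ≅ O_X` and `H¹(S.X₁ ⊗ P) = 0`. -/
theorem exists_lift (hP : PicF.IsInvertible P) (e : CohB1.tensorMod N P ≅ Coh.structureModule X)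
    {S : ShortComplex X.Modules} (hS : S.ShortExact)
    (h : Subsingleton (Coh.HH X (CohB1.tensorMod S.X₁ P) 1)) (t : N ⟶ S.X₃) :
    ∃ t' : N ⟶ S.X₂, t' ≫ S.g = t := by
  have := preservesFiniteLimits_of_isInvertible hP
  have := full_tw e
  have := faithful_tw e
  let F := DCoh.tensorRightMod P
  have hS' : (S.map F).ShortExact := hS.map_of_exact F
  let s : Coh.structureModule X ⟶ F.obj S.X₃ := e.inv ≫ F.map t
  obtain ⟨y, hy⟩ := CohqB.TwistMono.surjective_of_H1 hS' h (LocGen.sec s ⊤)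
  let s' : Coh.structureModule X ⟶ F.obj S.X₂ := LocGen.homOf y
  have hs' : s' ≫ F.map S.g = s := by
    apply LocGen.hom_ext_sec
    rw [LocGen.sec_comp, LocGen.sec_homOf, LocGen.res_refl]
    exact hy
  obtain ⟨t', ht'⟩ := F.map_surjective (e.hom ≫ s' : F.obj N ⟶ F.obj S.X₂)
  refine ⟨t', F.map_injective ?_⟩
  rw [F.map_comp, ht', Category.assoc, hs']
  exact e.hom_inv_id_assoc (F.map t)

/-- The same for maps out of a sum of copies of `N`. -/
theorem exists_lift_sigma (hP : PicF.IsInvertible P) (e : CohB1.tensorMod N P ≅ Coh.structureModule X)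
    {S : ShortComplex X.Modules} (hS : S.ShortExact)
    (h : Subsingleton (Coh.HH X (CohB1.tensorMod S.X₁ P) 1)) (κ : Type u)
    (t : (∐ fun _ : κ => N) ⟶ S.X₃) :
    ∃ t' : (∐ fun _ : κ => N) ⟶ S.X₂, t' ≫ S.g = t := by
  choose t' ht' using fun k => exists_lift hP e hS h (Sigma.ι (fun _ : κ => N) k ≫ t)
  refine ⟨Sigma.desc t', ?_⟩
  apply Sigma.hom_ext
  intro k
  rw [← Category.assoc, Sigma.ι_desc, ht']

/-- A finite set of generating sections of a globally generated coherent module on a compact scheme. -/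
theorem exists_finite_span [CompactSpace X] {M : X.Modules} (hM : Coh.IsCoh M)
    (hg : Curv2.IsGloballyGenerated M) :
    ∃ (ι κ : Type u) (_ : Finite κ) (U : ι → X.Opens) (s : κ → Γ(M, ⊤)), (∀ i, IsAffineOpen (U i)) ∧
      ⨆ i, U i = ⊤ ∧
      ∀ i, Submodule.span Γ(X, U i) (LocGen.res M (le_top : U i ≤ ⊤) '' Set.range s) = ⊤ := by
  classical
  obtain ⟨σ, s, hs⟩ := CurvesC.GGSec.exists_sections_of_isGloballyGenerated hg
  -- a finite affine cover
  choose V hVa hxV using fun x : X => exists_isAffineOpen_mem_and_subset (x := x) (U := ⊤) trivial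
  obtain ⟨T, hT⟩ := (isCompact_univ (X := X)).elim_finite_subcover (fun x : X => (V x : Set X))
    (fun x => (V x).2) (fun x _ => Set.mem_iUnion.mpr ⟨x, (hxV x).1⟩)
  have hfin : ∀ x : X, ∃ A : Finset σ,
      Submodule.span Γ(X, V x) (LocGen.res M (le_top : V x ≤ ⊤) '' (s '' (A : Set σ))) = ⊤ := by
    intro x
    have h1 := CurvesC.GGSec.spanOn_eq_top hM.1 hs (hVa x)
    have h2 : Module.Finite Γ(X, V x) Γ(M, V x) := by
      have := hM.1
      exact CohqB.FiniteType2.finite_sections_of_isFT M hM.2 (hVa x)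
    obtain ⟨B, hB1, hB2⟩ := Submodule.fg_span_iff_fg_span_finset_subset
      (Set.range fun i => LocGen.res M (le_top : V x ≤ ⊤) (s i)) |>.1 (by
        have h3 : Submodule.span Γ(X, V x) (Set.range fun i => LocGen.res M (le_top : V x ≤ ⊤) (s i)) = ⊤ := h1
        rw [h3]
        exact h2.fg_top)
    have h3 : ∀ b : B, ∃ i : σ, LocGen.res M (le_top : V x ≤ ⊤) (s i) = b.1 := fun b => hB1 b.2
    choose f hf using h3
    refine ⟨B.attach.image f, ?_⟩
    rw [eq_top_iff, ← h1]
    have h4 : CurvesC.GGSec.spanOn M s (V x) = Submodule.span Γ(X, V x)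
      (Set.range fun i => LocGen.res M (le_top : V x ≤ ⊤) (s i)) := rfl
    rw [h4, hB2]
    apply Submodule.span_mono
    intro b hb
    refine ⟨s (f ⟨b, hb⟩), ⟨f ⟨b, hb⟩, ?_, rfl⟩, hf ⟨b, hb⟩⟩
    exact Finset.mem_coe.2 (Finset.mem_image.2 ⟨⟨b, hb⟩, Finset.mem_attach _ _, rfl⟩)
  choose A hA using hfin
  refine ⟨T, {i : σ // i ∈ T.biUnion A}, inferInstance, fun x => V x.1, fun i => s i.1, fun i => hVa _, ?_, ?_⟩
  · rw [eq_top_iff]
    intro x _
    obtain ⟨y, hy⟩ := Set.mem_iUnion.1 (hT (Set.mem_univ x))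
    obtain ⟨hyT, hxy⟩ := Set.mem_iUnion.1 hy
    exact Opens.mem_iSup.2 ⟨⟨y, hyT⟩, hxy⟩
  · intro i
    rw [eq_top_iff, ← hA i.1]
    apply Submodule.span_mono
    rintro _ ⟨_, ⟨j, hj, rfl⟩, rfl⟩
    exact ⟨s j, ⟨⟨j, Finset.mem_biUnion.2 ⟨i.1, i.2, hj⟩⟩, rfl⟩, rfl⟩

/-- A coherent module `M` with `M ⊗ P` globally generated is a quotient of a finite sum of copies of `N` if
`N ⊗ P ≅ O_X`. -/
theorem exists_epi [CompactSpace X] (hP : PicF.IsInvertible P)
    (e : CohB1.tensorMod N P ≅ Coh.structureModule X) {M : X.Modules} (hM : Coh.IsCoh M)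
    (hg : Curv2.IsGloballyGenerated (CohB1.tensorMod M P)) :
    ∃ (κ : Type u) (_ : Finite κ) (p : (∐ fun _ : κ => N) ⟶ M), Epi p := by
  have := full_tw e
  have := faithful_tw e
  let F := DCoh.tensorRightMod P
  have hMP : Coh.IsCoh (CohB1.tensorMod M P) := Ega2.GlobGenCrit.isCoh_tensor hM hP
  obtain ⟨ι, κ, hκ, U, s, hU, hc, hs⟩ := exists_finite_span hMP hg
  choose p hp using fun k : κ =>
    F.map_surjective (e.hom ≫ LocGen.homOf (s k) : F.obj N ⟶ F.obj M)
  refine ⟨κ, hκ, Sigma.desc p, ⟨fun {Z} h₁ h₂ h => F.map_injective ?_⟩⟩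
  refine Ega2.GlobGenCrit.hom_ext_of_span hMP.1 U hU hc (Set.range s) hs (F.map h₁) (F.map h₂) ?_
  rintro _ ⟨k, rfl⟩
  have h1 : p k ≫ h₁ = p k ≫ h₂ := by
    rw [← Sigma.ι_desc (f := fun _ : κ => N) p k, Category.assoc, h, Category.assoc]
  have h2 : (LocGen.homOf (s k) : Coh.structureModule X ⟶ F.obj M) ≫ F.map h₁ =
      (LocGen.homOf (s k) : Coh.structureModule X ⟶ F.obj M) ≫ F.map h₂ := by
    have h3 := congrArg F.map h1
    rw [F.map_comp, F.map_comp, hp] at h3
    rw [← cancel_epi e.hom]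
    simp only [Category.assoc] at h3
    exact h3
  have h4 := congrArg (fun z => LocGen.sec z ⊤) h2
  simp only [LocGen.sec_comp, LocGen.sec_homOf, LocGen.res_refl] at h4
  exact h4

theorem isCoh_of_isInvertible (hN : PicF.IsInvertible N) : Coh.IsCoh N := by
  refine ⟨isQCoh_of_isInvertible hN, ?_⟩
  have h0 : Coh.IsQCoh N := isQCoh_of_isInvertible hN
  refine CohqB.FiniteType2.isFT_of_finite_sections _ fun x => ?_
  obtain ⟨U, e, hxU, he⟩ := (LocGen.isInvertible_iff N).1 hN x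
  obtain ⟨_, ⟨V, hV, rfl⟩, hxV, hVU⟩ := X.isBasis_affineOpens.exists_subset_of_mem_open hxU U.isOpen
  refine ⟨V, hxV, hV, ?_⟩
  refine Module.Finite.of_surjective (LinearMap.toSpanSingleton Γ(X, V) Γ(N, V) (LocGen.res N hVU e)) fun t => ?_
  obtain ⟨a, ha⟩ := (he.res hVU).exists_eq t
  exact ⟨a, ha.symm⟩

/-- Generation of a coherent formal system by a coherent module with the lifting property. -/
theorem exists_gen_of_van {A : Type u} [CommRing A] [X.Over (Spec (CommRingCat.of A))] [IsNoetherian X]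
    {I : Ideal A} {G : ℕᵒᵖ ⥤ X.Modules} (hG : Formal.IsCohFormal I G) (hP : PicF.IsInvertible P)
    (hg : Curv2.IsGloballyGenerated (CohB1.tensorMod (G.obj (op 0)) P))
    (hvan : ∀ n : ℕ, Subsingleton (Coh.HH X (CohB1.tensorMod
      (kernel (G.map (homOfLE (Nat.le_succ n)).op)) P) 1)) :
    ∃ E : X.Modules, Coh.IsCoh E ∧ (∃ p : E ⟶ G.obj (op 0), Epi p) ∧
      ∀ (n : ℕ) (t : E ⟶ G.obj (op n)), ∃ t' : E ⟶ G.obj (op (n + 1)),
        t' ≫ G.map (homOfLE (Nat.le_succ n)).op = t := by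
  obtain ⟨N, hN, ⟨e'⟩⟩ := Grpsch.PicGrp.exists_inverse hP
  let e : CohB1.tensorMod N P ≅ Coh.structureModule X := Ega2.Tens.swap N P ≪≫ e'
  obtain ⟨κ, hκ, p, hp⟩ := exists_epi hP e (hG.1 0) hg
  refine ⟨∐ fun _ : κ => N, CycB.CohProp.isCoh_finite_coproduct _ fun _ => isCoh_of_isInvertible hN, ⟨p, hp⟩,
    fun n t => ?_⟩
  have hF := (FormalB.ModPow.isCohFormal_iff I G).1 hG
  have hepi : Epi (G.map (homOfLE (Nat.le_succ n)).op) := (hF.2.succ n).epi
  let S : ShortComplex X.Modules := ShortComplex.mk (kernel.ι (G.map (homOfLE (Nat.le_succ n)).op))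
    (G.map (homOfLE (Nat.le_succ n)).op) (kernel.condition _)
  have hS : S.ShortExact :=
    { exact := ShortComplex.exact_kernel _
      mono_f := inferInstance
      epi_g := hepi }
  exact exists_lift_sigma hP e hS (hvan n) κ t

end Groth.Agent.Flat2E.FormalLift418
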