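import Mathlib

/-!
# Generic flatness over a Noetherian domain (and the Hochster-Roberts refinement)

`FlatAway R f Q` : `Q` becomes flat over `R` after inverting `f`.
`GF R Q` : `Q` is generically flat, i.e. `FlatAway R f Q` for some nonzero `f`.
-/

set_option autoImplicit false

namespace Groth.Agent.Flat2E.GenFlat

open TensorProduct

universe u v w

section FlatExt

variable {R : Type u} [CommRing R]

/-- An extension of flat modules is flat. -/
theorem flat_of_exact {M : Type*} {N : Type*} {P : Type*} [AddCommGroup M] [AddCommGroup N]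
    [AddCommGroup P] [Module R M] [Module R N] [Module R P] (i : M →ₗ[R] N) (p : N →ₗ[R] P)
    (hi : Function.Injective i) (hp : Function.Surjective p) (h : Function.Exact i p)
    (hM : Module.Flat R M) (hP : Module.Flat R P) : Module.Flat R N := by
  rw [Module.Flat.iff_rTensor_injective']
  intro I
  rw [injective_iff_map_eq_zero]
  intro z hz
  have h1 : LinearMap.rTensor P I.subtype (LinearMap.lTensor I p z) = 0 := by
    have : LinearMap.rTensor P I.subtype (LinearMap.lTensor I p z) =
        LinearMap.lTensor R p (LinearMap.rTensor N I.subtype z) := by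
      rw [← LinearMap.comp_apply, ← LinearMap.comp_apply, LinearMap.rTensor_comp_lTensor,
        LinearMap.lTensor_comp_rTensor]
    rw [this, hz, map_zero]
  have h2 : LinearMap.lTensor I p z = 0 :=
    (injective_iff_map_eq_zero _).1 ((Module.Flat.iff_rTensor_injective').1 hP I) _ h1
  have hex : Function.Exact (LinearMap.lTensor I i) (LinearMap.lTensor I p) :=
    lTensor_exact I h hp
  obtain ⟨w, rfl⟩ := (hex z).1 h2
  have h3 : LinearMap.lTensor R i (LinearMap.rTensor M I.subtype w) = 0 := by
    have : LinearMap.lTensor R i (LinearMap.rTensor M I.subtype w) =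
        LinearMap.rTensor N I.subtype (LinearMap.lTensor I i w) := by
      rw [← LinearMap.comp_apply, ← LinearMap.comp_apply, LinearMap.rTensor_comp_lTensor,
        LinearMap.lTensor_comp_rTensor]
    rw [this, hz]
  have h4 : LinearMap.rTensor M I.subtype w = 0 :=
    (injective_iff_map_eq_zero _).1 (Module.Flat.lTensor_preserves_injective_linearMap (M := R) i hi)
      _ h3
  have h5 : w = 0 :=
    (injective_iff_map_eq_zero _).1 ((Module.Flat.iff_rTensor_injective').1 hM I) _ h4
  rw [h5, map_zero]

/-- A union of an increasing sequence of flat submodules is flat. -/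
theorem flat_of_iUnion {Q : Type*} [AddCommGroup Q] [Module R Q] (G : ℕ → Submodule R Q)
    (hmono : Monotone G) (htop : ∀ q, ∃ n, q ∈ G n) (hG : ∀ n, Module.Flat R (G n)) :
    Module.Flat R Q := by
  refine Module.Flat.of_forall_isTrivialRelation ?_
  intro l f x hfx
  choose n hn using fun i => htop (x i)
  let m := Finset.univ.sup n
  have hm : ∀ i, x i ∈ G m := fun i => hmono (Finset.le_sup (Finset.mem_univ i)) (hn i)
  have := hG m
  have h1 : ∑ i, f i • (⟨x i, hm i⟩ : G m) = 0 := by
    apply Subtype.ext
    simpa using hfx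
  obtain ⟨k, a, y, h2, h3⟩ := Module.Flat.isTrivialRelation_of_sum_smul_eq_zero h1
  refine ⟨k, a, fun j => (y j : Q), fun i => ?_, h3⟩
  have := congrArg Subtype.val (h2 i)
  simpa using this

end FlatExt

/-- `Q` is flat over `R` after inverting `f`. -/
def FlatAway (R : Type u) [CommRing R] (f : R) (Q : Type v) [AddCommGroup Q] [Module R Q] : Prop :=
  Module.Flat R (Localization.Away f ⊗[R] Q)

section FlatAway

variable {R : Type u} [CommRing R]

theorem FlatAway.of_linearEquiv {f : R} {Q : Type v} {Q' : Type w} [AddCommGroup Q] [Module R Q]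
    [AddCommGroup Q'] [Module R Q'] (e : Q ≃ₗ[R] Q') (h : FlatAway R f Q) : FlatAway R f Q' := by
  have : Module.Flat R (Localization.Away f ⊗[R] Q) := h
  exact Module.Flat.of_linearEquiv (LinearEquiv.lTensor (Localization.Away f) e.symm)

theorem FlatAway.of_exact {f : R} {M : Type*} {N : Type*} {P : Type*} [AddCommGroup M]
    [AddCommGroup N]
    [AddCommGroup P] [Module R M] [Module R N] [Module R P] (i : M →ₗ[R] N) (p : N →ₗ[R] P)
    (hi : Function.Injective i) (hp : Function.Surjective p) (h : Function.Exact i p)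
    (hM : FlatAway R f M) (hP : FlatAway R f P) : FlatAway R f N :=
  flat_of_exact (LinearMap.lTensor (Localization.Away f) i)
    (LinearMap.lTensor (Localization.Away f) p)
    (Module.Flat.lTensor_preserves_injective_linearMap i hi)
    (LinearMap.lTensor_surjective _ hp)
    (Module.Flat.lTensor_exact _ h) hM hP

theorem FlatAway.mul {f g : R} {Q : Type v} [AddCommGroup Q] [Module R Q] (h : FlatAway R f Q) :
    FlatAway R (f * g) Q := by
  have h' : Module.Flat R (Localization.Away f ⊗[R] Q) := h
  have hunit : IsUnit (algebraMap R (Localization.Away (f * g)) f) := by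
    have : IsUnit (algebraMap R (Localization.Away (f * g)) (f * g)) :=
      IsLocalization.Away.algebraMap_isUnit (f * g)
    rw [map_mul] at this
    exact isUnit_of_mul_isUnit_left this
  let φ : Localization.Away f →+* Localization.Away (f * g) :=
    IsLocalization.Away.lift f hunit
  let : Algebra (Localization.Away f) (Localization.Away (f * g)) := φ.toAlgebra
  have : IsScalarTower R (Localization.Away f) (Localization.Away (f * g)) :=
    IsScalarTower.of_algebraMap_eq' (by
      ext x
      simp only [RingHom.algebraMap_toAlgebra, RingHom.comp_apply, φ]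
      rw [IsLocalization.Away.lift_eq])
  have h1 : Module.Flat (Localization.Away f) (Localization.Away f ⊗[R] Q) :=
    (Module.flat_iff_of_isLocalization (Localization.Away f) (Submonoid.powers f)
      (M := Localization.Away f ⊗[R] Q)).2 h'
  have h2 : Module.Flat (Localization.Away (f * g))
      (Localization.Away (f * g) ⊗[Localization.Away f] (Localization.Away f ⊗[R] Q)) :=
    inferInstance
  have h3 : Module.Flat (Localization.Away (f * g)) (Localization.Away (f * g) ⊗[R] Q) :=
    Module.Flat.of_linearEquiv
      (TensorProduct.AlgebraTensorModule.cancelBaseChange R (Localization.Away f)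
        (Localization.Away (f * g)) (Localization.Away (f * g)) Q).symm
  exact Module.Flat.trans R (Localization.Away (f * g)) _

theorem FlatAway.mul' {f g : R} {Q : Type v} [AddCommGroup Q] [Module R Q] (h : FlatAway R g Q) :
    FlatAway R (f * g) Q := by
  rw [mul_comm]; exact h.mul

theorem flatAway_of_subsingleton (f : R) (Q : Type v) [AddCommGroup Q] [Module R Q]
    [Subsingleton Q] : FlatAway R f Q := by
  unfold FlatAway
  infer_instance

theorem FlatAway.of_iUnion {f : R} {Q : Type v} [AddCommGroup Q] [Module R Q]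
    (G : ℕ → Submodule R Q)
    (hmono : Monotone G) (htop : ∀ q, ∃ n, q ∈ G n) (hG : ∀ n, FlatAway R f (G n)) :
    FlatAway R f Q := by
  let T := Localization.Away f
  let H : ℕ → Submodule R (T ⊗[R] Q) := fun n => LinearMap.range (LinearMap.lTensor T (G n).subtype)
  have hH : Monotone H := by
    intro n m hnm
    rintro _ ⟨z, rfl⟩
    refine ⟨LinearMap.lTensor T (Submodule.inclusion (hmono hnm)) z, ?_⟩
    rw [← LinearMap.comp_apply, ← LinearMap.lTensor_comp]
    rfl
  refine flat_of_iUnion H hH ?_ ?_
  · intro z
    induction z with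
    | zero => exact ⟨0, Submodule.zero_mem _⟩
    | tmul t q =>
      obtain ⟨n, hn⟩ := htop q
      exact ⟨n, t ⊗ₜ ⟨q, hn⟩, by simp⟩
    | add x y hx hy =>
      obtain ⟨n, hn⟩ := hx
      obtain ⟨m, hm⟩ := hy
      exact ⟨max n m, Submodule.add_mem _ (hH (le_max_left _ _) hn) (hH (le_max_right _ _) hm)⟩
  · intro n
    have := hG n
    have h1 : Module.Flat R (T ⊗[R] G n) := this
    exact Module.Flat.of_linearEquiv (LinearEquiv.ofInjective (LinearMap.lTensor T (G n).subtype)
      (Module.Flat.lTensor_preserves_injective_linearMap _ (G n).injective_subtype)).symm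

end FlatAway

section Chain

variable {R : Type u} [CommRing R] {A : Type v} [CommRing A] [Algebra R A]
  {Q : Type w} [AddCommGroup Q] [Module A Q] [Module R Q] [IsScalarTower R A Q]

theorem flatAway_of_sub_quot {f : R} (G : Submodule A Q) (h1 : FlatAway R f G)
    (h2 : FlatAway R f (Q ⧸ G)) : FlatAway R f Q :=
  FlatAway.of_exact (G.subtype.restrictScalars R) (G.mkQ.restrictScalars R)
    G.injective_subtype G.mkQ_surjective
    (fun x => by simp) h1 h2

theorem flatAway_of_chain {f : R} (G : ℕ → Submodule A Q) (hmono : Monotone G)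
    (h0 : G 0 = ⊥) (htop : ∀ q, ∃ n, q ∈ G n)
    (hgr : ∀ n, FlatAway R f (G (n + 1) ⧸ (G n).comap (G (n + 1)).subtype)) :
    FlatAway R f Q := by
  have key : ∀ n, FlatAway R f (G n) := by
    intro n
    induction n with
    | zero =>
      have : Subsingleton (G 0) := by rw [h0]; infer_instance
      exact flatAway_of_subsingleton _ _
    | succ n ih =>
      refine flatAway_of_sub_quot ((G n).comap (G (n + 1)).subtype) ?_ (hgr n)
      exact FlatAway.of_linearEquiv
        ((Submodule.comapSubtypeEquivOfLe (hmono n.le_succ)).symm.restrictScalars R) ih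
  exact FlatAway.of_iUnion (fun n => (G n).restrictScalars R) (fun n m h => hmono h) htop key

end Chain

/-- `Q` is generically flat over `R`. -/
def GF (R : Type u) [CommRing R] (Q : Type v) [AddCommGroup Q] [Module R Q] : Prop :=
  ∃ f : R, f ≠ 0 ∧ FlatAway R f Q

section GF

variable {R : Type u} [CommRing R] [IsDomain R]

omit [IsDomain R] in
theorem GF.of_linearEquiv {Q : Type v} {Q' : Type w} [AddCommGroup Q] [Module R Q]
    [AddCommGroup Q'] [Module R Q'] (e : Q ≃ₗ[R] Q') (h : GF R Q) : GF R Q' := by
  obtain ⟨f, hf, h⟩ := h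
  exact ⟨f, hf, h.of_linearEquiv e⟩

theorem GF.of_exact {M : Type*} {N : Type*} {P : Type*} [AddCommGroup M] [AddCommGroup N]
    [AddCommGroup P] [Module R M] [Module R N] [Module R P] (i : M →ₗ[R] N) (p : N →ₗ[R] P)
    (hi : Function.Injective i) (hp : Function.Surjective p) (h : Function.Exact i p)
    (hM : GF R M) (hP : GF R P) : GF R N := by
  obtain ⟨f, hf, hM⟩ := hM
  obtain ⟨g, hg, hP⟩ := hP
  exact ⟨f * g, mul_ne_zero hf hg, FlatAway.of_exact i p hi hp h hM.mul hP.mul'⟩

theorem GF.forall_lt {Q : ℕ → Type v} [∀ n, AddCommGroup (Q n)] [∀ n, Module R (Q n)]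
    (h : ∀ n, GF R (Q n)) (N : ℕ) : ∃ f : R, f ≠ 0 ∧ ∀ n < N, FlatAway R f (Q n) := by
  induction N with
  | zero => exact ⟨1, one_ne_zero, fun n hn => absurd hn (Nat.not_lt_zero n)⟩
  | succ N ih =>
    obtain ⟨f, hf, hfn⟩ := ih
    obtain ⟨g, hg, hgN⟩ := h N
    refine ⟨f * g, mul_ne_zero hf hg, fun n hn => ?_⟩
    rcases Nat.lt_succ_iff_lt_or_eq.1 hn with h | rfl
    · exact (hfn n h).mul
    · exact hgN.mul'

end GF

section Step

variable {R : Type u} [CommRing R] [IsDomain R] {A : Type v} [CommRing A] [Algebra R A]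
  [IsNoetherianRing A]
  {N : Type w} [AddCommGroup N] [Module A N] [Module R N] [IsScalarTower R A N]

/-- The increasing sequence `M + y M + ... + y^n M`. -/
def chainF (y : N →ₗ[A] N) (M : Submodule A N) : ℕ → Submodule A N
  | 0 => M
  | n + 1 => chainF y M n ⊔ M.map (y ^ (n + 1))

omit [IsNoetherianRing A] in
theorem chainF_mono (y : N →ₗ[A] N) (M : Submodule A N) : Monotone (chainF y M) :=
  monotone_nat_of_le_succ fun _ => le_sup_left

omit [IsNoetherianRing A] in
theorem map_chainF_le (y : N →ₗ[A] N) (M : Submodule A N) (n : ℕ) :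
    (chainF y M n).map y ≤ chainF y M (n + 1) := by
  induction n with
  | zero => exact le_sup_of_le_right (by simp [chainF])
  | succ n ih =>
    rw [chainF, Submodule.map_sup]
    refine sup_le (ih.trans (chainF_mono y M (Nat.le_succ _))) ?_
    rw [← Submodule.map_comp]
    exact le_sup_of_le_right (le_of_eq (by rw [pow_succ' y (n + 1)]; rfl))

omit [IsNoetherianRing A] in
theorem pow_mem_chainF (y : N →ₗ[A] N) (M : Submodule A N) (n : ℕ) {m : N} (hm : m ∈ M) :
    (y ^ n) m ∈ chainF y M n := by
  cases n with
  | zero => simpa [chainF] using hm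
  | succ n => exact Submodule.mem_sup_right (Submodule.mem_map_of_mem hm)

/-- One variable step of generic flatness: if every finite `A`-module is generically flat over `R`,
`M` is a finite `A`-submodule of `N` and `N` is the union of the `M + y M + ... + y^n M`, then
`N / M` is generically flat over `R`. -/
theorem GF.quot_of_chainF
    (hA : ∀ (Q : Type w) [AddCommGroup Q] [Module A Q] [Module R Q] [IsScalarTower R A Q],
      Module.Finite A Q → GF R Q)
    (y : N →ₗ[A] N) (M : Submodule A N) (hM : M.FG) (htop : ∀ q, ∃ n, q ∈ chainF y M n) :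
    GF R (N ⧸ M) := by
  let K : ℕ → Submodule A M := fun n =>
    (chainF y M n).comap ((y ^ (n + 1)).comp M.subtype)
  have hK : Monotone K := by
    refine monotone_nat_of_le_succ fun n m hm => ?_
    have hm' : (y ^ (n + 1)) (m : N) ∈ chainF y M n := hm
    change (y ^ (n + 1 + 1)) (m : N) ∈ chainF y M (n + 1)
    rw [pow_succ' y (n + 1)]
    exact map_chainF_le y M n (Submodule.mem_map_of_mem hm')
  have hfin : Module.Finite A M := Module.Finite.iff_fg.2 hM
  have hnoeth : IsNoetherian A M := inferInstance
  obtain ⟨n0, hn0⟩ := monotone_stabilizes_iff_noetherian.2 hnoeth ⟨K, hK⟩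
  have hKn : ∀ n, GF R (M ⧸ K n) := fun n => hA _ inferInstance
  obtain ⟨f, hf, hfn⟩ := GF.forall_lt hKn (n0 + 1)
  refine ⟨f, hf, ?_⟩
  have hall : ∀ n, FlatAway R f (M ⧸ K n) := by
    intro n
    by_cases h : n < n0 + 1
    · exact hfn n h
    · have h1 : K n0 = K n := hn0 n (by omega)
      rw [← h1]
      exact hfn n0 (Nat.lt_succ_self n0)
  let G : ℕ → Submodule A (N ⧸ M) := fun n => (chainF y M n).map M.mkQ
  have hG : Monotone G := fun a b hab => Submodule.map_mono (chainF_mono y M hab)
  have hMle : ∀ n, M ≤ chainF y M n := fun n => chainF_mono y M (Nat.zero_le n)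
  have hGmem : ∀ n (x : N), M.mkQ x ∈ G n ↔ x ∈ chainF y M n := by
    intro n x
    constructor
    · rintro ⟨z, hz, hzx⟩
      have h2 : z - x ∈ M := (Submodule.Quotient.eq M).1 hzx
      have := Submodule.sub_mem _ hz (hMle n h2)
      simpa using this
    · exact fun h => Submodule.mem_map_of_mem h
  refine flatAway_of_chain G hG ?_ ?_ ?_
  · rw [eq_bot_iff]
    rintro _ ⟨z, hz, rfl⟩
    have hz' : z ∈ M := hz
    simpa using hz'
  · intro q
    obtain ⟨x, rfl⟩ := M.mkQ_surjective q
    obtain ⟨n, hn⟩ := htop x
    exact ⟨n, (hGmem n x).2 hn⟩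
  · intro n
    let φ0 : M →ₗ[A] G (n + 1) :=
      LinearMap.codRestrict (G (n + 1)) (M.mkQ.comp ((y ^ (n + 1)).comp M.subtype))
        (fun m => (hGmem _ _).2 (pow_mem_chainF y M (n + 1) m.2))
    let φ : M →ₗ[A] (G (n + 1) ⧸ (G n).comap (G (n + 1)).subtype) :=
      (Submodule.mkQ _).comp φ0
    have hker : LinearMap.ker φ = K n := by
      ext m
      rw [LinearMap.mem_ker]
      change (Submodule.Quotient.mk (φ0 m) : G (n + 1) ⧸ (G n).comap (G (n + 1)).subtype) = 0 ↔ _
      rw [Submodule.Quotient.mk_eq_zero, Submodule.mem_comap]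
      exact hGmem n _
    have hsurj : Function.Surjective φ := by
      intro q
      obtain ⟨⟨_, x, hx, rfl⟩, rfl⟩ := Submodule.mkQ_surjective _ q
      have hx' : x ∈ chainF y M n ⊔ M.map (y ^ (n + 1)) := hx
      obtain ⟨a, ha, _, ⟨m, hm, rfl⟩, rfl⟩ := Submodule.mem_sup.1 hx'
      refine ⟨⟨m, hm⟩, ?_⟩
      refine (Submodule.Quotient.eq _).2 ?_
      rw [Submodule.mem_comap]
      change M.mkQ ((y ^ (n + 1)) m) - M.mkQ (a + (y ^ (n + 1)) m) ∈ G n
      rw [← map_sub, hGmem]
      simpa using ha
    have e1 : (M ⧸ LinearMap.ker φ) ≃ₗ[A] (G (n + 1) ⧸ (G n).comap (G (n + 1)).subtype) :=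
      φ.quotKerEquivOfSurjective hsurj
    have h3 : FlatAway R f (M ⧸ LinearMap.ker φ) := by
      rw [hker]; exact hall n
    exact h3.of_linearEquiv (e1.restrictScalars R)

end Step

section Main

/-- Every finite `A`-module is generically flat over `R`. -/
def AllGF (R : Type u) [CommRing R] (A : Type v) [CommRing A] [Algebra R A] : Prop :=
  ∀ (Q : Type w) [AddCommGroup Q] [Module A Q] [Module R Q] [IsScalarTower R A Q],
    Module.Finite A Q → GF R Q

theorem chainF_top {A : Type u} [CommRing A] {C : Type v} [CommRing C] [Algebra A C]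
    (s : Set C) (t : Set C) (y : C) (hst : s = insert y t) (hs : Algebra.adjoin A s = ⊤)
    {N : Type w} [AddCommGroup N] [Module C N] (M : Submodule (Algebra.adjoin A t) N)
    (hM : Submodule.span C (M : Set N) = ⊤) (q : N) :
    ∃ n, q ∈ chainF ((LinearMap.lsmul C N y).restrictScalars (Algebra.adjoin A t)) M n := by
  set φ := (LinearMap.lsmul C N y).restrictScalars (Algebra.adjoin A t) with hφ
  have hU : ∀ (c : C) (q : N), (∃ n, q ∈ chainF φ M n) → (∃ n, c • q ∈ chainF φ M n) := by
    intro c
    have hc : c ∈ Algebra.adjoin A s := by rw [hs]; trivial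
    induction hc using Algebra.adjoin_induction with
    | mem x hx =>
      rw [hst] at hx
      rintro q ⟨n, hn⟩
      rcases hx with rfl | hx
      · exact ⟨n + 1, map_chainF_le φ M n (Submodule.mem_map_of_mem hn)⟩
      · exact ⟨n, Submodule.smul_mem _ (⟨x, Algebra.subset_adjoin hx⟩ : Algebra.adjoin A t) hn⟩
    | algebraMap a =>
      rintro q ⟨n, hn⟩
      exact ⟨n, Submodule.smul_mem _ (⟨algebraMap A C a, Subalgebra.algebraMap_mem _ a⟩ :
        Algebra.adjoin A t) hn⟩
    | add x z _ _ hx hz =>
      intro q hq
      obtain ⟨n, hn⟩ := hx q hq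
      obtain ⟨m, hm⟩ := hz q hq
      refine ⟨max n m, ?_⟩
      rw [add_smul]
      exact Submodule.add_mem _ (chainF_mono φ M (le_max_left _ _) hn)
        (chainF_mono φ M (le_max_right _ _) hm)
    | mul x z _ _ hx hz =>
      intro q hq
      rw [mul_smul]
      exact hx _ (hz _ hq)
  have hq : q ∈ Submodule.span C (M : Set N) := by rw [hM]; trivial
  induction hq using Submodule.span_induction with
  | mem x hx => exact ⟨0, hx⟩
  | zero => exact ⟨0, Submodule.zero_mem _⟩
  | add x z _ _ hx hz =>
    obtain ⟨n, hn⟩ := hx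
    obtain ⟨m, hm⟩ := hz
    exact ⟨max n m, Submodule.add_mem _ (chainF_mono φ M (le_max_left _ _) hn)
        (chainF_mono φ M (le_max_right _ _) hm)⟩
  | smul c x _ hx => exact hU c x hx

variable {R : Type u} [CommRing R] [IsDomain R] {A : Type v} [CommRing A] [Algebra R A]
  [IsNoetherianRing A]

/-- Generic flatness of `N / M` for `M` a finite `A`-submodule of a finite module `N` over a
finite type `A`-algebra `C`, if every finite `A`-module is generically flat over `R`. -/
theorem GF.quot_of_card (hA : AllGF.{u, v, w} R A) (n : ℕ) :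
    ∀ (C : Type v) [CommRing C] [Algebra A C] [Algebra R C] [IsScalarTower R A C] (s : Finset C)
      (_ : s.card ≤ n) (_ : Algebra.adjoin A (s : Set C) = ⊤)
      (N : Type w) [AddCommGroup N] [Module C N] [Module A N] [Module R N]
      [IsScalarTower A C N] [IsScalarTower R A N] (_ : Module.Finite C N)
      (M : Submodule A N) (_ : M.FG), GF R (N ⧸ M) := by
  induction n with
  | zero =>
    intro C _ _ _ _ s hs hadj N _ _ _ _ _ _ hfin M hM
    have hs' : s = ∅ := Finset.card_eq_zero.1 (Nat.le_zero.1 hs)
    subst hs'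
    have hsurj : Function.Surjective (algebraMap A C) := by
      rw [Finset.coe_empty, Algebra.adjoin_empty] at hadj
      intro c
      have : c ∈ (⊥ : Subalgebra A C) := by rw [hadj]; trivial
      exact Algebra.mem_bot.1 this
    have : Module.Finite A C := Module.Finite.of_surjective (Algebra.linearMap A C) hsurj
    have : Module.Finite A N := Module.Finite.trans C N
    exact hA _ inferInstance
  | succ n ih =>
    intro C _ _ _ _ s hs hadj N _ _ _ _ _ _ hfin M hM
    by_cases hs0 : s = ∅
    · exact ih C s (by rw [hs0]; simp) hadj N hfin M hM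
    obtain ⟨y, hy⟩ := Finset.nonempty_iff_ne_empty.2 hs0
    classical
    let t : Set C := (s.erase y : Finset C)
    let Ct : Subalgebra A C := Algebra.adjoin A t
    have ht : ∀ x ∈ s.erase y, x ∈ Ct := fun x hx => Algebra.subset_adjoin hx
    let t' : Finset Ct := (s.erase y).attach.image (fun x => ⟨x.1, ht x.1 x.2⟩)
    have ht'card : t'.card ≤ n := by
      refine Finset.card_image_le.trans ?_
      rw [Finset.card_attach, Finset.card_erase_of_mem hy]
      omega
    have ht'coe : (t' : Set Ct) = (((↑) : Ct → C) ⁻¹' t) := by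
      ext x
      constructor
      · intro hx
        obtain ⟨z, _, rfl⟩ := Finset.mem_image.1 (Finset.mem_coe.1 hx)
        exact z.2
      · intro hx
        exact Finset.mem_coe.2 (Finset.mem_image.2 ⟨⟨x.1, hx⟩, Finset.mem_attach _ _, rfl⟩)
    have ht'adj : Algebra.adjoin A (t' : Set Ct) = ⊤ := by
      rw [ht'coe]; exact Algebra.adjoin_adjoin_coe_preimage
    have hCtft : Algebra.FiniteType A Ct := ⟨⟨t', ht'adj⟩⟩
    have hCtN : IsNoetherianRing Ct := Algebra.FiniteType.isNoetherianRing A Ct
    have hCtAll : AllGF.{u, v, w} R Ct := by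
      intro Q _ _ _ _ hQ
      let : Module A Q := Module.compHom Q (algebraMap A Ct)
      have : IsScalarTower A Ct Q := IsScalarTower.of_algebraMap_smul fun _ _ => rfl
      have : IsScalarTower R A Q := IsScalarTower.of_algebraMap_smul fun r q => by
        change algebraMap A Ct (algebraMap R A r) • q = r • q
        rw [← IsScalarTower.algebraMap_apply R A Ct, algebraMap_smul]
      have := ih Ct t' ht'card ht'adj Q hQ ⊥ Submodule.fg_bot
      exact this.of_linearEquiv
        ((Submodule.quotEquivOfEqBot (⊥ : Submodule A Q) rfl).restrictScalars R)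
    have hRC : IsScalarTower R C N := IsScalarTower.of_algebraMap_smul fun r q => by
      rw [IsScalarTower.algebraMap_apply R A C, algebraMap_smul, algebraMap_smul]
    have hRCt : IsScalarTower R Ct N := IsScalarTower.of_algebraMap_smul fun r q => by
      change (algebraMap R C r) • q = r • q
      rw [algebraMap_smul]
    obtain ⟨g, hg⟩ := hfin.fg_top
    obtain ⟨m, hm⟩ := hM
    let M' : Submodule Ct N := Submodule.span Ct ((g : Set N) ∪ m)
    have hM'fg : M'.FG := ⟨g ∪ m, by rw [Finset.coe_union]⟩
    have hMM' : M ≤ M'.restrictScalars A := by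
      rw [← hm, Submodule.span_le]
      exact fun x hx => Submodule.subset_span (Or.inr hx)
    have hM'span : Submodule.span C (M' : Set N) = ⊤ := by
      rw [eq_top_iff, ← hg, Submodule.span_le]
      exact fun x hx => Submodule.subset_span (Submodule.subset_span (Or.inl hx))
    have hset : (s : Set C) = insert y t := by
      rw [← Finset.coe_insert, Finset.insert_erase hy]
    have hNM' : GF R (N ⧸ M') :=
      GF.quot_of_chainF hCtAll ((LinearMap.lsmul C N y).restrictScalars Ct) M' hM'fg
        (fun q => chainF_top (s : Set C) t y hset hadj M' hM'span q)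
    have : Module.Finite Ct M' := Module.Finite.iff_fg.2 hM'fg
    let ι : M' →ₗ[A] N := M'.subtype.restrictScalars A
    have hι : Function.Injective ι := M'.injective_subtype
    have hM'M : GF R (M' ⧸ M.comap ι) := by
      refine ih Ct t' ht'card ht'adj M' this (M.comap ι) ?_
      refine Submodule.fg_of_fg_map_injective ι hι ?_
      rw [Submodule.map_comap_eq_of_le]
      · exact ⟨m, hm⟩
      · intro x hx
        exact ⟨⟨x, hMM' hx⟩, rfl⟩
    let i : (M' ⧸ M.comap ι) →ₗ[A] (N ⧸ M) := Submodule.mapQ (M.comap ι) M ι le_rfl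
    let p : (N ⧸ M) →ₗ[A] (N ⧸ M') := M.liftQ (M'.mkQ.restrictScalars A) (by
      intro x hx
      exact (Submodule.Quotient.mk_eq_zero M').2 (hMM' hx))
    refine GF.of_exact (i.restrictScalars R) (p.restrictScalars R) ?_ ?_ ?_ hM'M hNM'
    · change Function.Injective i
      rw [injective_iff_map_eq_zero]
      intro z hz
      obtain ⟨x, rfl⟩ := Submodule.mkQ_surjective _ z
      have h1 : M.mkQ (ι x) = 0 := hz
      have h2 : ι x ∈ M := by simpa using h1
      simpa using h2
    · intro z
      obtain ⟨x, rfl⟩ := M'.mkQ_surjective z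
      exact ⟨M.mkQ x, rfl⟩
    · intro z
      obtain ⟨x, rfl⟩ := M.mkQ_surjective z
      constructor
      · intro hz
        have h1 : M'.mkQ x = 0 := hz
        have h2 : x ∈ M' := by simpa using h1
        exact ⟨Submodule.Quotient.mk ⟨x, h2⟩, rfl⟩
      · rintro ⟨w, hw⟩
        obtain ⟨w, rfl⟩ := Submodule.mkQ_surjective _ w
        have h1 : M.mkQ (ι w) = M.mkQ x := hw
        have h2 : (ι w) - x ∈ M := (Submodule.Quotient.eq M).1 h1
        have h3 : x ∈ M' := by
          have := Submodule.sub_mem M' w.2 (hMM' h2)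
          change (w : N) - ((w : N) - x) ∈ M' at this
          simpa using this
        change M'.mkQ x = 0
        simpa using h3

/-- Generic flatness of `N / M` for `M` a finite `A`-submodule of a finite module `N` over a
finite type `A`-algebra `C`, if every finite `A`-module is generically flat over `R`. -/
theorem GF.quot_of_finiteType (hA : AllGF.{u, v, w} R A)
    (C : Type v) [CommRing C] [Algebra A C] [Algebra R C] [IsScalarTower R A C]
    [Algebra.FiniteType A C]
    (N : Type w) [AddCommGroup N] [Module C N] [Module A N] [Module R N]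
    [IsScalarTower A C N] [IsScalarTower R A N] [Module.Finite C N]
    (M : Submodule A N) (hM : M.FG) : GF R (N ⧸ M) := by
  obtain ⟨s, hs⟩ := Algebra.FiniteType.out (R := A) (A := C)
  exact GF.quot_of_card hA s.card C s le_rfl hs N inferInstance M hM

omit [IsNoetherianRing A] in
theorem AllGF.self [IsNoetherianRing R] : AllGF.{u, u, w} R R := by
  intro Q _ inst1 inst2 htow hfin
  have heq : inst1 = inst2 := by
    refine Module.ext' _ _ fun r q => ?_
    have h1 := htow.smul_assoc r 1 q
    rw [smul_eq_mul, mul_one] at h1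
    refine h1.trans ?_
    congr 1
    exact @one_smul R Q _ inst1.toMulAction q
  subst heq
  have : Module.FinitePresentation R Q := Module.finitePresentation_of_finite R Q
  obtain ⟨r, hr, hfree, -⟩ := Module.FinitePresentation.exists_free_localizedModule_powers
    (nonZeroDivisors R) (LocalizedModule.mkLinearMap (nonZeroDivisors R) Q) (FractionRing R)
  refine ⟨r, nonZeroDivisors.ne_zero hr, ?_⟩
  have h1 : Module.Flat (Localization.Away r) (Localization.Away r ⊗[R] Q) :=
    Module.Flat.of_linearEquiv (LocalizedModule.equivTensorProduct (Submonoid.powers r) Q).symm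
  exact (Module.flat_iff_of_isLocalization (Localization.Away r) (Submonoid.powers r)
      (M := Localization.Away r ⊗[R] Q)).1 h1

end Main

end Groth.Agent.Flat2E.GenFlat
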