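import Mathlib.AlgebraicGeometry.Fiber
import Mathlib.AlgebraicGeometry.FunctionField
import Mathlib.AlgebraicGeometry.Morphisms.FlatMono
import Mathlib.AlgebraicGeometry.IdealSheaf.Functorial
import Mathlib.AlgebraicGeometry.Geometrically.Reduced

/-!
Generic fibres of morphisms to integral schemes; flat monomorphisms.
-/

set_option autoImplicit false
universe u

namespace Groth.Agent.Flat2E.GenericFibre

open AlgebraicGeometry CategoryTheory Limits

/-- A flat monomorphism induces isomorphisms on stalks. -/
lemma isIso_stalkMap_of_flat_mono {X Y : Scheme.{u}} (f : X ⟶ Y) [Flat f] [Mono f] (x : X) :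
    IsIso (f.stalkMap x) := by
  have h1 : Spec.map (f.stalkMap x) ≫ Y.fromSpecStalk _ = X.fromSpecStalk x ≫ f :=
    Scheme.SpecMap_stalkMap_fromSpecStalk f
  have h2 : Mono (Spec.map (f.stalkMap x)) := by
    have : Mono (Spec.map (f.stalkMap x) ≫ Y.fromSpecStalk _) := by
      rw [h1]; infer_instance
    exact mono_of_mono _ (Y.fromSpecStalk _)
  have h3 : (f.stalkMap x).hom.FaithfullyFlat := by
    algebraize [(f.stalkMap x).hom]
    exact @Module.FaithfullyFlat.of_flat_of_isLocalHom _ _ _ _ _ _ _
      (Flat.stalkMap f x) (f.toLRSHom.prop x)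
  obtain ⟨h4, h5⟩ := (flat_and_surjective_SpecMap_iff _).mpr h3
  have h6 := Flat.isIso_of_surjective_of_mono (Spec.map (f.stalkMap x))
  have h7 := (isIso_SpecMap_iff).mp h6
  exact (ConcreteCategory.isIso_iff_bijective _).mpr h7

lemma isReduced_of_flat_mono {X Y : Scheme.{u}} (f : X ⟶ Y) [Flat f] [Mono f] [IsReduced Y] :
    IsReduced X := by
  have : ∀ x : X, _root_.IsReduced (X.presheaf.stalk x) := by
    intro x
    have := isIso_stalkMap_of_flat_mono f x
    have e := (asIso (f.stalkMap x)).commRingCatIsoToRingEquiv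
    exact isReduced_of_injective e.symm e.symm.injective
  exact isReduced_of_isReduced_stalk X

lemma flat_fromSpecStalk (Y : Scheme.{u}) (y : Y) : Flat (Y.fromSpecStalk y) := by
  obtain ⟨_, ⟨U, hU, rfl⟩, hyU, -⟩ :=
    Y.isBasis_affineOpens.exists_subset_of_mem_open (Set.mem_univ y) isOpen_univ
  rw [← hU.fromSpecStalk_eq_fromSpecStalk hyU, IsAffineOpen.fromSpecStalk]
  have : Flat (Spec.map (Y.presheaf.germ U y hyU)) := by
    rw [Flat.SpecMap_iff]
    let := Y.presheaf.algebra_section_stalk ⟨y, hyU⟩
    have h := hU.isLocalization_stalk ⟨y, hyU⟩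
    exact IsLocalization.flat (Y.presheaf.stalk y) (hU.primeIdealOf ⟨y, hyU⟩).asIdeal.primeCompl
  infer_instance

lemma flat_fromSpecResidueField_genericPoint (Y : Scheme.{u}) [IsIntegral Y] :
    Flat (Y.fromSpecResidueField (genericPoint Y)) := by
  have hf : IsField (Y.presheaf.stalk (genericPoint Y)) :=
    isField_stalk_of_closure_mem_irreducibleComponents Y _ (by simp [irreducibleComponents_eq_singleton, genericPoint_closure])
  have hiso : IsIso (Y.residue (genericPoint Y)) := by
    rw [ConcreteCategory.isIso_iff_bijective]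
    refine ⟨?_, Y.residue_surjective _⟩
    let := hf.toField
    exact (Y.residue (genericPoint Y)).hom.injective
  have := flat_fromSpecStalk Y (genericPoint Y)
  rw [Scheme.fromSpecResidueField]
  infer_instance

/-- the generic fibre of a reduced scheme over an integral scheme is reduced -/
lemma isReduced_genericFiber {X Y : Scheme.{u}} (f : X ⟶ Y) [IsIntegral Y] [IsReduced X] :
    IsReduced (f.fiber (genericPoint Y)) := by
  have := flat_fromSpecResidueField_genericPoint Y
  have : Flat (f.fiberι (genericPoint Y)) := inferInstanceAs (Flat (pullback.fst _ _))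
  have : Mono (f.fiberι (genericPoint Y)) := inferInstanceAs (Mono (pullback.fst _ _))
  exact isReduced_of_flat_mono (f.fiberι (genericPoint Y))

lemma ker_eq_nilradical {Z W : Scheme.{u}} (j : Z ⟶ W) [Surjective j] [IsReduced Z] :
    j.ker = W.nilradical := by
  rw [← Scheme.IdealSheafData.map_bot, ← Scheme.nilradical_eq_bot,
    ← Scheme.IdealSheafData.vanishingIdeal_top, Scheme.IdealSheafData.map_vanishingIdeal,
    ← Scheme.IdealSheafData.vanishingIdeal_top]
  congr 1
  ext x
  simp [Set.range_eq_univ.mpr j.surjective]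

end Groth.Agent.Flat2E.GenericFibre
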