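import Mathlib.AlgebraicGeometry.Morphisms.QuasiSeparated
import Mathlib.AlgebraicGeometry.Morphisms.FiniteType
import Mathlib.AlgebraicGeometry.Morphisms.FinitePresentation
import Mathlib.AlgebraicGeometry.Morphisms.Flat
import Groth.Agent.FlatA.GenericFree2
import Groth.Agent.S0389

/-!
A morphism of finite type to the spectrum of a domain is, over a nonempty open, quasi-separated,
flat and of finite presentation.
-/

set_option autoImplicit false
universe u

namespace Groth.Agent.Flat2E.GenericQS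

open AlgebraicGeometry CategoryTheory Limits

lemma quasiSeparatedSpace_of_cover {X : Scheme.{u}} {ι : Type*} (U : ι → X.Opens)
    (hU : ∀ i, IsAffineOpen (U i)) (hcov : ∀ x, ∃ i, x ∈ U i)
    (h : ∀ i j, IsCompact ((U i : Set X) ∩ U j)) : QuasiSeparatedSpace X := by
  let b : {V : X.affineOpens // ∃ i, V.1 ≤ U i} → Set X := fun V => (V.1.1 : Set X)
  have hb : TopologicalSpace.IsTopologicalBasis (Set.range b) := by
    apply TopologicalSpace.isTopologicalBasis_of_isOpen_of_nhds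
    · rintro _ ⟨V, rfl⟩
      exact V.1.1.isOpen
    · intro x W hx hW
      obtain ⟨i, hi⟩ := hcov x
      obtain ⟨_, ⟨V, hV, rfl⟩, hxV, hVW⟩ := X.isBasis_affineOpens.exists_subset_of_mem_open
        (show x ∈ W ∩ (U i : Set X) from ⟨hx, hi⟩) (hW.inter (U i).isOpen)
      exact ⟨_, ⟨⟨⟨V, hV⟩, i, fun y hy => (hVW hy).2⟩, rfl⟩, hxV, fun y hy => (hVW hy).1⟩
  apply QuasiSeparatedSpace.of_isTopologicalBasis hb
  rintro ⟨V, i, hV⟩ ⟨W, j, hW⟩
  have hi : IsQuasiSeparated (U i : Set X) := (hU i).isQuasiSeparated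
  have hj : IsQuasiSeparated (U j : Set X) := (hU j).isQuasiSeparated
  have h1 : IsCompact ((V.1 : Set X) ∩ ((U i : Set X) ∩ U j)) :=
    hi _ _ hV V.1.isOpen V.2.isCompact Set.inter_subset_left ((U i).isOpen.inter (U j).isOpen) (h i j)
  have h2 : IsCompact (((V.1 : Set X) ∩ ((U i : Set X) ∩ U j)) ∩ W.1) :=
    hj _ _ (fun x hx => hx.2.2) (V.1.isOpen.inter ((U i).isOpen.inter (U j).isOpen)) h1 hW W.1.isOpen W.2.isCompact
  have h3 : ((V.1 : Set X) ∩ ((U i : Set X) ∩ U j)) ∩ W.1 = (V.1 : Set X) ∩ W.1 := by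
    ext x
    constructor
    · rintro ⟨⟨h1, _⟩, h2⟩
      exact ⟨h1, h2⟩
    · rintro ⟨h1, h2⟩
      exact ⟨⟨h1, hV h1, hW h2⟩, h2⟩
  rwa [h3] at h2

/-- algebraic core -/
lemma exists_fg_ideal (A R : Type u) [CommRing A] [IsDomain A] [CommRing R] [Algebra A R] [Algebra.FiniteType A R]
    (I : Ideal R) : ∃ a : A, a ≠ 0 ∧ ∃ J ≤ I, J.FG ∧ ∀ g ∈ I, ∃ k : ℕ, algebraMap A R a ^ k * g ∈ J := by
  obtain ⟨J, hJI, hJ, hr⟩ := FlatA.GenericFree.exists_fg_torsion (R := A) (A := R) (M := R) I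
  obtain ⟨a, ha, hfree⟩ := FlatA.GenericFree.genFree_of_finiteType (R := A) R (R ⧸ J)
  refine ⟨a, ha, J, hJI, hJ, ?_⟩
  intro g hg
  obtain ⟨r, hr0, hrg⟩ := hr g hg
  have h1 : r • (Ideal.Quotient.mk J g) = 0 := by
    rw [Algebra.smul_def, IsScalarTower.algebraMap_apply A R (R ⧸ J)]
    change Ideal.Quotient.mk J (algebraMap A R r) * Ideal.Quotient.mk J g = 0
    rw [← map_mul, Ideal.Quotient.eq_zero_iff_mem, ← Algebra.smul_def]
    exact hrg
  obtain ⟨k, hk⟩ := hfree.torsion hr0 h1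
  refine ⟨k, ?_⟩
  rw [Algebra.smul_def, IsScalarTower.algebraMap_apply A R (R ⧸ J)] at hk
  change Ideal.Quotient.mk J (algebraMap A R (a ^ k)) * Ideal.Quotient.mk J g = 0 at hk
  rw [← map_mul, Ideal.Quotient.eq_zero_iff_mem, map_pow] at hk
  exact hk

lemma exists_isCompact_algebra (A R : Type u) [CommRing A] [IsDomain A] [CommRing R] [Algebra A R]
    [Algebra.FiniteType A R] (O : Set (PrimeSpectrum R)) (hO : IsOpen O) :
    ∃ a : A, a ≠ 0 ∧ ∀ b : A, a ∣ b → IsCompact (O ∩ (PrimeSpectrum.basicOpen (algebraMap A R b) : Set (PrimeSpectrum R))) := by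
  obtain ⟨s, hs⟩ := (PrimeSpectrum.isOpen_iff _).mp hO
  obtain ⟨a, ha, J, hJI, hJ, hk⟩ := exists_fg_ideal A R (Ideal.span s)
  refine ⟨a, ha, ?_⟩
  rintro _ ⟨c, rfl⟩
  have h1 : O ∩ (PrimeSpectrum.basicOpen (algebraMap A R (a * c)) : Set (PrimeSpectrum R)) =
      (PrimeSpectrum.zeroLocus ((J * Ideal.span {algebraMap A R (a * c)} : Ideal R) : Set R))ᶜ := by
    ext x
    simp only [Set.mem_inter_iff, SetLike.mem_coe, PrimeSpectrum.mem_basicOpen, Set.mem_compl_iff,
      PrimeSpectrum.mem_zeroLocus, SetLike.coe_subset_coe]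
    rw [x.isPrime.mul_le, Ideal.span_singleton_le_iff_mem, not_or]
    have h2 : x ∈ O ↔ ¬ (Ideal.span s ≤ x.asIdeal) := by
      rw [← SetLike.coe_subset_coe, ← PrimeSpectrum.mem_zeroLocus, PrimeSpectrum.zeroLocus_span, ← hs]
      simp
    rw [h2]
    refine ⟨fun ⟨h3, h4⟩ => ⟨fun h5 => h3 ?_, h4⟩, fun ⟨h3, h4⟩ => ⟨fun h5 => h3 (hJI.trans h5), h4⟩⟩
    intro g hg
    obtain ⟨k, hk⟩ := hk g hg
    have h6 := h5 hk
    rcases x.isPrime.mem_or_mem h6 with h7 | h7
    · exfalso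
      apply h4
      rw [map_mul]
      exact Ideal.mul_mem_right _ _ (x.isPrime.mem_of_pow_mem _ h7)
    · exact h7
  rw [h1]
  exact (PrimeSpectrum.isCompact_isOpen_iff_ideal.mpr
    ⟨J * Ideal.span {algebraMap A R (a * c)}, hJ.mul ⟨{algebraMap A R (a * c)}, by simp⟩, rfl⟩).1

lemma exists_isCompact {A : Type u} [CommRing A] [IsDomain A] {X : Scheme.{u}} (f : X ⟶ Spec (CommRingCat.of A))
    [LocallyOfFiniteType f] {U : X.Opens} (hU : IsAffineOpen U) (O : X.Opens) (hO : O ≤ U) :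
    ∃ a : A, a ≠ 0 ∧ ∀ b : A, a ∣ b → IsCompact ((O : Set X) ∩ f ⁻¹' (PrimeSpectrum.basicOpen b : Set (PrimeSpectrum A))) := by
  obtain ⟨φ, hφ⟩ := Spec.map_surjective (hU.fromSpec ≫ f)
  algebraize [φ.hom]
  have hft : Algebra.FiniteType A Γ(X, U) := by
    have h1 : LocallyOfFiniteType (hU.fromSpec ≫ f) := inferInstance
    rw [← hφ, HasRingHomProperty.Spec_iff (P := @LocallyOfFiniteType)] at h1
    exact h1
  obtain ⟨a, ha, h⟩ := exists_isCompact_algebra A Γ(X, U) (hU.fromSpec ⁻¹' (O : Set X))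
    (O.isOpen.preimage hU.fromSpec.continuous)
  refine ⟨a, ha, fun b hb => ?_⟩
  have h2 := (h b hb).image hU.fromSpec.continuous
  have h3 : (O : Set X) ∩ f ⁻¹' (PrimeSpectrum.basicOpen b : Set (PrimeSpectrum A)) =
      hU.fromSpec '' ((hU.fromSpec ⁻¹' (O : Set X)) ∩
        (PrimeSpectrum.basicOpen (algebraMap A Γ(X, U) b) : Set (PrimeSpectrum Γ(X, U)))) := by
    have h4 : ∀ y : PrimeSpectrum Γ(X, U), y ∈ PrimeSpectrum.basicOpen (algebraMap A Γ(X, U) b) ↔
        f (hU.fromSpec y) ∈ PrimeSpectrum.basicOpen b := by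
      intro y
      rw [← Scheme.Hom.comp_apply, ← hφ]
      rfl
    ext x
    constructor
    · rintro ⟨hx, hx2⟩
      have hx3 : x ∈ Set.range hU.fromSpec := by
        rw [hU.range_fromSpec]
        exact hO hx
      obtain ⟨y, rfl⟩ := hx3
      exact ⟨y, ⟨hx, (h4 y).mpr hx2⟩, rfl⟩
    · rintro ⟨y, ⟨hy, hy2⟩, rfl⟩
      exact ⟨hy, (h4 y).mp hy2⟩
  rw [h3]
  exact h2

theorem exists_quasiSeparated {A : Type u} [CommRing A] [IsDomain A] {X : Scheme.{u}}
    (f : X ⟶ Spec (CommRingCat.of A)) [LocallyOfFiniteType f] [QuasiCompact f] :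
    ∃ a : A, a ≠ 0 ∧ QuasiSeparated (f ∣_ (PrimeSpectrum.basicOpen a : (Spec (CommRingCat.of A)).Opens)) := by
  classical
  have hc : CompactSpace X := (quasiCompact_iff_compactSpace f).mp inferInstance
  obtain ⟨t, ht⟩ := isCompact_univ.elim_finite_subcover (fun V : X.affineOpens => (V.1 : Set X))
    (fun V => V.1.isOpen) (by
      intro x _
      obtain ⟨_, ⟨V, hV, rfl⟩, hxV, -⟩ := X.isBasis_affineOpens.exists_subset_of_mem_open
        (Set.mem_univ x) isOpen_univ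
      exact Set.mem_iUnion.mpr ⟨⟨V, hV⟩, hxV⟩)
  choose a ha H using fun (V W : X.affineOpens) =>
    exists_isCompact f V.2 (V.1 ⊓ W.1) inf_le_left
  let b := ∏ V ∈ t, ∏ W ∈ t, a V W
  have hb : b ≠ 0 := Finset.prod_ne_zero_iff.mpr fun V _ => Finset.prod_ne_zero_iff.mpr fun W _ => ha V W
  have hdvd : ∀ V ∈ t, ∀ W ∈ t, a V W ∣ b := fun V hV W hW =>
    (Finset.dvd_prod_of_mem (a V) hW).trans (Finset.dvd_prod_of_mem (fun V => ∏ W ∈ t, a V W) hV)
  refine ⟨b, hb, ?_⟩
  let D : (Spec (CommRingCat.of A)).Opens := PrimeSpectrum.basicOpen b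
  have hD : IsAffineOpen D := IsAffineOpen.Spec_basicOpen (R := CommRingCat.of A) b
  have : IsAffine (D : Scheme.{u}) := hD
  change QuasiSeparated (f ∣_ D)
  rw [HasAffineProperty.iff_of_isAffine (P := @QuasiSeparated)]
  let U : t → (f ⁻¹ᵁ D : Scheme.{u}).Opens := fun V => (f ⁻¹ᵁ D).ι ⁻¹ᵁ V.1.1
  apply quasiSeparatedSpace_of_cover U
  · intro V
    have hr : f ⁻¹ᵁ D = X.basicOpen (f.appTop ((Scheme.ΓSpecIso (CommRingCat.of A)).inv b)) := by
      rw [← Scheme.Hom.preimage_basicOpen_top, basicOpen_eq_of_affine]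
    have key : ∀ W : X.Opens, W = X.basicOpen (f.appTop ((Scheme.ΓSpecIso (CommRingCat.of A)).inv b)) →
        IsAffineOpen (W.ι ⁻¹ᵁ V.1.1) := by
      rintro _ rfl
      exact V.1.2.ι_basicOpen_preimage _
    exact key _ hr
  · intro x
    have hx := ht (Set.mem_univ ((f ⁻¹ᵁ D).ι x))
    simp only [Set.mem_iUnion] at hx
    obtain ⟨V, hV, hx⟩ := hx
    exact ⟨⟨V, hV⟩, hx⟩
  · intro V W
    have h1 := H V.1 W.1 b (hdvd V.1 V.2 W.1 W.2)
    rw [← (f ⁻¹ᵁ D).ι.isOpenEmbedding.isInducing.isCompact_preimage_iff] at h1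
    · have h2 : ((U V : Set _) ∩ (U W : Set _)) = (f ⁻¹ᵁ D).ι ⁻¹' (((V.1.1 ⊓ W.1.1 : X.Opens) : Set X) ∩
          f ⁻¹' (PrimeSpectrum.basicOpen b : Set (PrimeSpectrum A))) := by
        ext x
        constructor
        · rintro ⟨hx1, hx2⟩
          exact ⟨⟨hx1, hx2⟩, x.2⟩
        · rintro ⟨⟨hx1, hx2⟩, _⟩
          exact ⟨hx1, hx2⟩
      rw [h2]
      exact h1
    · rintro x ⟨_, hx⟩
      exact ⟨⟨x, hx⟩, rfl⟩

/-- restricting to smaller opens -/
lemma restrict_of_le (P : MorphismProperty Scheme.{u}) [P.IsStableUnderBaseChange] {X Y : Scheme.{u}} (f : X ⟶ Y)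
    {V W : Y.Opens} (h : V ≤ W) (H : P (f ∣_ W)) : P (f ∣_ V) := by
  have h1 := isPullback_morphismRestrict f V
  have h2 := isPullback_morphismRestrict f W
  have h3 : IsPullback (X.homOfLE (show f ⁻¹ᵁ V ≤ f ⁻¹ᵁ W from fun x hx => h hx)) (f ∣_ V) (f ∣_ W) (Y.homOfLE h) := by
    refine IsPullback.of_right (h₁₂ := (f ⁻¹ᵁ W).ι) (h₂₂ := W.ι) (v₁₃ := f) ?_ ?_ ?_
    · simpa using h1.flip
    · rw [← cancel_mono W.ι]
      simp
    · exact h2.flip
  exact MorphismProperty.of_isPullback h3 H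

/-- restriction of a morphism of affine schemes to a basic open is a base change of the localization -/
lemma restrict_basicOpen_of_tensor (P : MorphismProperty Scheme.{u}) [P.IsStableUnderBaseChange]
    {A R : Type u} [CommRing A] [CommRing R] [Algebra A R] (a : A)
    (H : P (Spec.map (CommRingCat.ofHom (algebraMap (Localization.Away a) (TensorProduct A (Localization.Away a) R))))) :
    P ((Spec.map (CommRingCat.ofHom (algebraMap A R))) ∣_ (PrimeSpectrum.basicOpen a : (Spec (CommRingCat.of A)).Opens)) := by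
  let D : (Spec (CommRingCat.of A)).Opens := PrimeSpectrum.basicOpen a
  let ψ : Spec (CommRingCat.of (Localization.Away a)) ⟶ Spec (CommRingCat.of A) :=
    Spec.map (CommRingCat.ofHom (algebraMap A (Localization.Away a)))
  have hψ : IsOpenImmersion ψ := IsOpenImmersion.of_isLocalization a
  have hrange : Set.range D.ι ⊆ Set.range ψ := by
    rw [Scheme.Opens.range_ι]
    exact (PrimeSpectrum.localization_away_comap_range (Localization.Away a) a).symm.subset
  let j : (D : Scheme.{u}) ⟶ Spec (CommRingCat.of (Localization.Away a)) := IsOpenImmersion.lift ψ D.ι hrange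
  have hj : j ≫ ψ = D.ι := IsOpenImmersion.lift_fac _ _ _
  have h1 : IsPullback (Spec.map (CommRingCat.ofHom (algebraMap (Localization.Away a) (TensorProduct A (Localization.Away a) R))))
      (Spec.map (CommRingCat.ofHom (Algebra.TensorProduct.includeRight.toRingHom : R →+* TensorProduct A (Localization.Away a) R)))
      ψ (Spec.map (CommRingCat.ofHom (algebraMap A R))) :=
    isPullback_SpecMap_of_isPushout _ _ _ _ (CommRingCat.isPushout_tensorProduct A (Localization.Away a) R)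
  have h2 := (isPullback_morphismRestrict (Spec.map (CommRingCat.ofHom (algebraMap A R))) D).flip
  rw [← hj] at h2
  have h3 : IsPullback _ _ _ _ := IsPullback.of_right' h2 h1.flip
  exact MorphismProperty.of_isPullback h3 H

lemma of_jointly_surjective (P : MorphismProperty Scheme.{u}) [IsZariskiLocalAtSource P] {X Y : Scheme.{u}} (f : X ⟶ Y)
    {ι : Type*} {Z : ι → Scheme.{u}} (g : ∀ i, Z i ⟶ X) [∀ i, IsOpenImmersion (g i)]
    (hg : ∀ x, ∃ i, x ∈ Set.range (g i)) (H : ∀ i, P (g i ≫ f)) : P f := by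
  refine IsZariskiLocalAtSource.of_iSup_eq_top (fun i ↦ (g i).opensRange) ?_ fun i ↦ ?_
  · rw [eq_top_iff]
    rintro x -
    obtain ⟨i, hi⟩ := hg x
    exact TopologicalSpace.Opens.mem_iSup.mpr ⟨i, hi⟩
  · rw [← IsOpenImmersion.isoOfRangeEq_inv_fac (g i) (Scheme.Opens.ι _)
      (congr_arg TopologicalSpace.Opens.carrier (g i).opensRange.opensRange_ι.symm), Category.assoc,
      P.cancel_left_of_respectsIso]
    exact H i

lemma restrict_of_jointly_surjective (P : MorphismProperty Scheme.{u}) [IsZariskiLocalAtSource P] {X Y : Scheme.{u}}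
    (f : X ⟶ Y) {ι : Type*} {Z : ι → Scheme.{u}} (g : ∀ i, Z i ⟶ X) [∀ i, IsOpenImmersion (g i)]
    (hg : ∀ x, ∃ i, x ∈ Set.range (g i)) (D : Y.Opens) (H : ∀ i, P ((g i ≫ f) ∣_ D)) : P (f ∣_ D) := by
  refine of_jointly_surjective P (f ∣_ D) (fun i => g i ∣_ (f ⁻¹ᵁ D)) ?_ ?_
  · intro x
    obtain ⟨i, z, hz⟩ := hg x.1
    refine ⟨i, ⟨z, ?_⟩, ?_⟩
    · change g i z ∈ f ⁻¹ᵁ D
      rw [hz]; exact x.2
    · apply Subtype.ext
      exact (morphismRestrict_base_coe (g i) (f ⁻¹ᵁ D) _).trans hz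
  · intro i
    rw [← morphismRestrict_comp]
    exact H i

theorem exists_flat {A : Type u} [CommRing A] [IsDomain A] {X : Scheme.{u}}
    (f : X ⟶ Spec (CommRingCat.of A)) [LocallyOfFiniteType f] [QuasiCompact f] :
    ∃ a : A, a ≠ 0 ∧ Flat (f ∣_ (PrimeSpectrum.basicOpen a : (Spec (CommRingCat.of A)).Opens)) ∧
      LocallyOfFinitePresentation (f ∣_ (PrimeSpectrum.basicOpen a : (Spec (CommRingCat.of A)).Opens)) := by
  classical
  have hc : CompactSpace X := (quasiCompact_iff_compactSpace f).mp inferInstance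
  obtain ⟨t, ht⟩ := isCompact_univ.elim_finite_subcover (fun V : X.affineOpens => (V.1 : Set X))
    (fun V => V.1.isOpen) (by
      intro x _
      obtain ⟨_, ⟨V, hV, rfl⟩, hxV, -⟩ := X.isBasis_affineOpens.exists_subset_of_mem_open
        (Set.mem_univ x) isOpen_univ
      exact Set.mem_iUnion.mpr ⟨⟨V, hV⟩, hxV⟩)
  have key : ∀ V : X.affineOpens, ∃ a : A, a ≠ 0 ∧
      Flat ((V.2.fromSpec ≫ f) ∣_ (PrimeSpectrum.basicOpen a : (Spec (CommRingCat.of A)).Opens)) ∧
      LocallyOfFinitePresentation ((V.2.fromSpec ≫ f) ∣_ (PrimeSpectrum.basicOpen a : (Spec (CommRingCat.of A)).Opens)) := by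
    intro V
    obtain ⟨φ, hφ⟩ := Spec.map_surjective (V.2.fromSpec ≫ f)
    algebraize [φ.hom]
    have hft : Algebra.FiniteType A Γ(X, V.1) := by
      have h1 : LocallyOfFiniteType (V.2.fromSpec ≫ f) := inferInstance
      rw [← hφ, HasRingHomProperty.Spec_iff (P := @LocallyOfFiniteType)] at h1
      exact h1
    obtain ⟨a, ha, h1, h2, h3, h4⟩ := S0389.result (R := A) (S := Γ(X, V.1)) (M := Γ(X, V.1))
    refine ⟨a, ha, ?_, ?_⟩
    · rw [← hφ]
      apply restrict_basicOpen_of_tensor @Flat a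
      rw [Flat.SpecMap_iff]
      exact RingHom.flat_algebraMap_iff.mpr inferInstance
    · rw [← hφ]
      apply restrict_basicOpen_of_tensor @LocallyOfFinitePresentation a
      rw [HasRingHomProperty.Spec_iff (P := @LocallyOfFinitePresentation)]
      exact RingHom.finitePresentation_algebraMap.mpr h3
  choose a ha H1 H2 using key
  let b := ∏ V ∈ t, a V
  have hb : b ≠ 0 := Finset.prod_ne_zero_iff.mpr fun V _ => ha V
  have hle : ∀ V ∈ t, (PrimeSpectrum.basicOpen b : (Spec (CommRingCat.of A)).Opens) ≤ PrimeSpectrum.basicOpen (a V) := by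
    intro V hV
    obtain ⟨c, hc⟩ := Finset.dvd_prod_of_mem a hV
    change PrimeSpectrum.basicOpen (∏ V ∈ t, a V) ≤ _
    rw [hc]
    exact PrimeSpectrum.basicOpen_mul_le_left _ _
  have hcov : ∀ x : X, ∃ V : t, x ∈ Set.range (V.1.2.fromSpec) := by
    intro x
    have hx := ht (Set.mem_univ x)
    simp only [Set.mem_iUnion] at hx
    obtain ⟨V, hV, hx⟩ := hx
    exact ⟨⟨V, hV⟩, by rw [V.2.range_fromSpec]; exact hx⟩
  refine ⟨b, hb, ?_, ?_⟩
  · exact restrict_of_jointly_surjective @Flat f (fun V : t => V.1.2.fromSpec) hcov _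
      (fun V => restrict_of_le @Flat _ (hle V.1 V.2) (H1 V.1))
  · exact restrict_of_jointly_surjective @LocallyOfFinitePresentation f (fun V : t => V.1.2.fromSpec) hcov _
      (fun V => restrict_of_le @LocallyOfFinitePresentation _ (hle V.1 V.2) (H2 V.1))

end Groth.Agent.Flat2E.GenericQS
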