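import Groth.Agent.VarietyA.GeomIrrS
import Mathlib.AlgebraicGeometry.Morphisms.Integral
import Mathlib.AlgebraicGeometry.Morphisms.UniversallyOpen
import Mathlib.AlgebraicGeometry.Morphisms.UniversallyClosed
import Mathlib.AlgebraicGeometry.PullbackCarrier

/-!
# Geometric connectedness can be checked on finite separable extensions
-/

namespace Groth.Agent.Flat2E.GeomConnSep

open TensorProduct CategoryTheory CategoryTheory.Limits AlgebraicGeometry
open Groth.Agent.VarietyA.GeomIrr

universe u

/-- Every element of `A ⊗[k] Ω`, with `Ω / k` algebraic, comes from `A ⊗[k] K` for some finite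
subextension `K`. -/
theorem exists_intermediateField_tensor (k A Ω : Type u) [Field k] [CommRing A] [Algebra k A]
    [Field Ω] [Algebra k Ω] [Algebra.IsAlgebraic k Ω] (e : A ⊗[k] Ω) :
    ∃ K : IntermediateField k Ω, FiniteDimensional k K ∧
      ∃ e' : A ⊗[k] K, Algebra.TensorProduct.map (AlgHom.id k A) K.val e' = e := by
  induction e using TensorProduct.induction_on with
  | zero => exact ⟨⊥, inferInstance, 0, map_zero _⟩
  | tmul a ω =>
    refine ⟨IntermediateField.adjoin k {ω}, ?_, a ⊗ₜ ⟨ω, IntermediateField.mem_adjoin_simple_self k ω⟩, by simp⟩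
    exact IntermediateField.adjoin.finiteDimensional (Algebra.IsIntegral.isIntegral ω)
  | add x y hx hy =>
    obtain ⟨K, hK, x', rfl⟩ := hx
    obtain ⟨L, hL, y', rfl⟩ := hy
    refine ⟨K ⊔ L, inferInstance,
      Algebra.TensorProduct.map (AlgHom.id k A) (IntermediateField.inclusion le_sup_left) x' +
      Algebra.TensorProduct.map (AlgHom.id k A) (IntermediateField.inclusion le_sup_right) y', ?_⟩
    rw [map_add]
    congr 1
    · rw [← AlgHom.comp_apply, ← Algebra.TensorProduct.map_comp]
      rfl
    · rw [← AlgHom.comp_apply, ← Algebra.TensorProduct.map_comp]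
      rfl

section

variable (k : Type u) [Field k] {X : Scheme.{u}} (f : X ⟶ Spec (.of k))
variable {A : Type u} [CommRing A] [Algebra k A] (j : Spec (.of A) ⟶ X)
  (hj : j ≫ f = Spec.map (CommRingCat.ofHom (algebraMap k A)))
variable (K : Type u) [CommRing K] [Algebra k K]

/-- The chart `Spec (A ⊗ K) ⟶ X_K` induced by a chart `Spec A ⟶ X`. -/
noncomputable def chart : Spec (.of (A ⊗[k] K)) ⟶
    pullback f (Spec.map (CommRingCat.ofHom (algebraMap k K))) :=
  pullback.lift (Spec.map (CommRingCat.ofHom Algebra.TensorProduct.includeLeftRingHom) ≫ j)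
    (Spec.map (CommRingCat.ofHom (S := A ⊗[k] K) Algebra.TensorProduct.includeRight.toRingHom))
    (by
      rw [Category.assoc, hj, ← Spec.map_comp, ← Spec.map_comp, ← CommRingCat.ofHom_comp, 
        ← CommRingCat.ofHom_comp]
      congr 2
      ext x
      simp)

@[reassoc]
lemma chart_fst : chart k f j hj K ≫ pullback.fst f (Spec.map (CommRingCat.ofHom (algebraMap k K))) =
    Spec.map (CommRingCat.ofHom Algebra.TensorProduct.includeLeftRingHom) ≫ j :=
  pullback.lift_fst _ _ _

@[reassoc]
lemma chart_snd : chart k f j hj K ≫ pullback.snd f (Spec.map (CommRingCat.ofHom (algebraMap k K))) =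
    Spec.map (CommRingCat.ofHom (S := A ⊗[k] K) Algebra.TensorProduct.includeRight.toRingHom) :=
  pullback.lift_snd _ _ _

lemma isPullback_chart : IsPullback (chart k f j hj K) 
    (Spec.map (CommRingCat.ofHom Algebra.TensorProduct.includeLeftRingHom)) 
    (pullback.fst f (Spec.map (CommRingCat.ofHom (algebraMap k K)))) j := by
  refine IsPullback.of_right (h₁₂ := pullback.snd _ _) (h₂₂ := f) 
    (v₁₃ := Spec.map (CommRingCat.ofHom (algebraMap k K))) ?_ (chart_fst k f j hj K) 
    (IsPullback.of_hasPullback f (Spec.map (CommRingCat.ofHom (algebraMap k K)))).flip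
  rw [chart_snd, hj]
  exact (isPullback_SpecMap_of_isPushout _ _ _ _ (CommRingCat.isPushout_tensorProduct k A K)).flip

@[reassoc]
lemma bcMap_fst (k K L : Type u) [Field k] [Field K] [Field L] [Algebra k K] [Algebra K L] [Algebra k L]
    [IsScalarTower k K L] {X : Scheme.{u}} (f : X ⟶ Spec (.of k)) : 
    bcMap k K L f ≫ pullback.fst _ _ = pullback.fst _ _ := by
  rw [bcMap, Category.assoc, Iso.inv_comp_eq]
  rw [bcIso, pullback.congrHom, Iso.trans_hom, Category.assoc]
  rw [asIso_hom, pullback.map, pullback.lift_fst, Category.comp_id]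
  exact (pullbackLeftPullbackSndIso_hom_fst _ _ _).symm

@[reassoc]
lemma bcMap_snd (k K L : Type u) [Field k] [Field K] [Field L] [Algebra k K] [Algebra K L] [Algebra k L]
    [IsScalarTower k K L] {X : Scheme.{u}} (f : X ⟶ Spec (.of k)) : 
    bcMap k K L f ≫ pullback.snd _ _ = pullback.snd _ _ ≫ Spec.map (CommRingCat.ofHom (algebraMap K L)) := by
  rw [bcMap, Category.assoc, Iso.inv_comp_eq]
  rw [bcIso, pullback.congrHom, Iso.trans_hom, Category.assoc]
  rw [asIso_hom, pullback.map, pullback.lift_snd_assoc, Category.comp_id]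
  rw [pullbackLeftPullbackSndIso_hom_snd_assoc]
  exact pullback.condition

lemma chart_comp_bcMap (K L : Type u) [Field K] [Field L] [Algebra k K] [Algebra K L] [Algebra k L]
    [IsScalarTower k K L] : chart k f j hj L ≫ bcMap k K L f = 
      Spec.map (CommRingCat.ofHom (Algebra.TensorProduct.map (AlgHom.id k A) 
        (IsScalarTower.toAlgHom k K L)).toRingHom) ≫ chart k f j hj K := by
  apply pullback.hom_ext
  · rw [Category.assoc, Category.assoc, bcMap_fst, chart_fst, chart_fst, ← Spec.map_comp_assoc,
      ← CommRingCat.ofHom_comp]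
    congr 3
    ext x
    simp
  · rw [Category.assoc, Category.assoc, bcMap_snd, chart_snd_assoc, chart_snd, ← Spec.map_comp, ← Spec.map_comp,
      ← CommRingCat.ofHom_comp, ← CommRingCat.ofHom_comp]
    congr 2

instance isOpenImmersion_chart [IsOpenImmersion j] : IsOpenImmersion (chart k f j hj K) :=
  MorphismProperty.of_isPullback (isPullback_chart k f j hj K).flip ‹_›

lemma exists_chart_eq (y : ↥(pullback f (Spec.map (CommRingCat.ofHom (algebraMap k K)))))
    (hy : pullback.fst f (Spec.map (CommRingCat.ofHom (algebraMap k K))) y ∈ Set.range j) : 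
    ∃ z, chart k f j hj K z = y := by
  obtain ⟨a, ha⟩ := hy
  obtain ⟨z, hz, -⟩ := Scheme.Pullback.exists_preimage_pullback (f := pullback.fst f (Spec.map (CommRingCat.ofHom (algebraMap k K))))
    (g := j) y a ha.symm
  refine ⟨(isPullback_chart k f j hj K).isoPullback.inv z, ?_⟩
  rw [← Scheme.Hom.comp_apply, IsPullback.isoPullback_inv_fst, hz]

end

theorem connectedSpace_bc (k : Type u) [Field k] {X : Scheme.{u}} (f : X ⟶ Spec (.of k))
    (Ω : Type u) [Field Ω] [Algebra k Ω] [Algebra.IsAlgebraic k Ω]
    (h : ∀ (K : IntermediateField k Ω) [FiniteDimensional k K],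
      ConnectedSpace ↥(pullback f (Spec.map (CommRingCat.ofHom (algebraMap k K))))) : 
    ConnectedSpace ↥(pullback f (Spec.map (CommRingCat.ofHom (algebraMap k Ω)))) := by
  have hne : Nonempty ↥(pullback f (Spec.map (CommRingCat.ofHom (algebraMap k Ω)))) := by
    have := h ⊥
    obtain ⟨x⟩ := this.toNonempty
    obtain ⟨y, -⟩ := (bcMap k (⊥ : IntermediateField k Ω) Ω f).surjective x
    exact ⟨y⟩
  rw [connectedSpace_iff_clopen]
  refine ⟨hne, fun T hT => ?_⟩
  by_contra! hcon
  obtain ⟨h1, h2⟩ := hcon
  obtain ⟨x, hx⟩ := h1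
  -- an affine chart around the image of `x`
  obtain ⟨W, hW, hxW, -⟩ := exists_isAffineOpen_mem_and_subset (X := X) 
    (x := pullback.fst f (Spec.map (CommRingCat.ofHom (algebraMap k Ω))) x) (U := ⊤) trivial
  let A : Type u := Γ(X, W)
  let j : Spec (.of A) ⟶ X := hW.fromSpec
  have hjr : Set.range j = W := hW.range_fromSpec
  let φ : k →+* A := (Spec.preimage (j ≫ f)).hom
  let : Algebra k A := φ.toAlgebra
  have hj : j ≫ f = Spec.map (CommRingCat.ofHom (algebraMap k A)) := (Spec.map_preimage (j ≫ f)).symm
  have hj' : IsOpenImmersion j := by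
    dsimp [j]
    infer_instance
  obtain ⟨zx, hzx⟩ := exists_chart_eq k f j hj Ω x (hjr ▸ hxW)
  have hT' : IsClopen (chart k f j hj Ω ⁻¹' T) := hT.preimage (chart k f j hj Ω).continuous
  obtain ⟨e, he, hTe⟩ := PrimeSpectrum.isClopen_iff.mp hT'
  obtain ⟨K, hK, e', he'⟩ := exists_intermediateField_tensor k A Ω e
  -- the key: membership in `T` for points over `W` can be tested after mapping to `X_K`
  let θ := (Algebra.TensorProduct.map (AlgHom.id k A) (IsScalarTower.toAlgHom k K Ω)).toRingHom
  have hθ : chart k f j hj Ω ≫ bcMap k K Ω f = Spec.map (CommRingCat.ofHom θ) ≫ chart k f j hj K :=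
    chart_comp_bcMap k f j hj K Ω
  have key : ∀ z, chart k f j hj Ω z ∈ T ↔ e' ∉ (Spec.map (CommRingCat.ofHom θ) z).asIdeal := by
    intro z
    change z ∈ (chart k f j hj Ω ⁻¹' T) ↔ _
    rw [hTe]
    change e ∉ z.asIdeal ↔ _
    rw [← he']
    rfl
  have := h K
  -- the image of the complement is everything
  have huniv : bcMap k K Ω f '' Tᶜ = Set.univ := by
    have hint : IsIntegralHom (Spec.map (CommRingCat.ofHom (algebraMap K Ω))) := by
      rw [IsIntegralHom.SpecMap_iff]
      exact algebraMap_isIntegral_iff.mpr inferInstance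
    have ho : UniversallyOpen (bcMap k K Ω f) := by
      unfold bcMap
      infer_instance
    have hc : UniversallyClosed (bcMap k K Ω f) := by
      unfold bcMap
      infer_instance
    have : IsClopen (bcMap k K Ω f '' Tᶜ) := 
      ⟨(bcMap k K Ω f).isClosedMap _ hT.compl.isClosed, (bcMap k K Ω f).isOpenMap _ hT.compl.isOpen⟩
    refine this.eq_univ ?_
    exact (Set.nonempty_compl.mpr h2).image _
  obtain ⟨y, hyT, hyx⟩ : bcMap k K Ω f x ∈ bcMap k K Ω f '' Tᶜ := huniv ▸ Set.mem_univ _
  have hyW : pullback.fst f (Spec.map (CommRingCat.ofHom (algebraMap k Ω))) y ∈ W := by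
    rw [← bcMap_fst k K Ω f, Scheme.Hom.comp_apply, hyx, ← Scheme.Hom.comp_apply, bcMap_fst k K Ω f]
    exact hxW
  obtain ⟨zy, hzy⟩ := exists_chart_eq k f j hj Ω y (hjr ▸ hyW)
  have hz : Spec.map (CommRingCat.ofHom θ) zy = Spec.map (CommRingCat.ofHom θ) zx := by
    apply (chart k f j hj K).isOpenEmbedding.injective
    rw [← Scheme.Hom.comp_apply, ← Scheme.Hom.comp_apply, ← hθ, Scheme.Hom.comp_apply, Scheme.Hom.comp_apply,
      hzx, hzy, hyx]
  apply hyT
  rw [← hzy, key, hz, ← key, hzx]
  exact hx

/-- A scheme over a field `k` is geometrically connected as soon as it stays connected after all finite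
separable extensions of `k`. -/
theorem geometricallyConnected_of_forall_finite_separable (k : Type u) [Field k] {X : Scheme.{u}}
    (f : X ⟶ Spec (.of k))
    (h : ∀ (K : Type u) [Field K] [Algebra k K] [FiniteDimensional k K] [Algebra.IsSeparable k K],
      ConnectedSpace ↥(pullback f (Spec.map (CommRingCat.ofHom (algebraMap k K))))) :
    GeometricallyConnected f := by
  have : ConnectedSpace ↥(pullback f (Spec.map (CommRingCat.ofHom (algebraMap k (SeparableClosure k))))) := by
    apply connectedSpace_bc k f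
    intro K _
    have : Algebra.IsSeparable k K := inferInstance
    exact h K
  exact geometricallyConnected_of_connectedSpace_of_isSepClosed k (SeparableClosure k) f

end Groth.Agent.Flat2E.GeomConnSep
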