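import Mathlib.LinearAlgebra.Matrix.Adjugate
import Mathlib.LinearAlgebra.Matrix.Determinant.Basic
import Mathlib.RingTheory.Ideal.Operations
import Mathlib.RingTheory.Ideal.Quotient.Operations
import Mathlib.Tactic.LinearCombination

/-!
# Linkage: colon ideals of ideals generated by regular sequences

`(f) : (h) = (f) + (det M)` and `(f) : det M = (h)` for `f = M h`.
This file: the purely algebraic part, under the hypothesis that all "mixed" families are
(permutably) regular.
-/

set_option autoImplicit false

namespace Groth.Agent.Flat2E.Linkage418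

variable {R : Type*} [CommRing R] {ι : Type*}

/-- `c` is a permutably regular family. -/
def PReg (c : ι → R) : Prop :=
  ∀ (S : Set ι) (k : ι), k ∉ S → ∀ x, c k * x ∈ Ideal.span (c '' S) → x ∈ Ideal.span (c '' S)

omit [CommRing R] in
theorem image_update_of_notMem [DecidableEq ι] (c : ι → R) (j : ι) (a : R) {S : Set ι} (hj : j ∉ S) :
    (Function.update c j a) '' S = c '' S := by
  ext y
  constructor
  · rintro ⟨i, hi, rfl⟩
    refine ⟨i, hi, ?_⟩
    rw [Function.update_of_ne]
    rintro rfl; exact hj hi
  · rintro ⟨i, hi, rfl⟩
    refine ⟨i, hi, ?_⟩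
    rw [Function.update_of_ne]
    rintro rfl; exact hj hi

theorem span_image_update_of_mem [DecidableEq ι] (c : ι → R) (j : ι) (a : R) {S : Set ι} (hj : j ∈ S) :
    Ideal.span ((Function.update c j a) '' S) = Ideal.span (c '' (S \ {j})) ⊔ Ideal.span {a} := by
  have : S = insert j (S \ {j}) := by
    rw [Set.insert_sdiff_singleton, Set.insert_eq_of_mem hj]
  conv_lhs => rw [this]
  rw [Set.image_insert_eq, Ideal.span_insert, Function.update_self,
    image_update_of_notMem c j a (by simp), sup_comm]

theorem mem_sup_span_singleton_iff {I : Ideal R} {a x : R} :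
    x ∈ I ⊔ Ideal.span {a} ↔ ∃ y, x - y * a ∈ I := by
  constructor
  · intro h
    obtain ⟨u, hu, v, hv, rfl⟩ := Submodule.mem_sup.1 h
    obtain ⟨y, rfl⟩ := Ideal.mem_span_singleton'.1 hv
    exact ⟨y, by simpa using hu⟩
  · rintro ⟨y, hy⟩
    refine Submodule.mem_sup.2 ⟨_, hy, y * a, Ideal.mul_mem_left _ _ (Ideal.mem_span_singleton_self a), by ring⟩

theorem PReg.mul_update [DecidableEq ι] {c : ι → R} {j : ι} {a b : R}
    (ha : PReg (Function.update c j a)) (hb : PReg (Function.update c j b)) :
    PReg (Function.update c j (a * b)) := by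
  intro S k hk x hx
  by_cases hj : j ∈ S
  · have hkj : k ≠ j := by rintro rfl; exact hk hj
    rw [span_image_update_of_mem c j _ hj] at hx ⊢
    rw [Function.update_of_ne hkj] at hx
    set A := Ideal.span (c '' (S \ {j})) with hA
    have hj' : j ∉ S \ {j} := by simp
    -- regularity facts
    have r1 : ∀ z, a * z ∈ A → z ∈ A := by
      intro z hz
      have := ha (S \ {j}) j hj' z
      rw [image_update_of_notMem c j a hj', Function.update_self] at this
      exact this hz
    have r1' : ∀ z, b * z ∈ A → z ∈ A := by
      intro z hz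
      have := hb (S \ {j}) j hj' z
      rw [image_update_of_notMem c j b hj', Function.update_self] at this
      exact this hz
    have r2 : ∀ z, c k * z ∈ A ⊔ Ideal.span {a} → z ∈ A ⊔ Ideal.span {a} := by
      intro z hz
      have := ha S k hk z
      rw [span_image_update_of_mem c j _ hj, Function.update_of_ne hkj] at this
      exact this hz
    have r3 : ∀ z, c k * z ∈ A ⊔ Ideal.span {b} → z ∈ A ⊔ Ideal.span {b} := by
      intro z hz
      have := hb S k hk z
      rw [span_image_update_of_mem c j _ hj, Function.update_of_ne hkj] at this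
      exact this hz
    have h1 : x ∈ A ⊔ Ideal.span {b} := by
      apply r3
      rw [mem_sup_span_singleton_iff] at hx ⊢
      obtain ⟨y, hy⟩ := hx
      exact ⟨y * a, by convert hy using 1; ring⟩
    obtain ⟨w, hw⟩ := mem_sup_span_singleton_iff.1 h1
    obtain ⟨v, hv⟩ := mem_sup_span_singleton_iff.1 hx
    -- c k * x - v * (a b) ∈ A, x - w b ∈ A
    have h2 : b * (c k * w - v * a) ∈ A := by
      have := A.sub_mem hv (A.mul_mem_left (c k) hw)
      convert this using 1; ring
    have h3 : w ∈ A ⊔ Ideal.span {a} := by
      apply r2
      rw [mem_sup_span_singleton_iff]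
      exact ⟨v, r1' _ h2⟩
    obtain ⟨t, ht⟩ := mem_sup_span_singleton_iff.1 h3
    rw [mem_sup_span_singleton_iff]
    refine ⟨t, ?_⟩
    have := A.add_mem hw (A.mul_mem_left b ht)
    convert this using 1; ring
  · rw [image_update_of_notMem c j _ hj] at hx ⊢
    by_cases hkj : k = j
    · subst hkj
      rw [Function.update_self] at hx
      have h1 := ha S k hk (b * x)
      rw [image_update_of_notMem c k _ hj, Function.update_self, ← mul_assoc] at h1
      have h2 := hb S k hk x
      rw [image_update_of_notMem c k _ hj, Function.update_self] at h2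
      exact h2 (h1 hx)
    · have h1 := ha S k hk x
      rw [image_update_of_notMem c j _ hj, Function.update_of_ne hkj] at h1
      rw [Function.update_of_ne hkj] at hx
      exact h1 hx

/-- all mixed families are permutably regular -/
def Mixed (a b : ι → R) : Prop := ∀ c : ι → R, (∀ i, c i = a i ∨ c i = b i) → PReg c

theorem Mixed.symm {a b : ι → R} (h : Mixed a b) : Mixed b a :=
  fun c hc => h c (fun i => (hc i).symm)

theorem Mixed.pReg [Finite ι] {a b : ι → R} (h : Mixed a b) (c : ι → R)
    (hc : ∀ i, c i = a i ∨ c i = b i ∨ c i = a i * b i) : PReg c := by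
  classical
  have := Fintype.ofFinite ι
  -- induction on the set of indices with product
  have key : ∀ (T : Finset ι) (c : ι → R), (∀ i ∈ T, c i = a i * b i) →
      (∀ i ∉ T, c i = a i ∨ c i = b i) → PReg c := by
    intro T
    induction T using Finset.induction_on with
    | empty => intro c _ h2; exact h c (fun i => h2 i (by simp))
    | insert j T hj ih =>
      intro c h1 h2
      have e : c = Function.update c j (a j * b j) := by
        rw [← h1 j (by simp), Function.update_eq_self]
      rw [e]
      apply PReg.mul_update
      · apply ih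
        · intro i hi
          rw [Function.update_of_ne (by rintro rfl; exact hj hi)]
          exact h1 i (Finset.mem_insert_of_mem hi)
        · intro i hi
          by_cases hij : i = j
          · subst hij; left; simp
          · rw [Function.update_of_ne hij]
            exact h2 i (by simp [hij, hi])
      · apply ih
        · intro i hi
          rw [Function.update_of_ne (by rintro rfl; exact hj hi)]
          exact h1 i (Finset.mem_insert_of_mem hi)
        · intro i hi
          by_cases hij : i = j
          · subst hij; right; simp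
          · rw [Function.update_of_ne hij]
            exact h2 i (by simp [hij, hi])
  apply key (Finset.univ.filter (fun i => ¬ (c i = a i ∨ c i = b i)))
  · intro i hi
    simp only [Finset.mem_filter, Finset.mem_univ, true_and] at hi
    rcases hc i with h1 | h1 | h1
    · exact absurd (Or.inl h1) hi
    · exact absurd (Or.inr h1) hi
    · exact h1
  · intro i hi
    simp only [Finset.mem_filter, Finset.mem_univ, true_and, not_not] at hi
    exact hi

section Chain

variable [DecidableEq ι] (a b : ι → R)

/-- the family `a i * b i` for `i ∈ T` and `b i` otherwise -/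
def fam (T : Finset ι) : ι → R := fun i => if i ∈ T then a i * b i else b i

theorem fam_insert {T : Finset ι} {k : ι} (hk : k ∉ T) :
    fam a b (insert k T) = Function.update (fam a b T) k (a k * b k) := by
  ext i
  by_cases hi : i = k
  · subst hi; simp [fam]
  · rw [Function.update_of_ne hi]; simp [fam, hi]

theorem fam_eq_update {T : Finset ι} {k : ι} (hk : k ∉ T) :
    fam a b T = Function.update (fam a b T) k (b k) := by
  ext i
  by_cases hi : i = k
  · subst hi; simp [fam, hk]
  · rw [Function.update_of_ne hi]

theorem span_fam_insert {T : Finset ι} {k : ι} (hk : k ∉ T) :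
    Ideal.span (Set.range (fam a b (insert k T))) =
      Ideal.span (fam a b T '' (Set.univ \ {k})) ⊔ Ideal.span {a k * b k} := by
  rw [fam_insert a b hk, ← Set.image_univ, span_image_update_of_mem _ _ _ (Set.mem_univ k)]

theorem span_fam {T : Finset ι} {k : ι} (hk : k ∉ T) :
    Ideal.span (Set.range (fam a b T)) =
      Ideal.span (fam a b T '' (Set.univ \ {k})) ⊔ Ideal.span {b k} := by
  conv_lhs => rw [fam_eq_update a b hk]
  rw [← Set.image_univ, span_image_update_of_mem _ _ _ (Set.mem_univ k)]

theorem span_fam_le (T : Finset ι) :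
    Ideal.span (Set.range (fam a b T)) ≤ Ideal.span (Set.range b) := by
  rw [Ideal.span_le]
  rintro _ ⟨i, rfl⟩
  simp only [fam]
  split_ifs
  · exact Ideal.mul_mem_left _ _ (Ideal.subset_span ⟨i, rfl⟩)
  · exact Ideal.subset_span ⟨i, rfl⟩

variable {a b}

theorem chain [Finite ι] (h : Mixed a b) (T : Finset ι) :
    (∀ x, x * ∏ i ∈ T, a i ∈ Ideal.span (Set.range (fam a b T)) → x ∈ Ideal.span (Set.range b)) ∧
    (∀ x, (∀ i, x * b i ∈ Ideal.span (Set.range (fam a b T))) →
      x ∈ Ideal.span (Set.range (fam a b T)) ⊔ Ideal.span {∏ i ∈ T, a i}) := by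
  induction T using Finset.induction_on with
  | empty =>
    constructor
    · intro x hx
      have e : fam a b ∅ = b := by ext i; simp [fam]
      rw [e] at hx
      simpa using hx
    · intro x _
      simp
  | insert k T hk ih =>
    set A := Ideal.span (fam a b T '' (Set.univ \ {k})) with hA
    set J := Ideal.span (Set.range (fam a b T)) with hJ
    set J' := Ideal.span (Set.range (fam a b (insert k T))) with hJ'
    have e1 : J' = A ⊔ Ideal.span {a k * b k} := span_fam_insert a b hk
    have e2 : J = A ⊔ Ideal.span {b k} := span_fam a b hk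
    -- regularity of a k and b k modulo A
    have hkm : k ∉ (Set.univ \ {k} : Set ι) := by simp
    have ra : ∀ z, a k * z ∈ A → z ∈ A := by
      intro z hz
      have := h.pReg (Function.update (fam a b T) k (a k)) (by
        intro i
        by_cases hi : i = k
        · subst hi; left; simp
        · rw [Function.update_of_ne hi]
          simp only [fam]
          split_ifs
          · right; right; rfl
          · right; left; rfl) (Set.univ \ {k}) k hkm z
      rw [image_update_of_notMem _ _ _ hkm, Function.update_self] at this
      exact this hz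
    have rb : ∀ z, b k * z ∈ A → z ∈ A := by
      intro z hz
      have := h.pReg (Function.update (fam a b T) k (b k)) (by
        intro i
        by_cases hi : i = k
        · subst hi; right; left; simp
        · rw [Function.update_of_ne hi]
          simp only [fam]
          split_ifs
          · right; right; rfl
          · right; left; rfl) (Set.univ \ {k}) k hkm z
      rw [image_update_of_notMem _ _ _ hkm, Function.update_self] at this
      exact this hz
    -- J' : a k = J
    have s1 : ∀ z, z * a k ∈ J' → z ∈ J := by
      intro z hz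
      rw [e1, mem_sup_span_singleton_iff] at hz
      obtain ⟨y, hy⟩ := hz
      rw [e2, mem_sup_span_singleton_iff]
      refine ⟨y, ra _ ?_⟩
      convert hy using 1; ring
    -- J' : J = J' + a k
    have s2 : ∀ z, (∀ i, z * b i ∈ J') → z ∈ J' ⊔ Ideal.span {a k} := by
      intro z hz
      have h1 := hz k
      rw [e1, mem_sup_span_singleton_iff] at h1
      obtain ⟨y, hy⟩ := h1
      have : z - y * a k ∈ A := rb _ (by convert hy using 1; ring)
      rw [mem_sup_span_singleton_iff]
      exact ⟨y, e1 ▸ Ideal.mem_sup_left this⟩
    have s3 : ∀ z ∈ J, a k * z ∈ J' := by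
      intro z hz
      rw [e2, mem_sup_span_singleton_iff] at hz
      obtain ⟨y, hy⟩ := hz
      rw [e1, mem_sup_span_singleton_iff]
      refine ⟨y, ?_⟩
      have := A.mul_mem_left (a k) hy
      convert this using 1; ring
    constructor
    · intro x hx
      rw [Finset.prod_insert hk, mul_comm (a k), ← mul_assoc] at hx
      exact ih.1 x (s1 _ hx)
    · intro x hx
      obtain ⟨y, hy⟩ := mem_sup_span_singleton_iff.1 (s2 x hx)
      -- x - y a_k ∈ J'
      have h1 : ∀ i, y * b i ∈ J := by
        intro i
        apply s1
        have := J'.sub_mem (hx i) (J'.mul_mem_left (b i) hy)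
        convert this using 1; ring
      obtain ⟨w, hw⟩ := mem_sup_span_singleton_iff.1 (ih.2 y h1)
      rw [mem_sup_span_singleton_iff, Finset.prod_insert hk]
      refine ⟨w, ?_⟩
      have := J'.add_mem hy (s3 _ hw)
      convert this using 1; ring

end Chain

section Det

variable [Fintype ι] [DecidableEq ι]

open Matrix

theorem det_updateRow_koszul_mem (I : Ideal R) (B : Matrix ι ι R) (h : ι → R) (i : ι)
    (hB : ∀ k, k ≠ i → (B *ᵥ h) k ∈ I) (j l : ι) :
    h j * (B.updateRow i (Pi.single l 1)).det - h l * (B.updateRow i (Pi.single j 1)).det ∈ I := by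
  set A := B.updateRow i (Pi.single j 1) with hA
  have h1 : A.adjugate *ᵥ (A *ᵥ h) = A.det • h := by
    rw [Matrix.mulVec_mulVec, Matrix.adjugate_mul, Matrix.smul_mulVec, Matrix.one_mulVec]
  have h2 := congrFun h1 l
  rw [Matrix.mulVec, dotProduct, Pi.smul_apply, smul_eq_mul] at h2
  have h3 : A.adjugate l i = (B.updateRow i (Pi.single l 1)).det := by
    rw [Matrix.adjugate_apply, hA]
    congr 1
    ext p q
    by_cases hp : p = i
    · subst hp; simp
    · simp [Matrix.updateRow_ne hp]
  have h4 : (A *ᵥ h) i = h j := by
    rw [hA, Matrix.mulVec, dotProduct]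
    simp [Matrix.updateRow_self, Pi.single_apply]
  have h5 : ∀ k, k ≠ i → (A *ᵥ h) k ∈ I := by
    intro k hk
    have : (A *ᵥ h) k = (B *ᵥ h) k := by
      simp [hA, Matrix.mulVec, dotProduct, Matrix.updateRow_ne hk]
    rw [this]; exact hB k hk
  rw [← Finset.add_sum_erase _ _ (Finset.mem_univ i), h3, h4] at h2
  have h6 : ∑ x ∈ Finset.univ.erase i, A.adjugate l x * (A *ᵥ h) x ∈ I :=
    I.sum_mem (fun k hk => I.mul_mem_left _ (h5 k (Finset.ne_of_mem_erase hk)))
  have : h j * (B.updateRow i (Pi.single l 1)).det - h l * A.det =
      - ∑ x ∈ Finset.univ.erase i, A.adjugate l x * (A *ᵥ h) x := by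
    linear_combination h2
  rw [this]
  exact I.neg_mem h6

theorem det_updateRow_eq_sum (B : Matrix ι ι R) (i : ι) (v : ι → R) :
    (B.updateRow i v).det = ∑ j, v j * (B.updateRow i (Pi.single j 1)).det := by
  have : v = ∑ j, v j • (Pi.single j (1 : R) : ι → R) := by
    ext k
    simp [Finset.sum_apply, Pi.single_apply]
  conv_lhs => rw [this]
  have h := map_sum ((Matrix.detRowAlternating (R := R) (n := ι)).toMultilinearMap.toLinearMap B i)
    (fun j => v j • (Pi.single j (1 : R) : ι → R)) Finset.univ
  have h2 : ∀ w : ι → R, ((Matrix.detRowAlternating (R := R) (n := ι)).toMultilinearMap.toLinearMap B i) w =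
      (B.updateRow i w).det := fun w => rfl
  rw [h2] at h
  rw [h]
  refine Finset.sum_congr rfl (fun j _ => ?_)
  rw [LinearMap.map_smul, h2, smul_eq_mul]

/-- Comparison of the determinants: `∏ f_i - ∏ h_i * det M ∈ (f_i h_i)`. -/
theorem det_compare (M : Matrix ι ι R) (f h : ι → R) (hf : ∀ i, f i = ∑ j, M i j * h j) :
    (∏ i, f i) - (∏ i, h i) * M.det ∈ Ideal.span (Set.range (fun i => f i * h i)) := by
  set I := Ideal.span (Set.range (fun i => f i * h i)) with hI
  -- the matrix B_T
  let B : Finset ι → Matrix ι ι R := fun T => Matrix.of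
    (fun i => if i ∈ T then (fun j => h i * M i j) else (Pi.single i (f i) : ι → R))
  have hBin : ∀ T i, i ∈ T → (B T) i = fun j => h i * M i j := by
    intro T i hi
    ext j
    simp [B, hi]
  have hBout : ∀ T i, i ∉ T → (B T) i = (Pi.single i (f i) : ι → R) := by
    intro T i hi
    ext j
    simp [B, hi]
  have hBh : ∀ T i, (B T *ᵥ h) i = f i * h i := by
    intro T i
    by_cases hi : i ∈ T
    · rw [Matrix.mulVec, hBin T i hi, dotProduct, hf i, Finset.sum_mul]
      refine Finset.sum_congr rfl (fun j _ => by ring)
    · rw [Matrix.mulVec, hBout T i hi, dotProduct]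
      simp [Pi.single_apply]
  have hmem : ∀ T k, (B T *ᵥ h) k ∈ I := fun T k => by
    rw [hBh]; exact Ideal.subset_span ⟨k, rfl⟩
  have hstep : ∀ T i, i ∉ T → (B T).det - (B (insert i T)).det ∈ I := by
    intro T i hi
    have e1 : B T = (B T).updateRow i (Pi.single i (f i)) := by
      rw [← hBout T i hi, Matrix.updateRow_eq_self]
    have e2 : B (insert i T) = (B T).updateRow i (fun j => h i * M i j) := by
      ext p q
      by_cases hp : p = i
      · subst hp
        rw [Matrix.updateRow_self]
        exact congrFun (hBin _ _ (Finset.mem_insert_self _ _)) q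
      · rw [Matrix.updateRow_ne hp]
        by_cases hpT : p ∈ T
        · exact (congrFun (hBin _ _ (Finset.mem_insert_of_mem hpT)) q).trans
            (congrFun (hBin _ _ hpT) q).symm
        · exact (congrFun (hBout _ _ (by simp [hp, hpT])) q).trans
            (congrFun (hBout _ _ hpT) q).symm
    have e4 : (B T).det = ∑ j, (Pi.single i (f i) : ι → R) j * ((B T).updateRow i (Pi.single j 1)).det := by
      conv_lhs => rw [e1]
      rw [det_updateRow_eq_sum]
    rw [e4, e2, det_updateRow_eq_sum]
    have e3 : ∑ j, (Pi.single i (f i) : ι → R) j * ((B T).updateRow i (Pi.single j 1)).det =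
        ∑ j, M i j * (h j * ((B T).updateRow i (Pi.single i 1)).det) := by
      rw [Finset.sum_eq_single i]
      · rw [Pi.single_eq_same, hf i, Finset.sum_mul]
        refine Finset.sum_congr rfl (fun j _ => by ring)
      · intro j _ hj
        rw [Pi.single_eq_of_ne hj, zero_mul]
      · intro hi; exact absurd (Finset.mem_univ i) hi
    rw [e3, ← Finset.sum_sub_distrib]
    refine I.sum_mem (fun j _ => ?_)
    have := I.mul_mem_left (M i j)
      (det_updateRow_koszul_mem I (B T) h i (fun k _ => hmem T k) j i)
    convert this using 1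
    ring
  have hall : ∀ T, (B ∅).det - (B T).det ∈ I := by
    intro T
    induction T using Finset.induction_on with
    | empty => simp
    | insert i T hi ih =>
      have := I.add_mem ih (hstep T i hi)
      convert this using 1; ring
  have h0 : (B ∅).det = ∏ i, f i := by
    have : B ∅ = Matrix.diagonal f := by
      ext p q
      rw [show B ∅ p q = (Pi.single p (f p) : ι → R) q from congrFun (hBout ∅ p (by simp)) q]
      by_cases hpq : p = q
      · subst hpq; simp
      · rw [Pi.single_eq_of_ne (Ne.symm hpq), Matrix.diagonal_apply_ne _ hpq]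
    rw [this, Matrix.det_diagonal]
  have h1 : (B Finset.univ).det = (∏ i, h i) * M.det := by
    have : B Finset.univ = Matrix.of (fun i j => h i * M i j) := by
      ext p q
      exact congrFun (hBin Finset.univ p (by simp)) q
    rw [this, Matrix.det_mul_column]
  have := hall Finset.univ
  rwa [h0, h1] at this

/-- **Linkage**, mixed-regular case. -/
theorem linkage_of_mixed (M : Matrix ι ι R) (f h : ι → R) (hf : ∀ i, f i = ∑ j, M i j * h j)
    (hm : Mixed f h) :
    (∀ x, (∀ i, x * h i ∈ Ideal.span (Set.range f)) →
      x ∈ Ideal.span (Set.range f) ⊔ Ideal.span {M.det}) ∧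
    (∀ x, x * M.det ∈ Ideal.span (Set.range f) → x ∈ Ideal.span (Set.range h)) := by
  set G := Ideal.span (Set.range (fun i => f i * h i)) with hG
  have g1 : fam f h Finset.univ = fun i => f i * h i := by
    ext i; simp [fam]
  have g2 : fam h f Finset.univ = fun i => f i * h i := by
    ext i; simp [fam, mul_comm]
  obtain ⟨c1, c2⟩ := chain hm Finset.univ
  obtain ⟨d1, _⟩ := chain hm.symm Finset.univ
  rw [g1] at c1 c2
  rw [g2] at d1
  have hd := det_compare M f h hf
  -- `∏ h * y ∈ G` for `y ∈ (f)`
  have hH : ∀ y ∈ Ideal.span (Set.range f), (∏ i, h i) * y ∈ G := by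
    intro y hy
    have : Ideal.span (Set.range f) ≤ Submodule.comap (LinearMap.mulLeft R (∏ i, h i)) G := by
      rw [Ideal.span_le]
      rintro _ ⟨k, rfl⟩
      show (∏ i, h i) * f k ∈ G
      rw [← Finset.mul_prod_erase _ _ (Finset.mem_univ k)]
      have : h k * (∏ x ∈ Finset.univ.erase k, h x) * f k =
          (∏ x ∈ Finset.univ.erase k, h x) * (f k * h k) := by ring
      rw [this]
      exact G.mul_mem_left _ (Ideal.subset_span ⟨k, rfl⟩)
    exact this hy
  constructor
  · intro x hx
    have h1 : ∀ i, ((∏ i, h i) * x) * h i ∈ G := by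
      intro i
      have := hH _ (hx i)
      convert this using 1; ring
    obtain ⟨y, hy⟩ := mem_sup_span_singleton_iff.1 (c2 _ h1)
    rw [mem_sup_span_singleton_iff]
    refine ⟨y, d1 _ ?_⟩
    have := G.add_mem hy (G.mul_mem_left y hd)
    convert this using 1; ring
  · intro x hx
    apply c1
    have h1 := hH _ hx
    have := G.add_mem h1 (G.mul_mem_left x hd)
    convert this using 1; ring

end Det

end Groth.Agent.Flat2E.Linkage418
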