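import Groth.Agent.Flat2E.Linkage418
import Groth.Agent.Ega4dB.DepthReg
import Mathlib.LinearAlgebra.Matrix.NonsingularInverse
import Mathlib.RingTheory.Ideal.AssociatedPrime.Finiteness

/-!
# Linkage for regular sequences in Noetherian local rings

`linkage`: `f = M h`, `f` and `h` weakly regular sequences (in the maximal ideal) of the same length
in a Noetherian local ring. Then `(f) : (h) ≤ (f) + (det M)` and `(f) : det M ≤ (h)`.
-/

set_option autoImplicit false
universe u v

namespace Groth.Agent.Flat2E.Linkage418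

open RingTheory.Sequence

/-- Coset version of prime avoidance. -/
theorem exists_add_notMem {R : Type u} [CommRing R] (s : Finset (Ideal R)) (hs : ∀ P ∈ s, P.IsPrime)
    (x : R) (J : Ideal R) (h : ∀ P ∈ s, ¬ (Ideal.span {x} ⊔ J ≤ P)) :
    ∃ y ∈ J, ∀ P ∈ s, x + y ∉ P := by
  classical
  -- maximal elements
  let t := s.filter (fun P => ∀ Q ∈ s, P ≤ Q → P = Q)
  have ht : ∀ P ∈ s, ∃ Q ∈ t, P ≤ Q := by
    intro P hP
    obtain ⟨Q, hPQ, hQ⟩ := s.exists_le_maximal hP
    refine ⟨Q, ?_, hPQ⟩
    rw [Finset.mem_filter]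
    exact ⟨hQ.1, fun Q' hQ' hle => le_antisymm hle (hQ.2 hQ' hle)⟩
  have hts : ∀ P ∈ t, P ∈ s := fun P hP => (Finset.mem_filter.1 hP).1
  let t₁ := t.filter (fun P => x ∈ P)
  let t₂ := t.filter (fun P => x ∉ P)
  let K : Ideal R := J ⊓ t₂.inf id
  have hK : ¬ ((K : Set R) ⊆ ⋃ P ∈ (↑t₁ : Set (Ideal R)), ((id P : Ideal R) : Set R)) := by
    intro hsub
    have hp : ∀ P ∈ t₁, P ≠ ⊥ → P ≠ ⊥ → (id P : Ideal R).IsPrime :=
      fun P hP _ _ => hs P (hts P (Finset.mem_filter.1 hP).1)
    obtain ⟨P, hP, hKP⟩ := (Ideal.subset_union_prime (s := t₁) (f := id) ⊥ ⊥ hp).1 hsub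
    have hPt := (Finset.mem_filter.1 hP).1
    have hxP := (Finset.mem_filter.1 hP).2
    have hPp := hs P (hts P hPt)
    simp only [id] at hKP
    rcases (hPp.inf_le).1 hKP with h1 | h1
    · exact h P (hts P hPt) (sup_le ((Ideal.span_singleton_le_iff_mem P).2 hxP) h1)
    · obtain ⟨Q, hQ, hQP⟩ := (hPp.inf_le').1 h1
      have hQt := (Finset.mem_filter.1 hQ).1
      have hxQ := (Finset.mem_filter.1 hQ).2
      have := (Finset.mem_filter.1 hQt).2 P (hts P hPt) hQP
      subst this
      exact hxQ hxP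
  obtain ⟨y, hyK, hy⟩ := Set.not_subset.1 hK
  refine ⟨y, hyK.1, ?_⟩
  intro P hP hxy
  obtain ⟨Q, hQ, hPQ⟩ := ht P hP
  have hxyQ : x + y ∈ Q := hPQ hxy
  by_cases hxQ : x ∈ Q
  · have : y ∈ Q := (Ideal.add_mem_iff_right Q hxQ).1 hxyQ
    exact hy (Set.mem_biUnion (Finset.mem_coe.2 (Finset.mem_filter.2 ⟨hQ, hxQ⟩)) this)
  · have hyQ : y ∈ Q := by
      have : t₂.inf id ≤ Q := Finset.inf_le (f := id) (Finset.mem_filter.2 ⟨hQ, hxQ⟩)
      exact this hyK.2
    exact hxQ ((Ideal.add_mem_iff_left Q hyQ).1 hxyQ)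

section Depth

variable {R : Type u} [CommRing R] [IsNoetherianRing R]

theorem exists_isWeaklyRegular_quot (P : Ideal R) (c : List R) : ∀ (M : Type u) [AddCommGroup M] [Module R M]
    [Module.Finite R M] (_ : IsWeaklyRegular M c) (_ : ∀ r ∈ c, r ∈ P) (n : ℕ)
    (_ : ∃ rs : List R, rs.length = n + c.length ∧ (∀ r ∈ rs, r ∈ P) ∧ IsWeaklyRegular M rs),
    ∃ rs : List R, rs.length = n ∧ (∀ r ∈ rs, r ∈ P) ∧
      IsWeaklyRegular (M ⧸ (Ideal.ofList c • ⊤ : Submodule R M)) rs := by
  induction c with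
  | nil =>
    intro M _ _ _ _ _ n h
    obtain ⟨rs, h1, h2, h3⟩ := h
    refine ⟨rs, by simpa using h1, h2, ?_⟩
    have e : M ≃ₗ[R] (M ⧸ (Ideal.ofList ([] : List R) • ⊤ : Submodule R M)) :=
      (Submodule.quotEquivOfEqBot _ (by rw [Ideal.ofList_nil, Submodule.bot_smul])).symm
    exact (e.isWeaklyRegular_congr rs).1 h3
  | cons x c ih =>
    intro M _ _ _ hc hP n h
    obtain ⟨hx, hc'⟩ := (isWeaklyRegular_cons_iff M x c).1 hc
    have h1 := Ega4dB.DepthReg.exists_isWeaklyRegular_quotSMulTop P M (hP x (by simp)) hx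
      (n + c.length) (by
        obtain ⟨rs, h1, h2, h3⟩ := h
        exact ⟨rs, by rw [h1, List.length_cons, add_assoc], h2, h3⟩)
    obtain ⟨rs, h2, h3, h4⟩ := ih (QuotSMulTop x M) hc' (fun r hr => hP r (List.mem_cons_of_mem _ hr)) n h1
    refine ⟨rs, h2, h3, ?_⟩
    exact ((Submodule.quotOfListConsSMulTopEquivQuotSMulTopInner M x c).isWeaklyRegular_congr rs).2 h4

/-- An associated prime of `R/(c)`, `c` weakly regular, does not contain longer weakly regular sequences. -/
theorem not_le_of_mem_associatedPrimes (c : List R) (hc : IsWeaklyRegular R c) (P : Ideal R)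
    (hP : P ∈ associatedPrimes R (R ⧸ Ideal.ofList c)) (f : List R) (hf : IsWeaklyRegular R f)
    (hlen : c.length < f.length) : ¬ (Ideal.ofList f ≤ P) := by
  intro hle
  have hcP : ∀ r ∈ c, r ∈ P := by
    intro r hr
    obtain ⟨_, z, hz⟩ := isAssociatedPrime_iff.1 hP
    obtain ⟨w, rfl⟩ := Ideal.Quotient.mk_surjective z
    rw [hz, Submodule.mem_colon_singleton, Submodule.mem_bot, ← Ideal.Quotient.mk_eq_mk,
      ← Submodule.Quotient.mk_smul, Submodule.Quotient.mk_eq_zero]
    exact Ideal.mul_mem_right _ _ (Ideal.subset_span hr)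
  obtain ⟨rs, h1, h2, h3⟩ := exists_isWeaklyRegular_quot P c R hc hcP (f.length - c.length)
    ⟨f, by omega, fun r hr => hle (Ideal.subset_span hr), hf⟩
  match rs, h1, h2, h3 with
  | [], h1, _, _ => simp at h1; omega
  | y :: _, _, h2, h3 =>
    have hy := ((isWeaklyRegular_cons_iff _ y _).1 h3).1
    have hyP := h2 y (by simp)
    have e : (Ideal.ofList c • ⊤ : Submodule R R) = Ideal.ofList c := by
      rw [smul_eq_mul, Ideal.mul_top]
    rw [e] at hy
    have h4 : y ∈ ⋃ p ∈ associatedPrimes R (R ⧸ Ideal.ofList c), (p : Set R) :=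
      Set.mem_biUnion hP hyP
    rw [biUnion_associatedPrimes_eq_zero_divisors] at h4
    obtain ⟨z, hz0, hz⟩ := h4
    exact hz0 (hy (by simpa using hz))

end Depth

section PReg

variable {R : Type u} [CommRing R] [IsNoetherianRing R] [IsLocalRing R] {n : ℕ}

omit [IsNoetherianRing R] [IsLocalRing R] in
theorem ofList_ofFn (c : Fin n → R) : Ideal.ofList (List.ofFn c) = Ideal.span (Set.range c) := by
  have : {r | r ∈ List.ofFn c} = Set.range c := by
    ext x
    simp [List.mem_ofFn]
  exact congrArg Ideal.span this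

/-- A weakly regular sequence in the maximal ideal of a Noetherian local ring is permutably regular. -/
theorem pReg_of_isWeaklyRegular (c : Fin n → R) (hc : IsWeaklyRegular R (List.ofFn c))
    (hm : ∀ i, c i ∈ IsLocalRing.maximalIdeal R) : PReg c := by
  classical
  intro S k hk x hx
  let l₁ : List (Fin n) := (S.toFinset).toList
  have hl₁ : ∀ i, i ∈ l₁ ↔ i ∈ S := by intro i; simp [l₁]
  let l₂ : List (Fin n) := (Finset.univ \ (insert k S.toFinset)).toList
  have hperm : (List.finRange n).Perm (l₁ ++ (k :: l₂)) := by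
    refine (List.perm_ext_iff_of_nodup (List.nodup_finRange n) ?_).2 ?_
    · refine List.nodup_append.2 ⟨Finset.nodup_toList _, ?_, ?_⟩
      · refine List.nodup_cons.2 ⟨?_, Finset.nodup_toList _⟩
        simp [l₂]
      · intro a ha b hb hab
        subst hab
        rw [hl₁] at ha
        rw [List.mem_cons] at hb
        rcases hb with rfl | hb
        · exact hk ha
        · simp [l₂] at hb
          exact hb.2 ha
    · intro i
      simp only [List.mem_finRange, true_iff, List.mem_append, List.mem_cons, hl₁]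
      by_cases hi : i ∈ S
      · exact Or.inl hi
      · by_cases hik : i = k
        · exact Or.inr (Or.inl hik)
        · refine Or.inr (Or.inr ?_)
          simp [l₂, hi, hik]
  have hperm2 : (List.ofFn c).Perm ((l₁.map c) ++ (c k :: l₂.map c)) := by
    rw [List.ofFn_eq_map]
    have := hperm.map c
    rwa [List.map_append, List.map_cons] at this
  have h1 := IsLocalRing.isWeaklyRegular_of_perm_of_subset_maximalIdeal hc hperm2 (by
    intro r hr
    rw [List.mem_ofFn] at hr
    obtain ⟨i, rfl⟩ := hr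
    exact hm i)
  have h2 := ((isWeaklyRegular_append_iff R _ _).1 h1).2
  have h3 := ((isWeaklyRegular_cons_iff _ _ _).1 h2).1
  have e : (Ideal.ofList (l₁.map c) • ⊤ : Submodule R R) = Ideal.span (c '' S) := by
    rw [smul_eq_mul, Ideal.mul_top]
    have : {r | r ∈ l₁.map c} = c '' S := by
      ext y
      simp [hl₁]
    exact congrArg Ideal.span this
  rw [e] at h3
  exact mem_of_isSMulRegular_quotient_of_smul_mem h3 (by simpa using hx)

end PReg

section Exists

open Matrix

variable {R : Type u} [CommRing R] [IsNoetherianRing R] [IsLocalRing R] {n : ℕ}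

omit [IsNoetherianRing R] [IsLocalRing R] in
theorem det_one_updateRow (i : Fin n) (a : Fin n → R) :
    ((1 : Matrix (Fin n) (Fin n) R).updateRow i a).det = a i := by
  rw [det_updateRow_eq_sum, Finset.sum_eq_single i]
  · have : ((1 : Matrix (Fin n) (Fin n) R).updateRow i (Pi.single i 1)) = 1 := by
      ext p q
      by_cases hp : p = i
      · subst hp; simp [Matrix.one_apply, Pi.single_apply, eq_comm]
      · simp [Matrix.updateRow_ne hp]
    rw [this, det_one, mul_one]
  · intro j _ hj
    have : ((1 : Matrix (Fin n) (Fin n) R).updateRow i (Pi.single j 1)).det = 0 := by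
      refine det_zero_of_row_eq (i := i) (j := j) (Ne.symm hj) ?_
      rw [updateRow_self, updateRow_ne hj]
      ext q
      simp [Matrix.one_apply, Pi.single_apply, eq_comm]
    rw [this, mul_zero]
  · intro h; exact absurd (Finset.mem_univ i) h

omit [IsNoetherianRing R] [IsLocalRing R] in
theorem one_updateRow_mulVec (i : Fin n) (a f : Fin n → R) :
    ((1 : Matrix (Fin n) (Fin n) R).updateRow i a) *ᵥ f = Function.update f i (∑ j, a j * f j) := by
  ext k
  by_cases hk : k = i
  · subst hk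
    simp [Matrix.mulVec, dotProduct]
  · rw [Function.update_of_ne hk, Matrix.mulVec, Matrix.updateRow_ne hk]
    exact congrFun (Matrix.one_mulVec f) k

omit [IsNoetherianRing R] [IsLocalRing R] in
/-- One modification: there are coefficients `a` with `a i = 1` and `∑ a_j f_j` outside finitely many primes
not containing `(f)`. -/
theorem exists_coeff (s : Finset (Ideal R)) (hs : ∀ P ∈ s, P.IsPrime) (f : Fin n → R) (i : Fin n)
    (h : ∀ P ∈ s, ¬ (Ideal.span (Set.range f) ≤ P)) :
    ∃ a : Fin n → R, a i = 1 ∧ ∀ P ∈ s, (∑ j, a j * f j) ∉ P := by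
  obtain ⟨y, hy, hyP⟩ := exists_add_notMem s hs (f i) (Ideal.span (f '' {j | j ≠ i})) (by
    intro P hP hle
    apply h P hP
    rw [Ideal.span_le]
    rintro _ ⟨j, rfl⟩
    by_cases hj : j = i
    · subst hj
      exact hle (Ideal.mem_sup_left (Ideal.mem_span_singleton_self _))
    · exact hle (Ideal.mem_sup_right (Ideal.subset_span ⟨j, hj, rfl⟩)))
  obtain ⟨b, hb⟩ : ∃ b : Fin n → R, b i = 0 ∧ ∑ j, b j * f j = y := by
    refine Submodule.span_induction (p := fun y _ => ∃ b : Fin n → R, b i = 0 ∧ ∑ j, b j * f j = y)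
      ?_ ?_ ?_ ?_ hy
    · rintro _ ⟨j, hj, rfl⟩
      refine ⟨Pi.single j 1, Pi.single_eq_of_ne (Ne.symm hj) _, ?_⟩
      simp [Pi.single_apply]
    · exact ⟨0, rfl, by simp⟩
    · rintro x z _ _ ⟨b, hb1, hb2⟩ ⟨b', hb1', hb2'⟩
      refine ⟨b + b', by simp [hb1, hb1'], ?_⟩
      rw [← hb2, ← hb2', ← Finset.sum_add_distrib]
      refine Finset.sum_congr rfl (fun j _ => by simp [add_mul])
    · rintro r x _ ⟨b, hb1, hb2⟩
      refine ⟨r • b, by simp [hb1], ?_⟩
      rw [← hb2, Finset.smul_sum]
      refine Finset.sum_congr rfl (fun j _ => by simp [mul_assoc])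
  refine ⟨Function.update b i 1, by simp, ?_⟩
  intro P hP
  have : ∑ j, Function.update b i 1 j * f j = f i + y := by
    rw [← hb.2, ← Finset.add_sum_erase _ _ (Finset.mem_univ i),
      ← Finset.add_sum_erase Finset.univ (fun j => b j * f j) (Finset.mem_univ i), hb.1]
    simp only [Function.update_self, one_mul, zero_mul, zero_add]
    congr 1
    refine Finset.sum_congr rfl (fun j hj => ?_)
    rw [Function.update_of_ne (Finset.ne_of_mem_erase hj)]
  rw [this]
  exact hyP P hP

omit [IsNoetherianRing R] [IsLocalRing R] in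
theorem mul_mulVec_update (U : Matrix (Fin n) (Fin n) R) (f : Fin n → R) (i : Fin n) (a : Fin n → R) :
    ((1 : Matrix (Fin n) (Fin n) R).updateRow i a * U) *ᵥ f =
      Function.update (U *ᵥ f) i (∑ j, a j * (U *ᵥ f) j) := by
  rw [← Matrix.mulVec_mulVec, one_updateRow_mulVec]

omit [IsNoetherianRing R] [IsLocalRing R] in
theorem span_range_mulVec (U : Matrix (Fin n) (Fin n) R) (hU : IsUnit U.det) (f : Fin n → R) :
    Ideal.span (Set.range (U *ᵥ f)) = Ideal.span (Set.range f) := by
  have key : ∀ (V : Matrix (Fin n) (Fin n) R) (g : Fin n → R),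
      Ideal.span (Set.range (V *ᵥ g)) ≤ Ideal.span (Set.range g) := by
    intro V g
    rw [Ideal.span_le]
    rintro _ ⟨i, rfl⟩
    rw [Matrix.mulVec, dotProduct]
    exact Ideal.sum_mem _ (fun j _ => Ideal.mul_mem_left _ _ (Ideal.subset_span ⟨j, rfl⟩))
  refine le_antisymm (key U f) ?_
  have h := key U⁻¹ (U *ᵥ f)
  rwa [Matrix.mulVec_mulVec, Matrix.nonsing_inv_mul U hU, Matrix.one_mulVec] at h

/-- the mixed family selected by `T` -/
def mix (T : Finset (Fin n)) (f h : Fin n → R) : Fin n → R := fun j => if j ∈ T then f j else h j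

theorem exists_mixed_aux (f h : Fin n → R) (hf : IsWeaklyRegular R (List.ofFn f))
    (hh : IsWeaklyRegular R (List.ofFn h)) (m : ℕ) (hm : m ≤ n) :
    ∃ U V : Matrix (Fin n) (Fin n) R, IsUnit U.det ∧ IsUnit V.det ∧
      ∀ T : Finset (Fin n), IsWeaklyRegular R ((List.ofFn (mix T (U *ᵥ f) (V *ᵥ h))).take m) := by
  classical
  induction m with
  | zero =>
    exact ⟨1, 1, by simp, by simp, fun T => by simp⟩
  | succ m ih =>
    obtain ⟨U, V, hU, hV, hT⟩ := ih (Nat.le_of_succ_le hm)
    let i : Fin n := ⟨m, hm⟩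
    let s : Finset (Ideal R) := (Finset.univ : Finset (Finset (Fin n))).biUnion (fun T =>
      (associatedPrimes.finite R (R ⧸ Ideal.ofList ((List.ofFn (mix T (U *ᵥ f) (V *ᵥ h))).take m))).toFinset)
    have hs : ∀ P ∈ s, ∃ T : Finset (Fin n), P ∈ associatedPrimes R
        (R ⧸ Ideal.ofList ((List.ofFn (mix T (U *ᵥ f) (V *ᵥ h))).take m)) := by
      intro P hP
      obtain ⟨T, _, hT⟩ := Finset.mem_biUnion.1 hP
      exact ⟨T, (Set.Finite.mem_toFinset _).1 hT⟩
    have hs' : ∀ (T : Finset (Fin n)) P, P ∈ associatedPrimes R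
        (R ⧸ Ideal.ofList ((List.ofFn (mix T (U *ᵥ f) (V *ᵥ h))).take m)) → P ∈ s := by
      intro T P hP
      exact Finset.mem_biUnion.2 ⟨T, Finset.mem_univ _, (Set.Finite.mem_toFinset _).2 hP⟩
    have hlen : ∀ T : Finset (Fin n), ((List.ofFn (mix T (U *ᵥ f) (V *ᵥ h))).take m).length < n := by
      intro T
      rw [List.length_take, List.length_ofFn]
      omega
    have hPf : ∀ P ∈ s, ¬ (Ideal.span (Set.range (U *ᵥ f)) ≤ P) := by
      intro P hP hle
      obtain ⟨T, hPT⟩ := hs P hP
      refine not_le_of_mem_associatedPrimes _ (hT T) P hPT (List.ofFn f) hf ?_ ?_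
      · rw [List.length_ofFn]; exact hlen T
      · rwa [ofList_ofFn, ← span_range_mulVec U hU]
    have hPh : ∀ P ∈ s, ¬ (Ideal.span (Set.range (V *ᵥ h)) ≤ P) := by
      intro P hP hle
      obtain ⟨T, hPT⟩ := hs P hP
      refine not_le_of_mem_associatedPrimes _ (hT T) P hPT (List.ofFn h) hh ?_ ?_
      · rw [List.length_ofFn]; exact hlen T
      · rwa [ofList_ofFn, ← span_range_mulVec V hV]
    have hsp : ∀ P ∈ s, P.IsPrime := by
      intro P hP
      obtain ⟨T, hPT⟩ := hs P hP
      exact IsAssociatedPrime.isPrime hPT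
    obtain ⟨a, ha1, ha⟩ := exists_coeff s hsp (U *ᵥ f) i hPf
    obtain ⟨b, hb1, hb⟩ := exists_coeff s hsp (V *ᵥ h) i hPh
    refine ⟨(1 : Matrix (Fin n) (Fin n) R).updateRow i a * U,
      (1 : Matrix (Fin n) (Fin n) R).updateRow i b * V, ?_, ?_, ?_⟩
    · rw [det_mul, det_one_updateRow, ha1, one_mul]; exact hU
    · rw [det_mul, det_one_updateRow, hb1, one_mul]; exact hV
    · intro T
      rw [mul_mulVec_update, mul_mulVec_update]
      set f' := U *ᵥ f with hf'
      set h' := V *ᵥ h with hh'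
      set c := mix T (Function.update f' i (∑ j, a j * f' j)) (Function.update h' i (∑ j, b j * h' j)) with hc
      have e1 : (List.ofFn c).take m = (List.ofFn (mix T f' h')).take m := by
        refine List.ext_getElem (by simp) ?_
        intro k hk1 hk2
        rw [List.getElem_take, List.getElem_take, List.getElem_ofFn, List.getElem_ofFn]
        have hk : k < m := by
          rw [List.length_take, List.length_ofFn] at hk1; omega
        have hki : (⟨k, by omega⟩ : Fin n) ≠ i := by
          intro he; have := congrArg Fin.val he; simp [i] at this; omega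
        simp only [hc, mix, Function.update_of_ne hki]
      have e2 : (List.ofFn c).take (m + 1) = (List.ofFn c).take m ++ [c i] := by
        rw [List.take_succ_eq_append_getElem (by rw [List.length_ofFn]; omega), List.getElem_ofFn]
      rw [e2, isWeaklyRegular_append_iff, e1]
      refine ⟨hT T, ?_⟩
      rw [isWeaklyRegular_singleton_iff]
      have e3 : (Ideal.ofList ((List.ofFn (mix T f' h')).take m) • ⊤ : Submodule R R) =
          Ideal.ofList ((List.ofFn (mix T f' h')).take m) := by
        rw [smul_eq_mul, Ideal.mul_top]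
      rw [e3, isSMulRegular_iff_right_eq_zero_of_smul]
      intro x hx
      by_contra hx0
      have h4 : c i ∈ ⋃ p ∈ associatedPrimes R (R ⧸ Ideal.ofList ((List.ofFn (mix T f' h')).take m)),
          (p : Set R) := by
        rw [biUnion_associatedPrimes_eq_zero_divisors]
        exact ⟨x, hx0, hx⟩
      obtain ⟨P, hP, hcP⟩ := Set.mem_iUnion₂.1 h4
      have hPs := hs' T P hP
      by_cases hi : i ∈ T
      · have : c i = ∑ j, a j * f' j := by simp [hc, mix, hi]
        rw [this] at hcP
        exact ha P hPs hcP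
      · have : c i = ∑ j, b j * h' j := by simp [hc, mix, hi]
        rw [this] at hcP
        exact hb P hPs hcP

theorem exists_mixed (f h : Fin n → R) (hf : IsWeaklyRegular R (List.ofFn f))
    (hh : IsWeaklyRegular R (List.ofFn h)) (hfm : ∀ i, f i ∈ IsLocalRing.maximalIdeal R)
    (hhm : ∀ i, h i ∈ IsLocalRing.maximalIdeal R) :
    ∃ U V : Matrix (Fin n) (Fin n) R, IsUnit U.det ∧ IsUnit V.det ∧ Mixed (U *ᵥ f) (V *ᵥ h) := by
  classical
  obtain ⟨U, V, hU, hV, hT⟩ := exists_mixed_aux f h hf hh n le_rfl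
  refine ⟨U, V, hU, hV, ?_⟩
  intro c hc
  have e : c = mix (Finset.univ.filter (fun i => c i = (U *ᵥ f) i)) (U *ᵥ f) (V *ᵥ h) := by
    ext i
    simp only [mix, Finset.mem_filter, Finset.mem_univ, true_and]
    split_ifs with h1
    · exact h1
    · rcases hc i with h2 | h2
      · exact absurd h2 h1
      · exact h2
  apply pReg_of_isWeaklyRegular
  · rw [e]
    have := hT (Finset.univ.filter (fun i => c i = (U *ᵥ f) i))
    rwa [List.take_of_length_le (by rw [List.length_ofFn])] at this
  · intro i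
    have key : ∀ (W : Matrix (Fin n) (Fin n) R) (g : Fin n → R), (∀ i, g i ∈ IsLocalRing.maximalIdeal R) →
        (W *ᵥ g) i ∈ IsLocalRing.maximalIdeal R := by
      intro W g hg
      rw [Matrix.mulVec, dotProduct]
      exact Ideal.sum_mem _ (fun j _ => Ideal.mul_mem_left _ _ (hg j))
    rcases hc i with h1 | h1
    · rw [h1]; exact key U f hfm
    · rw [h1]; exact key V h hhm

/-- **Linkage** for regular sequences in a Noetherian local ring. -/
theorem linkage (M : Matrix (Fin n) (Fin n) R) (f h : Fin n → R) (hM : f = M *ᵥ h)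
    (hf : IsWeaklyRegular R (List.ofFn f))
    (hh : IsWeaklyRegular R (List.ofFn h)) (hhm : ∀ i, h i ∈ IsLocalRing.maximalIdeal R) :
    (∀ x, (∀ i, x * h i ∈ Ideal.span (Set.range f)) →
      x ∈ Ideal.span (Set.range f) ⊔ Ideal.span {M.det}) ∧
    (∀ x, x * M.det ∈ Ideal.span (Set.range f) → x ∈ Ideal.span (Set.range h)) := by
  have hfm : ∀ i, f i ∈ IsLocalRing.maximalIdeal R := by
    intro i
    rw [hM, Matrix.mulVec, dotProduct]
    exact Ideal.sum_mem _ (fun j _ => Ideal.mul_mem_left _ _ (hhm j))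
  obtain ⟨U, V, hU, hV, hmix⟩ := exists_mixed f h hf hh hfm hhm
  have e : U *ᵥ f = (U * M * V⁻¹) *ᵥ (V *ᵥ h) := by
    rw [Matrix.mulVec_mulVec, Matrix.mul_assoc, Matrix.nonsing_inv_mul V hV, Matrix.mul_one,
      ← Matrix.mulVec_mulVec, ← hM]
  obtain ⟨c1, c2⟩ := linkage_of_mixed (U * M * V⁻¹) (U *ᵥ f) (V *ᵥ h) (fun i => congrFun e i) hmix
  rw [span_range_mulVec U hU, span_range_mulVec V hV] at c2
  rw [span_range_mulVec U hU] at c1
  have hdet : ∃ u : Rˣ, (U * M * V⁻¹).det = u * M.det := by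
    obtain ⟨u, hu⟩ := hU
    obtain ⟨v, hv⟩ := hV
    refine ⟨u * v⁻¹, ?_⟩
    rw [det_mul, det_mul, ← hu, Matrix.det_nonsing_inv, ← hv, Ring.inverse_unit]
    push_cast
    ring
  obtain ⟨u, hu⟩ := hdet
  constructor
  · intro x hx
    have h1 : ∀ i, x * (V *ᵥ h) i ∈ Ideal.span (Set.range f) := by
      intro i
      rw [Matrix.mulVec, dotProduct, Finset.mul_sum]
      refine Ideal.sum_mem _ (fun j _ => ?_)
      rw [mul_left_comm]
      exact Ideal.mul_mem_left _ _ (hx j)
    have h2 := c1 x h1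
    rw [hu, Ideal.span_singleton_mul_left_unit u.isUnit] at h2
    exact h2
  · intro x hx
    apply c2
    rw [hu, mul_left_comm]
    exact Ideal.mul_mem_left _ _ hx

end Exists

end Groth.Agent.Flat2E.Linkage418
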