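import Mathlib.RingTheory.Spectrum.Prime.Homeomorph
import Mathlib.RingTheory.LocalRing.ResidueField.Ideal
import Mathlib.RingTheory.TensorProduct.Basic
import Mathlib.FieldTheory.PurelyInseparable.Basic
import Mathlib.AlgebraicGeometry.Pullbacks

/-!
# One point fibres

If `A` has exactly one prime `r` over the prime `p` of `R` and `κ(r)/κ(p)` is purely inseparable, then
`A ⊗_R K` has exactly one prime for every field `K` over `R` with kernel `p`.
-/

set_option autoImplicit false
universe u

namespace Groth.Agent.Flat2E.OnePoint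

open TensorProduct

theorem comap_surjective_residue {R A K : Type u} [CommRing R] [CommRing A] [Algebra R A] [Field K] [Algebra R K]
    (p : Ideal R) [p.IsPrime] (hK : RingHom.ker (algebraMap R K) = p)
    (r : PrimeSpectrum A)
    (huniq : ∀ r' : PrimeSpectrum A, r'.asIdeal.comap (algebraMap R A) = p → r' = r)
    [Algebra p.ResidueField r.asIdeal.ResidueField] [IsScalarTower R p.ResidueField r.asIdeal.ResidueField]
    [Algebra p.ResidueField K] [IsScalarTower R p.ResidueField K]
    (g : A ⊗[R] K →+* r.asIdeal.ResidueField ⊗[p.ResidueField] K)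
    (hg : ∀ a k, g (a ⊗ₜ k) = algebraMap A r.asIdeal.ResidueField a ⊗ₜ k) :
    Function.Surjective (PrimeSpectrum.comap g) := by
  intro Q
  let α : A ⊗[R] K →+* Q.asIdeal.ResidueField := algebraMap _ _
  have hα : RingHom.ker α = Q.asIdeal := Ideal.ker_algebraMap_residueField _
  let βK : K →+* Q.asIdeal.ResidueField := α.comp (Algebra.TensorProduct.includeRight (R := R) (A := A) (B := K)).toRingHom
  let αA : A →+* Q.asIdeal.ResidueField := α.comp (Algebra.TensorProduct.includeLeftRingHom (R := R) (A := A) (B := K))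
  have hcomm : αA.comp (algebraMap R A) = βK.comp (algebraMap R K) := by
    ext x
    simp only [αA, βK, RingHom.comp_apply]
    congr 1
    change algebraMap R A x ⊗ₜ[R] (1 : K) = (1 : A) ⊗ₜ[R] algebraMap R K x
    rw [Algebra.algebraMap_eq_smul_one, Algebra.algebraMap_eq_smul_one, TensorProduct.smul_tmul]
  have hkerA : RingHom.ker αA = r.asIdeal := by
    have h1 := huniq ⟨RingHom.ker αA, RingHom.ker_isPrime _⟩ (by
      change (RingHom.ker αA).comap (algebraMap R A) = p
      rw [RingHom.comap_ker, hcomm, ← RingHom.comap_ker, (RingHom.injective_iff_ker_eq_bot βK).mp βK.injective]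
      rw [← hK]
      rfl)
    exact congrArg PrimeSpectrum.asIdeal h1
  let βr : r.asIdeal.ResidueField →+* Q.asIdeal.ResidueField :=
    Ideal.ResidueField.lift r.asIdeal αA hkerA.ge (fun y hy => by
      rw [Submonoid.mem_comap]
      have : αA y ≠ 0 := fun h0 => hy (hkerA ▸ h0)
      exact IsUnit.mk0 _ this)
  have hβr : ∀ a, βr (algebraMap A _ a) = αA a := fun a => Ideal.ResidueField.lift_algebraMap (I := r.asIdeal) _ _ _ _
  let _ : Algebra p.ResidueField Q.asIdeal.ResidueField := (βK.comp (algebraMap p.ResidueField K)).toAlgebra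
  have hcomm2 : βr.comp (algebraMap p.ResidueField r.asIdeal.ResidueField) = βK.comp (algebraMap p.ResidueField K) := by
    apply Ideal.ResidueField.ringHom_ext
    ext x
    simp only [RingHom.comp_apply]
    rw [← IsScalarTower.algebraMap_apply, ← IsScalarTower.algebraMap_apply,
      IsScalarTower.algebraMap_apply R A r.asIdeal.ResidueField, hβr]
    exact congr($hcomm x)
  let βr' : r.asIdeal.ResidueField →ₐ[p.ResidueField] Q.asIdeal.ResidueField :=
    { βr with commutes' := fun x => congr($hcomm2 x) }
  let βK' : K →ₐ[p.ResidueField] Q.asIdeal.ResidueField :=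
    { βK with commutes' := fun x => rfl }
  let β : r.asIdeal.ResidueField ⊗[p.ResidueField] K →ₐ[p.ResidueField] Q.asIdeal.ResidueField :=
    Algebra.TensorProduct.lift βr' βK' (fun _ _ => Commute.all _ _)
  have hβ : β.toRingHom.comp g = α := by
    apply RingHom.ext
    intro z
    induction z using TensorProduct.induction_on with
    | zero => simp
    | tmul a k =>
      simp only [RingHom.comp_apply, hg]
      change βr (algebraMap A _ a) * βK k = α (a ⊗ₜ k)
      rw [hβr]
      simp only [αA, βK, RingHom.comp_apply, ← map_mul]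
      congr 1
      change (a ⊗ₜ[R] (1 : K)) * ((1 : A) ⊗ₜ[R] k) = _
      simp
    | add x y hx hy => rw [map_add, map_add, hx, hy]
  refine ⟨PrimeSpectrum.comap β.toRingHom ⊥, ?_⟩
  apply PrimeSpectrum.ext
  change Ideal.comap g (Ideal.comap β.toRingHom ⊥) = Q.asIdeal
  rw [Ideal.comap_comap, hβ]
  exact hα

/-- Ring version: `A ⊗_R K` has exactly one prime. -/
theorem subsingleton_nonempty_tensor {R A K : Type u} [CommRing R] [CommRing A] [Algebra R A] [Field K] [Algebra R K]
    (p : Ideal R) [hp : p.IsPrime] (hK : RingHom.ker (algebraMap R K) = p)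
    (r : PrimeSpectrum A) (hr : r.asIdeal.comap (algebraMap R A) = p)
    (huniq : ∀ r' : PrimeSpectrum A, r'.asIdeal.comap (algebraMap R A) = p → r' = r)
    (hpi : letI := (Ideal.ResidueField.map p r.asIdeal (algebraMap R A) hr.symm).toAlgebra
      IsPurelyInseparable p.ResidueField r.asIdeal.ResidueField) :
    Subsingleton (PrimeSpectrum (A ⊗[R] K)) ∧ Nonempty (PrimeSpectrum (A ⊗[R] K)) := by
  let _ : Algebra p.ResidueField r.asIdeal.ResidueField := (Ideal.ResidueField.map p r.asIdeal (algebraMap R A) hr.symm).toAlgebra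
  let _ : Algebra p.ResidueField K := (Ideal.ResidueField.lift p (algebraMap R K) hK.ge (fun y hy => by
      rw [Submonoid.mem_comap]
      have : algebraMap R K y ≠ 0 := fun h0 => hy (hK ▸ h0)
      exact IsUnit.mk0 _ this)).toAlgebra
  have h1 : IsScalarTower R p.ResidueField r.asIdeal.ResidueField := by
    refine IsScalarTower.of_algebraMap_eq fun x => ?_
    change _ = Ideal.ResidueField.map p r.asIdeal (algebraMap R A) hr.symm (algebraMap R _ x)
    rw [Ideal.ResidueField.map_algebraMap]
    rfl
  have h2 : IsScalarTower R p.ResidueField K := by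
    refine IsScalarTower.of_algebraMap_eq fun x => ?_
    exact (Ideal.ResidueField.lift_algebraMap (I := p) (algebraMap R K) _ _ _).symm
  have hpi' : IsPurelyInseparable p.ResidueField r.asIdeal.ResidueField := hpi
  let g : A ⊗[R] K →ₐ[R] r.asIdeal.ResidueField ⊗[p.ResidueField] K :=
    Algebra.TensorProduct.lift
      ((Algebra.TensorProduct.includeLeft (R := p.ResidueField) (S := R) (A := r.asIdeal.ResidueField) (B := K)).comp
        (IsScalarTower.toAlgHom R A r.asIdeal.ResidueField))
      ((Algebra.TensorProduct.includeRight (R := p.ResidueField) (A := r.asIdeal.ResidueField) (B := K)).restrictScalars R)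
      (fun _ _ => Commute.all _ _)
  have hsurj := comap_surjective_residue p hK r huniq g.toRingHom (by
    intro a k
    change g (a ⊗ₜ k) = _
    simp only [g, Algebra.TensorProduct.lift_tmul]
    change (algebraMap A r.asIdeal.ResidueField a ⊗ₜ[p.ResidueField] (1 : K)) * ((1 : r.asIdeal.ResidueField) ⊗ₜ[p.ResidueField] k) = _
    simp)
  have hhomeo := PrimeSpectrum.isHomeomorph_comap_of_isPurelyInseparable p.ResidueField r.asIdeal.ResidueField K
  let e := (Algebra.TensorProduct.comm p.ResidueField r.asIdeal.ResidueField K).toRingEquiv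
  have hb1 : Function.Bijective (PrimeSpectrum.comap (algebraMap K (K ⊗[p.ResidueField] r.asIdeal.ResidueField))) := hhomeo.bijective
  have hb2 : Function.Bijective (PrimeSpectrum.comap (e : r.asIdeal.ResidueField ⊗[p.ResidueField] K →+* K ⊗[p.ResidueField] r.asIdeal.ResidueField)) :=
    (PrimeSpectrum.comapEquiv e.symm).bijective
  have hs1 : Subsingleton (PrimeSpectrum (K ⊗[p.ResidueField] r.asIdeal.ResidueField)) := hb1.1.subsingleton
  have hs2 : Subsingleton (PrimeSpectrum (r.asIdeal.ResidueField ⊗[p.ResidueField] K)) := hb2.2.subsingleton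
  have hn1 : Nonempty (PrimeSpectrum (K ⊗[p.ResidueField] r.asIdeal.ResidueField)) := by
    obtain ⟨y, -⟩ := hb1.2 ⊥
    exact ⟨y⟩
  have hn2 : Nonempty (PrimeSpectrum (r.asIdeal.ResidueField ⊗[p.ResidueField] K)) := hn1.map (PrimeSpectrum.comap e.toRingHom)
  exact ⟨hsurj.subsingleton, hn2.map (PrimeSpectrum.comap g.toRingHom)⟩

open AlgebraicGeometry CategoryTheory Limits in
/-- Scheme version. -/
theorem subsingleton_nonempty_pullback {R A : Type u} [CommRing R] [CommRing A] [Algebra R A]
    (p : Ideal R) [hp : p.IsPrime]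
    (r : PrimeSpectrum A) (hr : r.asIdeal.comap (algebraMap R A) = p)
    (huniq : ∀ r' : PrimeSpectrum A, r'.asIdeal.comap (algebraMap R A) = p → r' = r)
    (hpi : letI := (Ideal.ResidueField.map p r.asIdeal (algebraMap R A) hr.symm).toAlgebra
      IsPurelyInseparable p.ResidueField r.asIdeal.ResidueField)
    {K : Type u} [Field K] (y : Spec (.of K) ⟶ Spec (.of R)) (hy : (y (IsLocalRing.closedPoint K)).asIdeal = p)
    {P : Scheme.{u}} (fst : P ⟶ Spec (.of A)) (snd : P ⟶ Spec (.of K))
    (h : IsPullback fst snd (Spec.map (CommRingCat.ofHom (algebraMap R A))) y) : Subsingleton P ∧ Nonempty P := by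
  obtain ⟨φ, rfl⟩ := Spec.map_surjective y
  let _ : Algebra R K := φ.hom.toAlgebra
  have hK : RingHom.ker (algebraMap R K) = p := by
    rw [← hy]
    change _ = Ideal.comap φ.hom (IsLocalRing.maximalIdeal K)
    rw [IsLocalRing.maximalIdeal_eq_bot]
    rfl
  obtain ⟨h1, h2⟩ := subsingleton_nonempty_tensor (K := K) p hK r hr huniq hpi
  have h3 : IsPullback (pullback.fst (Spec.map (CommRingCat.ofHom (algebraMap R A))) (Spec.map (CommRingCat.ofHom (algebraMap R K))))
      (pullback.snd _ _) (Spec.map (CommRingCat.ofHom (algebraMap R A))) (Spec.map φ) :=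
    IsPullback.of_hasPullback _ _
  let e : P ≅ Spec (.of (A ⊗[R] K)) := (h.isoIsPullback _ _ h3) ≪≫ pullbackSpecIso R A K
  let e' : P ≃ Spec (.of (A ⊗[R] K)) := (Scheme.homeoOfIso e).toEquiv
  exact ⟨e'.subsingleton_congr.mpr h1, e'.nonempty_congr.mpr h2⟩

end Groth.Agent.Flat2E.OnePoint
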