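import Mathlib.FieldTheory.PurelyInseparable.Basic
import Mathlib.FieldTheory.PurelyInseparable.Exponent
import Mathlib.RingTheory.Adjoin.FG
import Mathlib.RingTheory.IntegralClosure.Algebra.Basic
import Mathlib.RingTheory.Localization.Away.Basic

/-!
Spreading out a finite purely inseparable extension of the residue field of the generic point of an
irreducible affine scheme to a finite radicial algebra over a basic open.
-/

set_option autoImplicit false
universe u

namespace Groth.Agent.Flat2E.PurInsepSpread

section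

variable {A K k' : Type u} [CommRing A] [Field K] [Field k'] [Algebra A K] [Algebra K k']

lemma mul_notMem_nilradical (h1 : RingHom.ker (algebraMap A K) = nilradical A) {s t : A}
    (hs : s ∉ nilradical A) (ht : t ∉ nilradical A) : s * t ∉ nilradical A := by
  intro hst
  rw [← h1, RingHom.mem_ker, map_mul] at hst
  rcases mul_eq_zero.mp hst with h | h
  · exact hs (by rw [← h1, RingHom.mem_ker, h])
  · exact ht (by rw [← h1, RingHom.mem_ker, h])

/-- common denominators for finite sets -/
lemma exists_common_denom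
    (h1 : RingHom.ker (algebraMap A K) = nilradical A)
    (h2 : ∀ x : K, ∃ a s : A, s ∉ nilradical A ∧ algebraMap A K s * x = algebraMap A K a)
    (T : Finset K) : ∃ s : A, s ∉ nilradical A ∧ ∀ x ∈ T, ∃ a : A, algebraMap A K s * x = algebraMap A K a := by
  classical
  induction T using Finset.induction_on with
  | empty =>
    refine ⟨1, ?_, by simp⟩
    rw [← h1, RingHom.mem_ker, map_one]
    exact one_ne_zero
  | insert x T _ ih =>
    obtain ⟨s, hs, H⟩ := ih
    obtain ⟨a, t, ht, hx⟩ := h2 x
    refine ⟨s * t, mul_notMem_nilradical h1 hs ht, ?_⟩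
    intro y hy
    rcases Finset.mem_insert.mp hy with rfl | hy
    · exact ⟨s * a, by rw [map_mul, mul_assoc, hx, map_mul]⟩
    · obtain ⟨b, hb⟩ := H y hy
      exact ⟨t * b, by rw [map_mul, mul_comm (algebraMap A K s), mul_assoc, hb, map_mul]⟩

/-- **Spreading out a finite purely inseparable extension** -/
theorem exists_spread [FiniteDimensional K k'] [IsPurelyInseparable K k']
    (h1 : RingHom.ker (algebraMap A K) = nilradical A)
    (h2 : ∀ x : K, ∃ a s : A, s ∉ nilradical A ∧ algebraMap A K s * x = algebraMap A K a) :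
    ∃ f : A, f ∉ nilradical A ∧ ∀ (A' : Type u) [CommRing A'] [Algebra A A'] [Algebra A' K]
      [IsScalarTower A A' K] [IsLocalization.Away f A'],
      ∃ (B : Type u) (_ : CommRing B) (_ : IsDomain B) (_ : Algebra A' B) (φ : B →+* k'),
        φ.comp (algebraMap A' B) = (algebraMap K k').comp (algebraMap A' K) ∧
        Module.Finite A' B ∧ Function.Injective φ ∧
        (∃ p n : ℕ, ExpChar B p ∧ ∀ b : B, b ^ (p ^ n) ∈ (algebraMap A' B).range) ∧
        ∀ x : k', ∃ b s : B, φ s ≠ 0 ∧ φ s * x = φ b := by
  classical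
  obtain ⟨p, hp⟩ := ExpChar.exists K
  have hp' : ExpChar k' p := expChar_of_injective_algebraMap (algebraMap K k').injective p
  obtain ⟨T, hT⟩ := (Module.finite_def.mp (inferInstance : Module.Finite K k'))
  let N := IsPurelyInseparable.exponent K k'
  have hpow : ∀ x : k', ∃ c : K, algebraMap K k' c = x ^ (p ^ N) := fun x =>
    IsPurelyInseparable.exponent_def' K p x
  choose c hc using hpow
  obtain ⟨f, hf, hfT⟩ := exists_common_denom h1 h2 (T.image c)
  refine ⟨f, hf, ?_⟩
  intro A' _ _ _ _ _
  let alg : Algebra A' k' := ((algebraMap K k').comp (algebraMap A' K)).toAlgebra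
  have tower : IsScalarTower A' K k' := IsScalarTower.of_algebraMap_eq (fun _ => rfl)
  have hfu : IsUnit (algebraMap A A' f) := IsLocalization.Away.algebraMap_isUnit f
  have hcT : ∀ x ∈ T, ∃ a : A', algebraMap A' K a = c x := by
    intro x hx
    obtain ⟨a, ha⟩ := hfT (c x) (Finset.mem_image_of_mem c hx)
    obtain ⟨v, hv⟩ := hfu
    refine ⟨↑v⁻¹ * algebraMap A A' a, ?_⟩
    rw [map_mul, ← IsScalarTower.algebraMap_apply A A' K, ← ha, ← mul_assoc,
      IsScalarTower.algebraMap_apply A A' K f, ← hv, ← map_mul, Units.inv_mul, map_one, one_mul]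
  let B : Subalgebra A' k' := Algebra.adjoin A' (T : Set k')
  have hBpow : ∀ b ∈ B, ∃ a : A', algebraMap A' k' a = b ^ (p ^ N) := by
    intro b hb
    induction hb using Algebra.adjoin_induction with
    | mem x hx =>
      obtain ⟨a, ha⟩ := hcT x hx
      exact ⟨a, by rw [← hc x, ← ha]; rfl⟩
    | algebraMap r => exact ⟨r ^ (p ^ N), by rw [map_pow]⟩
    | add x y _ _ hx hy =>
      obtain ⟨a, ha⟩ := hx
      obtain ⟨b, hb⟩ := hy
      exact ⟨a + b, by rw [map_add, ha, hb, add_pow_expChar_pow]⟩
    | mul x y _ _ hx hy =>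
      obtain ⟨a, ha⟩ := hx
      obtain ⟨b, hb⟩ := hy
      exact ⟨a * b, by rw [map_mul, ha, hb, mul_pow]⟩
  have hfinB : Module.Finite A' B := by
    suffices hfg : (Subalgebra.toSubmodule B).FG from Module.Finite.iff_fg.mpr hfg
    refine fg_adjoin_of_finite T.finite_toSet ?_
    intro x hx
    obtain ⟨a, ha⟩ := hcT x hx
    have hp0 : 0 < p ^ N := pow_pos (expChar_pos K p) N
    refine IsIntegral.of_pow hp0 ?_
    rw [← hc x, ← ha]
    exact isIntegral_algebraMap (R := A') (A := k') (x := a)
  have hBexp : ExpChar B p := B.val.toRingHom.expChar Subtype.val_injective p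
  refine ⟨B, inferInstance, inferInstance, inferInstance, B.val.toRingHom, ?_, hfinB, Subtype.val_injective,
    ⟨p, N, hBexp, ?_⟩, ?_⟩
  · ext x
    rfl
  · intro b
    obtain ⟨a, ha⟩ := hBpow b.1 b.2
    exact ⟨a, Subtype.ext ha⟩
  · intro x
    have hx : x ∈ Submodule.span K (T : Set k') := hT ▸ Submodule.mem_top
    suffices h : ∃ b ∈ B, ∃ s : A, s ∉ nilradical A ∧ algebraMap K k' (algebraMap A K s) * x = b by
      obtain ⟨b, hb, s, hs, h⟩ := h
      refine ⟨⟨b, hb⟩, algebraMap A' B (algebraMap A A' s), ?_, ?_⟩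
      · change algebraMap K k' (algebraMap A' K (algebraMap A A' s)) ≠ 0
        rw [← IsScalarTower.algebraMap_apply A A' K]
        intro h0
        apply hs
        rw [← h1, RingHom.mem_ker]
        exact (map_eq_zero _).mp h0
      · change algebraMap K k' (algebraMap A' K (algebraMap A A' s)) * x = b
        rw [← IsScalarTower.algebraMap_apply A A' K, h]
    have hAB : ∀ a : A, algebraMap K k' (algebraMap A K a) ∈ B := by
      intro a
      rw [IsScalarTower.algebraMap_apply A A' K]
      exact B.algebraMap_mem (algebraMap A A' a)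
    have hone : (1 : A) ∉ nilradical A := by
      rw [← h1, RingHom.mem_ker, map_one]
      exact one_ne_zero
    induction hx using Submodule.span_induction with
    | mem x hx => exact ⟨x, Algebra.subset_adjoin hx, 1, hone, by simp⟩
    | zero => exact ⟨0, B.zero_mem, 1, hone, by simp⟩
    | add x y _ _ hx hy =>
      obtain ⟨b, hb, s, hs, hx⟩ := hx
      obtain ⟨d, hd, t, ht, hy⟩ := hy
      refine ⟨algebraMap K k' (algebraMap A K t) * b + algebraMap K k' (algebraMap A K s) * d,
        B.add_mem (B.mul_mem (hAB t) hb) (B.mul_mem (hAB s) hd), s * t, mul_notMem_nilradical h1 hs ht, ?_⟩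
      rw [← hx, ← hy, map_mul, map_mul]
      ring
    | smul r x _ hx =>
      obtain ⟨b, hb, s, hs, hx⟩ := hx
      obtain ⟨a, t, ht, hr⟩ := h2 r
      refine ⟨algebraMap K k' (algebraMap A K a) * b, B.mul_mem (hAB a) hb, s * t,
        mul_notMem_nilradical h1 hs ht, ?_⟩
      rw [← hx, ← hr, Algebra.smul_def, map_mul, map_mul, map_mul]
      ring

end

end Groth.Agent.Flat2E.PurInsepSpread
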