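import Groth.Agent.S0415
import Groth.Agent.Flat2E.GenPt
import Groth.Agent.Flat2E.SpreadScheme
import Groth.Agent.Flat2E.PurInsepSpread
import Mathlib.AlgebraicGeometry.Morphisms.Finite
import Mathlib.AlgebraicGeometry.Morphisms.UniversallyInjective

/-!
Spreading out a finite purely inseparable extension of the residue field at the generic point of an
irreducible scheme to a finite universal homeomorphism over a nonempty open.
-/

set_option autoImplicit false
universe u

namespace Groth.Agent.Flat2E.PurInsepScheme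

open AlgebraicGeometry CategoryTheory Limits

lemma isUnivHomeo_Spec {A B : Type u} [CommRing A] [CommRing B] [Algebra A B] [Algebra.IsIntegral A B]
    (hker : RingHom.ker (algebraMap A B) ≤ nilradical A) (p n : ℕ) [ExpChar B p]
    (h : ∀ b : B, b ^ (p ^ n) ∈ (algebraMap A B).range) :
    FlatMor.IsUnivHomeo (Spec.map (CommRingCat.ofHom (algebraMap A B))) := by
  rw [S0415.result]
  refine ⟨?_, ?_, ?_⟩
  · rw [IsIntegralHom.SpecMap_iff]
    exact algebraMap_isIntegral_iff.mpr inferInstance
  · refine ((tfae_universallyInjective (Spec.map (CommRingCat.ofHom (algebraMap A B)))).out 0 1).mpr ?_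
    intro K _ x y hxy
    obtain ⟨x, rfl⟩ := Spec.map_surjective x
    obtain ⟨y, rfl⟩ := Spec.map_surjective y
    simp only at hxy
    rw [← Spec.map_comp, ← Spec.map_comp] at hxy
    have hxy' := Spec.map_injective hxy
    congr 1
    ext b
    obtain ⟨a, ha⟩ := h b
    have h1 : x.hom (algebraMap A B a) = y.hom (algebraMap A B a) := congr($hxy' a)
    rw [ha, map_pow, map_pow] at h1
    rcases ‹ExpChar B p› with _ | hp
    · simpa using h1
    · have hK : CharP K p := by
        rw [CharP.charP_iff_prime_eq_zero hp]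
        have h2 := congr(x.hom $(CharP.cast_eq_zero B p))
        rwa [map_natCast, map_zero] at h2
      have : Fact p.Prime := ⟨hp⟩
      exact iterateFrobenius_inj K p n h1
  · constructor
    intro P
    obtain ⟨Q, -, hQ, hQ2⟩ := Ideal.exists_ideal_over_prime_of_isIntegral (R := A) (S := B) P.asIdeal ⊥
      (hker.trans (nilradical_le_prime _))
    exact ⟨⟨Q, hQ⟩, PrimeSpectrum.ext hQ2⟩

/-- main construction -/
theorem exists_spread_scheme {Y : Scheme.{u}} [IrreducibleSpace Y] (k' : Type u) [Field k'] [Algebra (Y.residueField (genericPoint Y)) k']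
    [FiniteDimensional (Y.residueField (genericPoint Y)) k'] [IsPurelyInseparable (Y.residueField (genericPoint Y)) k'] :
    ∃ (V : Y.Opens) (B : Type u) (_ : CommRing B) (_ : IsDomain B) (g : Spec (CommRingCat.of B) ⟶ (V : Scheme.{u})),
      (V : Set ↑Y).Nonempty ∧ IsFinite g ∧ FlatMor.IsUnivHomeo g ∧
      ∃ e : Spec ((Spec (CommRingCat.of B)).residueField (genericPoint (Spec (CommRingCat.of B)))) ≅ Spec (CommRingCat.of k'),
        e.hom ≫ Spec.map (CommRingCat.ofHom (algebraMap (Y.residueField (genericPoint Y)) k')) ≫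
          Y.fromSpecResidueField (genericPoint Y) =
          (Spec (CommRingCat.of B)).fromSpecResidueField (genericPoint (Spec (CommRingCat.of B))) ≫ (g ≫ V.ι) := by
  obtain ⟨_, ⟨V0, hV0, rfl⟩, hηV0, -⟩ := Y.isBasis_affineOpens.exists_subset_of_mem_open
    (Set.mem_univ (genericPoint Y)) isOpen_univ
  let : Algebra Γ(Y, V0) (Y.residueField (genericPoint Y)) := (Y.evaluation V0 (genericPoint Y) hηV0).hom.toAlgebra
  have h1 : RingHom.ker (algebraMap Γ(Y, V0) (Y.residueField (genericPoint Y))) = nilradical Γ(Y, V0) :=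
    Flat2E.GenPt.ker_evaluation_genericPoint hV0.isCompact hηV0
  obtain ⟨f0, hf0, H⟩ := Flat2E.PurInsepSpread.exists_spread (A := Γ(Y, V0)) (K := Y.residueField (genericPoint Y)) (k' := k')
    h1 (by
      intro x
      obtain ⟨a, s, hs, h⟩ := Flat2E.GenPt.exists_evaluation_mul_eq hV0 (genericPoint Y) hηV0 x
      refine ⟨a, s, ?_, h⟩
      rw [← h1, RingHom.mem_ker]
      exact hs)
  have hηV : genericPoint Y ∈ Y.basicOpen f0 := by
    rw [← Scheme.evaluation_ne_zero_iff_mem_basicOpen _ _ hηV0]
    intro h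
    apply hf0
    rw [← h1, RingHom.mem_ker]
    exact h
  have hV : IsAffineOpen (Y.basicOpen f0) := hV0.basicOpen f0
  let : Algebra Γ(Y, Y.basicOpen f0) (Y.residueField (genericPoint Y)) :=
    (Y.evaluation (Y.basicOpen f0) (genericPoint Y) hηV).hom.toAlgebra
  have : IsScalarTower Γ(Y, V0) Γ(Y, Y.basicOpen f0) (Y.residueField (genericPoint Y)) := by
    apply IsScalarTower.of_algebraMap_eq
    intro x
    change Y.evaluation V0 (genericPoint Y) hηV0 x = Y.evaluation (Y.basicOpen f0) (genericPoint Y) hηV (Y.presheaf.map _ x)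
    rw [← Scheme.germ_residue, ← Scheme.germ_residue, CommRingCat.comp_apply, CommRingCat.comp_apply, TopCat.Presheaf.germ_res_apply]
  have := hV0.isLocalization_basicOpen f0
  obtain ⟨B, _, _, _, φ, hφ, hfin, hinj, ⟨p, n, hp, hpow⟩, hfrac⟩ := H Γ(Y, Y.basicOpen f0)
  have hker2 : RingHom.ker (algebraMap Γ(Y, Y.basicOpen f0) B) ≤ nilradical Γ(Y, Y.basicOpen f0) := by
    intro x hx
    rw [← Flat2E.GenPt.ker_evaluation_genericPoint hV.isCompact hηV, RingHom.mem_ker]
    have h3 := congr($hφ x)
    rw [RingHom.comp_apply, RingHom.mem_ker.mp hx, map_zero, RingHom.comp_apply] at h3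
    exact (map_eq_zero _).mp h3.symm
  have hgen : genericPoint ↑(Spec (CommRingCat.of B)) = Flat2E.SpreadScheme.pt φ := by
    apply (genericPoint_spec ↑(Spec (CommRingCat.of B))).eq
    have h3 : closure {(⟨RingHom.ker φ, RingHom.ker_isPrime φ⟩ : PrimeSpectrum B)} = Set.univ := by
      rw [PrimeSpectrum.closure_singleton]
      simp [(RingHom.injective_iff_ker_eq_bot φ).mp hinj]
    exact h3
  have huh := isUnivHomeo_Spec hker2 p n hpow
  refine ⟨Y.basicOpen f0, B, inferInstance, inferInstance,
    Spec.map (CommRingCat.ofHom (algebraMap Γ(Y, Y.basicOpen f0) B)) ≫ hV.isoSpec.inv, ⟨_, hηV⟩, ?_, ?_, ?_⟩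
  · have h3 : IsFinite (Spec.map (CommRingCat.ofHom (algebraMap Γ(Y, Y.basicOpen f0) B))) := by
      rw [IsFinite.SpecMap_iff]
      exact RingHom.finite_algebraMap.mpr hfin
    infer_instance
  · rw [S0415.result] at huh ⊢
    obtain ⟨h3, h4, h5⟩ := huh
    exact ⟨inferInstance, MorphismProperty.comp_mem @UniversallyInjective _ _ h4 inferInstance, inferInstance⟩
  · rw [hgen]
    obtain ⟨e, he⟩ := Flat2E.SpreadScheme.exists_iso φ (by
      intro x
      obtain ⟨b, s, hs, h⟩ := hfrac x
      exact ⟨b, s, hs, h⟩)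
    refine ⟨e, ?_⟩
    rw [← he, ← Flat2E.SpreadScheme.fromSpecResidueField_eq hV (genericPoint Y) hηV]
    simp only [Category.assoc]
    congr 1
    rw [IsAffineOpen.isoSpec_inv_ι, ← Category.assoc, ← Category.assoc, ← Spec.map_comp, ← Spec.map_comp]
    congr 2
    ext x
    exact congr($hφ x).symm

end Groth.Agent.Flat2E.PurInsepScheme
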