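import Groth.Agent.S0389
import Mathlib.RingTheory.Ideal.AssociatedPrime.Finiteness
import Mathlib.RingTheory.Flat.EquationalCriterion
import Mathlib.RingTheory.Flat.TorsionFree
import Mathlib.RingTheory.Flat.FaithfullyFlat.Algebra
import Mathlib.RingTheory.Flat.Stability
import Mathlib.RingTheory.Localization.BaseChange
import Mathlib.RingTheory.Localization.Finiteness
import Mathlib.RingTheory.RingHom.FiniteType

/-!
# Associated primes of fibres near the generic point of the base (ring level)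
-/

set_option autoImplicit false
universe u

namespace Groth.Agent.Flat2E.RelAssAlg

open TensorProduct

/-- `q` is associated, in the localized (weak) sense, to the module `N ⧸ N'`. -/
def LocAss {B N : Type*} [CommRing B] [AddCommGroup N] [Module B N] (N' : Submodule B N)
    (q : Ideal B) : Prop :=
  ∃ m : N, (∀ s ∉ q, s • m ∉ N') ∧ ∀ a ∈ q, ∃ n : ℕ, ∃ s ∉ q, (s * a ^ n) • m ∈ N'

section Flat

variable {R M : Type*} [CommRing R] [AddCommGroup M] [Module R M]

/-- If `M ⧸ N'` becomes flat after inverting `f`, then `N' ∩ p M = p N'` up to powers of `f`. -/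
theorem exists_pow_smul_mem_smul (N' : Submodule R M) (f : R)
    (hflat : Module.Flat R (LocalizedModule (Submonoid.powers f) (M ⧸ N')))
    (p : Ideal R) (x : M) (hx : x ∈ N') (hxp : x ∈ p • (⊤ : Submodule R M)) :
    ∃ k : ℕ, f ^ k • x ∈ p • N' := by
  classical
  -- write `x` as a combination
  have hspan : (⊤ : Submodule R M) = Submodule.span R (Set.range (id : M → M)) := by simp
  rw [hspan, Submodule.mem_ideal_smul_span_iff_exists_sum] at hxp
  obtain ⟨c, hc, hcx⟩ := hxp
  let mk1 : M →ₗ[R] LocalizedModule (Submonoid.powers f) (M ⧸ N') :=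
    (LocalizedModule.mkLinearMap (Submonoid.powers f) (M ⧸ N')) ∘ₗ N'.mkQ
  have hsum : ∑ i : c.support, (c i : R) • mk1 (i : M) = 0 := by
    have h1 : ∑ i : c.support, (c i : R) • mk1 (i : M) = mk1 x := by
      rw [← hcx, Finsupp.sum, map_sum, ← Finset.sum_coe_sort c.support (fun i => mk1 (c i • id i))]
      simp
    rw [h1]
    have : N'.mkQ x = 0 := by simpa using hx
    simp [mk1, this]
  obtain ⟨κ, a, z, hz, ha⟩ := Module.Flat.isTrivialRelation_of_sum_smul_eq_zero hsum
  -- common denominators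
  obtain ⟨⟨_, l, rfl⟩, hb⟩ := IsLocalizedModule.exist_integer_multiples_of_finite
    (Submonoid.powers f) (LocalizedModule.mkLinearMap (Submonoid.powers f) (M ⧸ N')) z
  choose w hw using hb
  choose v hv using fun j => N'.mkQ_surjective (w j)
  -- now `f^l y_i - Σ_j a_ij v_j` vanishes after localization
  have hker : ∀ i : c.support, ∃ k : ℕ, f ^ k • (f ^ l • (i : M) - ∑ j, a i j • v j) ∈ N' := by
    intro i
    have h1 : LocalizedModule.mkLinearMap (Submonoid.powers f) (M ⧸ N')
        (N'.mkQ (f ^ l • (i : M) - ∑ j, a i j • v j)) = 0 := by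
      have h2 : mk1 (i : M) = ∑ j, a i j • z j := hz i
      rw [map_sub, map_sub, sub_eq_zero, map_sum, map_sum, map_smul, map_smul]
      change f ^ l • mk1 (i : M) = _
      rw [h2, Finset.smul_sum]
      refine Finset.sum_congr rfl fun j _ => ?_
      rw [map_smul, map_smul, hv, hw, smul_comm]
    obtain ⟨⟨_, k, rfl⟩, hk⟩ := (IsLocalizedModule.eq_zero_iff (Submonoid.powers f)
      (LocalizedModule.mkLinearMap (Submonoid.powers f) (M ⧸ N'))).mp h1
    refine ⟨k, ?_⟩
    rw [← Submodule.Quotient.mk_eq_zero]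
    exact hk
  choose k hk using hker
  -- uniform exponent
  let K : ℕ := ∑ i : c.support, k i
  have hK : ∀ i : c.support, f ^ K • (f ^ l • (i : M) - ∑ j, a i j • v j) ∈ N' := by
    intro i
    have hle : k i ≤ K := Finset.single_le_sum (fun _ _ => Nat.zero_le _) (Finset.mem_univ i)
    obtain ⟨d, hd⟩ := Nat.exists_eq_add_of_le hle
    rw [hd, pow_add, mul_comm, mul_smul]
    exact N'.smul_mem _ (hk i)
  refine ⟨K + l, ?_⟩
  have hx1 : f ^ (K + l) • x = ∑ i : c.support, (c i : R) •
      (f ^ K • (f ^ l • (i : M) - ∑ j, a i j • v j)) := by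
    have h3 : ∑ i : c.support, (c i : R) • (f ^ K • ∑ j, a i j • v j) = 0 := by
      have h4 : ∀ i : c.support, (c i : R) • (f ^ K • ∑ j, a i j • v j) =
          ∑ j, f ^ K • ((c i * a i j) • v j) := by
        intro i
        rw [smul_comm, Finset.smul_sum, Finset.smul_sum]
        refine Finset.sum_congr rfl fun j _ => ?_
        rw [smul_smul (c i : R)]
      rw [Finset.sum_congr rfl fun i _ => h4 i, Finset.sum_comm]
      refine Finset.sum_eq_zero fun j _ => ?_
      rw [← Finset.smul_sum, ← Finset.sum_smul, ha j, zero_smul, smul_zero]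
    have h5 : ∑ i : c.support, (c i : R) • (f ^ K • f ^ l • (i : M)) = f ^ (K + l) • x := by
      rw [← hcx, Finsupp.sum, ← Finset.sum_coe_sort c.support (fun i => c i • id i),
        Finset.smul_sum]
      refine Finset.sum_congr rfl fun i _ => ?_
      rw [smul_smul (f ^ K), ← pow_add, smul_comm]
      rfl
    rw [← h5]
    simp only [smul_sub, Finset.sum_sub_distrib]
    rw [h3, sub_zero]
  rw [hx1]
  exact Submodule.sum_mem _ fun i _ => Submodule.smul_mem_smul (hc i) (hK i)

theorem flat_of_free (f : R)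
    (h : Module.Free (Localization.Away f) (Localization.Away f ⊗[R] M)) :
    Module.Flat R (LocalizedModule (Submonoid.powers f) M) := by
  have h1 : Module.Flat R (Localization.Away f ⊗[R] M) :=
    Module.Flat.trans R (Localization.Away f) _
  exact Module.Flat.of_linearEquiv
    ((LocalizedModule.equivTensorProduct (Submonoid.powers f) M).restrictScalars R)

theorem exists_pow_smul_eq_zero [IsDomain R] (f : R)
    (hflat : Module.Flat R (LocalizedModule (Submonoid.powers f) M))
    {c : R} (hc : c ≠ 0) {m : M} (h : c • m = 0) : ∃ k : ℕ, f ^ k • m = 0 := by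
  have h1 : c • (LocalizedModule.mkLinearMap (Submonoid.powers f) M) m = 0 := by
    rw [← map_smul, h, map_zero]
  have h2 : (LocalizedModule.mkLinearMap (Submonoid.powers f) M) m = 0 :=
    (smul_eq_zero.mp h1).resolve_left hc
  obtain ⟨⟨_, k, rfl⟩, hk⟩ := (IsLocalizedModule.eq_zero_iff (Submonoid.powers f)
      (LocalizedModule.mkLinearMap (Submonoid.powers f) M)).mp h2
  exact ⟨k, hk⟩

end Flat

section Noeth

variable {B M : Type*} [CommRing B] [AddCommGroup M] [Module B M] (S : Submonoid B)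

theorem exists_mk (y : LocalizedModule S M) : ∃ (m : M) (t : S), LocalizedModule.mk m t = y := by
  induction y using LocalizedModule.induction_on with
  | h m t => exact ⟨m, t, rfl⟩

theorem mk_smul_eq_zero_iff (b : B) (s : S) (m : M) (t : S) :
    (Localization.mk b s) • (LocalizedModule.mk m t) = 0 ↔ ∃ c ∈ S, (c * b) • m = 0 := by
  rw [LocalizedModule.mk_smul_mk, ← LocalizedModule.zero_mk (s * t), LocalizedModule.mk_eq]
  constructor
  · rintro ⟨u, hu⟩
    refine ⟨u * (s * t), S.mul_mem u.2 (S.mul_mem s.2 t.2), ?_⟩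
    have := hu
    simp only [smul_zero] at this
    rw [mul_smul, mul_smul]
    have h2 : (u : B) • ((s * t : S) : B) • (b • m) = 0 := this
    simpa [mul_smul] using h2
  · rintro ⟨c, hc, h⟩
    refine ⟨⟨c, hc⟩, ?_⟩
    simp only [smul_zero]
    change c • ((s * t : S) : B) • (b • m) = 0
    rw [smul_comm c, ← mul_smul c, h, smul_zero]

theorem comap_prime_disjoint (Q : Ideal (Localization S)) [Q.IsPrime] {s : B} (hs : s ∈ S) :
    s ∉ Q.comap (algebraMap B (Localization S)) := by
  intro h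
  have hu : IsUnit (algebraMap B (Localization S) s) := IsLocalization.map_units _ ⟨s, hs⟩
  exact Ideal.IsPrime.ne_top (I := Q) ‹_› (Ideal.eq_top_of_isUnit_mem Q h hu)

variable [IsNoetherianRing (Localization S)]

/-- Prime avoidance: an ideal contained in no associated prime contains a regular element (up
to `S`-torsion). -/
theorem exists_mem_regular [Module.Finite B M] (I : Ideal B)
    (hI : ∀ q : Ideal B, q.IsPrime → (∀ s ∈ S, s ∉ q) → LocAss (⊥ : Submodule B M) q → ¬ I ≤ q) :
    ∃ g ∈ I, ∀ m : M, g • m = 0 → ∃ s ∈ S, s • m = 0 := by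
  have : Module.Finite (Localization S) (LocalizedModule S M) := inferInstance
  have hfin := associatedPrimes.finite (Localization S) (LocalizedModule S M)
  have key : ¬ ((I.map (algebraMap B (Localization S)) : Set (Localization S)) ⊆
      ⋃ Q ∈ associatedPrimes (Localization S) (LocalizedModule S M), (Q : Set (Localization S))) := by
    intro h
    obtain ⟨Q, hQ, hle⟩ := (Ideal.subset_union_prime_finite hfin (f := id) ⊥ ⊥
      (fun Q hQ _ _ => hQ.1)).mp h
    have hQp : Q.IsPrime := hQ.1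
    obtain ⟨-, y, hy⟩ := isAssociatedPrime_iff.mp hQ
    simp only [id] at hle
    obtain ⟨m, t, rfl⟩ := exists_mk S y
    refine hI (Q.comap (algebraMap B (Localization S))) (Ideal.comap_isPrime _ _)
      (fun s hs => comap_prime_disjoint S Q hs) ⟨m, ?_, ?_⟩ (Ideal.map_le_iff_le_comap.mp hle)
    · intro s hs h0
      apply hs
      rw [Ideal.mem_comap, hy, Submodule.mem_colon_singleton, Submodule.mem_bot,
        ← Localization.mk_one_eq_algebraMap, mk_smul_eq_zero_iff]
      refine ⟨1, S.one_mem, ?_⟩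
      rw [one_mul]
      exact h0
    · intro a ha
      rw [Ideal.mem_comap, hy, Submodule.mem_colon_singleton, Submodule.mem_bot,
        ← Localization.mk_one_eq_algebraMap, mk_smul_eq_zero_iff] at ha
      obtain ⟨c, hc, h⟩ := ha
      refine ⟨1, c, comap_prime_disjoint S Q hc, ?_⟩
      rw [pow_one, h]
      exact Submodule.zero_mem _
  rw [Set.not_subset] at key
  obtain ⟨y, hyI, hy⟩ := key
  rw [biUnion_associatedPrimes_eq_zero_divisors] at hy
  obtain ⟨⟨⟨g, hg⟩, s⟩, hgs⟩ := (IsLocalization.mem_map_algebraMap_iff S _).mp hyI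
  refine ⟨g, hg, fun m hm => ?_⟩
  by_contra hcon
  push Not at hcon
  apply hy
  refine ⟨LocalizedModule.mk m 1, ?_, ?_⟩
  · intro h0
    have h1 : (Localization.mk 1 1 : Localization S) • (LocalizedModule.mk m (1 : S)) = 0 := by
      rw [h0, smul_zero]
    rw [mk_smul_eq_zero_iff] at h1
    obtain ⟨c, hc, h⟩ := h1
    rw [mul_one] at h
    exact hcon c hc h
  · have h1 : algebraMap B (Localization S) g • (LocalizedModule.mk m (1 : S)) = 0 := by
      rw [← Localization.mk_one_eq_algebraMap, mk_smul_eq_zero_iff]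
      exact ⟨1, S.one_mem, by rw [one_mul, hm]⟩
    have hu : IsUnit (algebraMap B (Localization S) s) := IsLocalization.map_units _ s
    have h2 : algebraMap B (Localization S) s • (y • (LocalizedModule.mk m (1 : S))) = 0 := by
      rw [smul_smul, mul_comm, hgs]
      exact h1
    exact (hu.smul_eq_zero).mp h2

/-- A locally associated prime is the annihilator of an element, up to `S`-torsion. -/
theorem exists_annihilator (q : Ideal B) [hqp : q.IsPrime] (hq : ∀ s ∈ S, s ∉ q)
    (h : LocAss (⊥ : Submodule B M) q) :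
    ∃ m : M, (∀ a ∈ q, ∃ s ∈ S, (s * a) • m = 0) ∧ ∀ b : B, ∀ s ∈ S, (s * b) • m = 0 → b ∈ q := by
  obtain ⟨m₀, h1, h2⟩ := h
  have hdisj : Disjoint (S : Set B) (q : Set B) := by
    rw [Set.disjoint_left]
    exact hq
  let Q : Ideal (Localization S) := q.map (algebraMap B (Localization S))
  have hQp : Q.IsPrime := IsLocalization.isPrime_of_isPrime_disjoint S _ q hqp hdisj
  have hQc : Q.comap (algebraMap B (Localization S)) = q :=
    IsLocalization.under_map_of_isPrime_disjoint S _ hqp hdisj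
  have hmin : Q ∈ ((⊥ : Submodule (Localization S) (LocalizedModule S M)).colon
      {LocalizedModule.mk m₀ 1}).minimalPrimes := by
    refine ⟨⟨hQp, ?_⟩, ?_⟩
    · intro z hz
      induction z using Localization.induction_on with
      | H bs =>
        obtain ⟨b, s⟩ := bs
        rw [Submodule.mem_colon_singleton, Submodule.mem_bot, mk_smul_eq_zero_iff] at hz
        obtain ⟨c, hc, h⟩ := hz
        have hb : b ∈ q := by
          by_contra hb
          refine h1 (c * b) (fun hcb => ?_) (by rw [h]; exact Submodule.zero_mem _)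
          exact (hqp.mem_or_mem hcb).elim (hq c hc) hb
        rw [Localization.mk_eq_mk', IsLocalization.mk'_mem_map_algebraMap_iff S]
        exact ⟨1, S.one_mem, by rwa [one_mul]⟩
    · rintro Q' ⟨hQ'p, hle⟩ hQ'Q
      rw [Ideal.map_le_iff_le_comap]
      intro a ha
      obtain ⟨n, s, hs, h⟩ := h2 a ha
      have h3 : s * a ^ n ∈ Q'.comap (algebraMap B (Localization S)) := by
        rw [Ideal.mem_comap]
        apply hle
        rw [Submodule.mem_colon_singleton, Submodule.mem_bot,
          ← Localization.mk_one_eq_algebraMap, mk_smul_eq_zero_iff]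
        refine ⟨1, S.one_mem, ?_⟩
        rw [one_mul]
        exact h
      have hp' : (Q'.comap (algebraMap B (Localization S))).IsPrime := Ideal.comap_isPrime _ _
      have hs' : s ∉ Q'.comap (algebraMap B (Localization S)) := by
        intro h4
        apply hs
        rw [← hQc]
        exact Ideal.comap_mono hQ'Q h4
      exact hp'.mem_of_pow_mem n ((hp'.mem_or_mem h3).resolve_left hs')
  obtain ⟨y, hy⟩ := Submodule.exists_eq_colon_of_mem_minimalPrimes hmin
  obtain ⟨m, t, rfl⟩ := exists_mk S y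
  refine ⟨m, ?_, ?_⟩
  · intro a ha
    have : algebraMap B (Localization S) a ∈ Q := Ideal.mem_map_of_mem _ ha
    rw [hy, Submodule.mem_colon_singleton, Submodule.mem_bot,
        ← Localization.mk_one_eq_algebraMap, mk_smul_eq_zero_iff] at this
    exact this
  · intro b s hs hb
    rw [← hQc, Ideal.mem_comap, hy, Submodule.mem_colon_singleton, Submodule.mem_bot,
        ← Localization.mk_one_eq_algebraMap, mk_smul_eq_zero_iff]
    exact ⟨s, hs, hb⟩

end Noeth

section Domain

variable {R B M : Type u} [CommRing R] [IsDomain R] [CommRing B] [Algebra R B]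
  [Algebra.FiniteType R B]
  [AddCommGroup M] [Module B M] [Module R M] [IsScalarTower R B M] [Module.Finite B M]

variable (R B) in
theorem isNoetherianRing_loc :
    IsNoetherianRing (Localization (Algebra.algebraMapSubmonoid B (nonZeroDivisors R))) := by
  have h2 : Algebra.EssFiniteType (FractionRing R)
    (Localization (Algebra.algebraMapSubmonoid B (nonZeroDivisors R))) :=
    Algebra.EssFiniteType.of_comp R _ _
  exact Algebra.EssFiniteType.isNoetherianRing (FractionRing R) _

variable (R) in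
theorem exists_flat_quotient (N' : Submodule B M) : ∃ f : R, f ≠ 0 ∧
    Module.Flat R (LocalizedModule (Submonoid.powers f) (M ⧸ N'.restrictScalars R)) := by
  obtain ⟨f, hf, h, -⟩ := Groth.Agent.S0389.result (R := R) (S := B) (M := M ⧸ N')
  refine ⟨f, hf, flat_of_free f ?_⟩
  exact Module.Free.of_equiv (TensorProduct.AlgebraTensorModule.congr
    (LinearEquiv.refl (Localization.Away f) (Localization.Away f))
    (Submodule.Quotient.restrictScalarsEquiv R N')).symm

variable (R B M) in
include B in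
theorem exists_flat : ∃ f : R, f ≠ 0 ∧
    Module.Flat R (LocalizedModule (Submonoid.powers f) M) := by
  obtain ⟨f, hf, h, -⟩ := Groth.Agent.S0389.result (R := R) (S := B) (M := M)
  exact ⟨f, hf, flat_of_free f h⟩

omit [Algebra.FiniteType R B] in
theorem comap_eq_bot_of_disjoint (q : Ideal B)
    (hq : ∀ s ∈ Algebra.algebraMapSubmonoid B (nonZeroDivisors R), s ∉ q) :
    q.comap (algebraMap R B) = ⊥ := by
  rw [eq_bot_iff]
  intro c hc
  by_contra h0
  exact hq (algebraMap R B c) ⟨c, mem_nonZeroDivisors_of_ne_zero h0, rfl⟩ hc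

omit [Algebra.FiniteType R B] in
theorem disjoint_of_comap_eq_bot (q : Ideal B) (hq : q.comap (algebraMap R B) = ⊥) :
    ∀ s ∈ Algebra.algebraMapSubmonoid B (nonZeroDivisors R), s ∉ q := by
  rintro _ ⟨c, hc, rfl⟩ h
  have : c ∈ q.comap (algebraMap R B) := h
  rw [hq] at this
  exact nonZeroDivisors.ne_zero hc this

omit [IsDomain R] [Algebra.FiniteType R B] [Module.Finite B M] in
theorem mem_map_smul_top_iff (p : Ideal R) (x : M) :
    x ∈ p.map (algebraMap R B) • (⊤ : Submodule B M) ↔ x ∈ p • (⊤ : Submodule R M) := by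
  have := Ideal.smul_restrictScalars (S := B) p (⊤ : Submodule B M)
  rw [Submodule.restrictScalars_top] at this
  rw [← this]
  rfl

theorem exists_ne_zero_not_le (I : Ideal B)
    (hI : ∀ q : Ideal B, q.IsPrime → q.comap (algebraMap R B) = ⊥ →
      LocAss (⊥ : Submodule B M) q → ¬ I ≤ q) :
    ∃ r : R, r ≠ 0 ∧ ∀ p : Ideal R, p.IsPrime → r ∉ p → ∀ q : Ideal B, q.IsPrime →
      q.comap (algebraMap R B) = p →
        LocAss (p.map (algebraMap R B) • (⊤ : Submodule B M)) q → ¬ I ≤ q := by
  have hN := isNoetherianRing_loc R B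
  obtain ⟨g, hgI, hg⟩ := exists_mem_regular (M := M)
    (Algebra.algebraMapSubmonoid B (nonZeroDivisors R)) I
    (fun q hq hd => hI q hq (comap_eq_bot_of_disjoint q hd))
  obtain ⟨f₁, hf₁, hflat₁⟩ := exists_flat R B M
  let N' : Submodule B M := LinearMap.range (LinearMap.lsmul B M g)
  obtain ⟨f₂, hf₂, hflat₂⟩ := exists_flat_quotient R N'
  refine ⟨f₁ * f₂, mul_ne_zero hf₁ hf₂, ?_⟩
  rintro p hp hrp q hq hqp ⟨m, h1, h2⟩ hIq
  have hf₁p : f₁ ∉ p := fun h => hrp (Ideal.mul_mem_right _ _ h)
  have hf₂p : f₂ ∉ p := fun h => hrp (Ideal.mul_mem_left _ _ h)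
  have key : ∀ x : M, g • x ∈ p • (⊤ : Submodule R M) →
      ∃ t ∉ q, t • x ∈ p • (⊤ : Submodule R M) := by
    intro x hx
    obtain ⟨k, hk⟩ := exists_pow_smul_mem_smul (N'.restrictScalars R) f₂ hflat₂ p (g • x)
      ⟨x, rfl⟩ hx
    -- `p • N' = g • (p • ⊤)`
    have hN' : N'.restrictScalars R =
        (⊤ : Submodule R M).map ((LinearMap.lsmul B M g).restrictScalars R) := by
      ext y
      simp [N']
    rw [hN', ← Submodule.map_smul''] at hk
    obtain ⟨w, hw, hw'⟩ := hk
    have hw2 : g • w = f₂ ^ k • (g • x) := hw'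
    have h0 : g • (f₂ ^ k • x - w) = 0 := by
      rw [smul_sub, hw2, smul_comm g, sub_self]
    obtain ⟨_, ⟨c, hc, rfl⟩, hs⟩ := hg _ h0
    rw [algebraMap_smul] at hs
    obtain ⟨l, hl⟩ := exists_pow_smul_eq_zero f₁ hflat₁ (nonZeroDivisors.ne_zero hc) hs
    refine ⟨algebraMap R B (f₁ ^ l * f₂ ^ k), ?_, ?_⟩
    · intro h
      have h3 : f₁ ^ l * f₂ ^ k ∈ p := by
        rw [← hqp]
        exact h
      rcases hp.mem_or_mem h3 with h4 | h4
      · exact hf₁p (hp.mem_of_pow_mem _ h4)
      · exact hf₂p (hp.mem_of_pow_mem _ h4)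
    · rw [smul_sub, sub_eq_zero] at hl
      rw [algebraMap_smul, mul_smul, hl]
      exact Submodule.smul_mem _ _ hw
  have key2 : ∀ (n : ℕ) (x : M), g ^ n • x ∈ p • (⊤ : Submodule R M) →
      ∃ t ∉ q, t • x ∈ p • (⊤ : Submodule R M) := by
    intro n
    induction n with
    | zero =>
      intro x hx
      refine ⟨1, fun h => hq.ne_top ((Ideal.eq_top_iff_one _).mpr h), ?_⟩
      simpa using hx
    | succ n ih =>
      intro x hx
      rw [pow_succ, mul_smul] at hx
      obtain ⟨t, ht, htx⟩ := ih _ hx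
      rw [smul_comm] at htx
      obtain ⟨t', ht', htx'⟩ := key _ htx
      refine ⟨t' * t, fun h => (hq.mem_or_mem h).elim ht' ht, ?_⟩
      rwa [mul_smul]
  obtain ⟨n, s, hs, h3⟩ := h2 g (hIq hgI)
  rw [mem_map_smul_top_iff, mul_comm, mul_smul] at h3
  obtain ⟨t, ht, h4⟩ := key2 n _ h3
  refine h1 (t * s) (fun h => (hq.mem_or_mem h).elim ht hs) ?_
  rw [mem_map_smul_top_iff, mul_smul]
  exact h4

omit [IsDomain R] [Algebra.FiniteType R B] [Module.Finite B M] in
theorem smul_restrictScalars' (p : Ideal R) (N' : Submodule B M) (x : M) :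
    x ∈ p • N'.restrictScalars R ↔ x ∈ p.map (algebraMap R B) • N' := by
  rw [← Ideal.smul_restrictScalars (S := B) p N']
  rfl

variable (R) in
/-- Over a dense open of the base every prime is dominated by a prime containing `q₀`. -/
theorem exists_ne_zero_exists_over (q₀ : Ideal B) [q₀.IsPrime]
    (h₀ : q₀.comap (algebraMap R B) = ⊥) :
    ∃ f : R, f ≠ 0 ∧ ∀ p : Ideal R, p.IsPrime → f ∉ p →
      ∃ q : Ideal B, q.IsPrime ∧ q₀ ≤ q ∧ q.comap (algebraMap R B) = p := by
  obtain ⟨f, hf, h, -⟩ := Groth.Agent.S0389.result (R := R) (S := B) (M := B ⧸ q₀)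
  have hnt : Nontrivial (Localization.Away f ⊗[R] (B ⧸ q₀)) := by
    rw [← (LocalizedModule.equivTensorProduct (Submonoid.powers f) (B ⧸ q₀)).nontrivial_congr]
    refine ⟨LocalizedModule.mk 1 1, 0, fun h0 => ?_⟩
    rw [← LocalizedModule.zero_mk 1, LocalizedModule.mk_eq] at h0
    obtain ⟨⟨_, k, rfl⟩, hk⟩ := h0
    simp only [smul_zero, one_smul] at hk
    have hk' : f ^ k • (1 : B ⧸ q₀) = 0 := hk
    rw [← Algebra.algebraMap_eq_smul_one] at hk'
    have hk2 : Ideal.Quotient.mk q₀ (algebraMap R B (f ^ k)) = 0 := hk'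
    have : f ^ k ∈ q₀.comap (algebraMap R B) :=
      Ideal.mem_comap.mpr (Ideal.Quotient.eq_zero_iff_mem.mp hk2)
    rw [h₀, Ideal.mem_bot] at this
    exact hf (pow_eq_zero_iff (n := k) (by rintro rfl; simp at this) |>.mp this)
  refine ⟨f, hf, ?_⟩
  intro p hp hfp
  have hdisj : Disjoint (Submonoid.powers f : Set R) (p : Set R) := by
    rw [Set.disjoint_left]
    rintro _ ⟨k, rfl⟩ hk
    exact hfp (hp.mem_of_pow_mem _ hk)
  have hp' : (p.map (algebraMap R (Localization.Away f))).IsPrime :=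
    IsLocalization.isPrime_of_isPrime_disjoint (Submonoid.powers f) _ p hp hdisj
  have hpc : (p.map (algebraMap R (Localization.Away f))).comap
      (algebraMap R (Localization.Away f)) = p :=
    IsLocalization.under_map_of_isPrime_disjoint (Submonoid.powers f) _ hp hdisj
  obtain ⟨P, hP, ⟨hPover⟩⟩ := Ideal.exists_isPrime_liesOver_of_faithfullyFlat
    (B := Localization.Away f ⊗[R] (B ⧸ q₀)) (p.map (algebraMap R (Localization.Away f)))
  let φ : B →+* Localization.Away f ⊗[R] (B ⧸ q₀) :=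
    (Algebra.TensorProduct.includeRight (R := R) (A := Localization.Away f)
      (B := B ⧸ q₀)).toRingHom.comp (Ideal.Quotient.mk q₀)
  refine ⟨P.comap φ, Ideal.comap_isPrime _ _, ?_, ?_⟩
  · intro x hx
    rw [Ideal.mem_comap]
    have : φ x = 0 := by
      simp [φ, Ideal.Quotient.eq_zero_iff_mem.mpr hx]
    rw [this]
    exact P.zero_mem
  · rw [Ideal.comap_comap]
    have h1 : φ.comp (algebraMap R B) = (algebraMap (Localization.Away f)
        (Localization.Away f ⊗[R] (B ⧸ q₀))).comp (algebraMap R (Localization.Away f)) := by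
      ext r
      have h2 : φ (algebraMap R B r) = (Algebra.TensorProduct.includeRight (R := R)
        (A := Localization.Away f) (B := B ⧸ q₀)) (algebraMap R (B ⧸ q₀) r) := rfl
      rw [RingHom.comp_apply, h2, AlgHom.commutes, RingHom.comp_apply,
        ← IsScalarTower.algebraMap_apply]
    rw [h1, ← Ideal.comap_comap]
    conv_rhs => rw [← hpc, hPover]

omit [IsDomain R] [Algebra.FiniteType R B] in
theorem exists_mul_pow_mem {J q : Ideal B} (hq : q ∈ J.minimalPrimes) {a : B} (ha : a ∈ q) :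
    ∃ n : ℕ, ∃ s ∉ q, s * a ^ n ∈ J := by
  by_contra hcon
  push Not at hcon
  have hqp : q.IsPrime := hq.1.1
  have hdisj : Disjoint (J : Set B) ((q.primeCompl ⊔ Submonoid.powers a : Submonoid B) : Set B) := by
    rw [Set.disjoint_left]
    intro x hxJ hx
    obtain ⟨s, hs, _, ⟨n, rfl⟩, rfl⟩ := Submonoid.mem_sup.mp hx
    exact hcon n s hs hxJ
  obtain ⟨q', hq', hJq', hd⟩ := Ideal.exists_le_prime_disjoint J _ hdisj
  have hle : q' ≤ q := by
    intro x hx
    by_contra hxq
    exact Set.disjoint_left.mp hd hx (Submonoid.mem_sup_left hxq)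
  have : a ∈ q' := hq.2 ⟨hq', hJq'⟩ hle ha
  exact Set.disjoint_left.mp hd this (Submonoid.mem_sup_right (Submonoid.mem_powers a))

theorem exists_ne_zero_exists_locAss (q₀ : Ideal B) [hq₀ : q₀.IsPrime]
    (h₀ : q₀.comap (algebraMap R B) = ⊥) (h : LocAss (⊥ : Submodule B M) q₀) :
    ∃ r : R, r ≠ 0 ∧ ∀ p : Ideal R, p.IsPrime → r ∉ p → ∃ q : Ideal B, q.IsPrime ∧
      q₀ ≤ q ∧ q.comap (algebraMap R B) = p ∧
        LocAss (p.map (algebraMap R B) • (⊤ : Submodule B M)) q := by
  have hN := isNoetherianRing_loc R B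
  obtain ⟨m, hm1, hm2⟩ := exists_annihilator (Algebra.algebraMapSubmonoid B (nonZeroDivisors R))
    q₀ (disjoint_of_comap_eq_bot q₀ h₀) h
  obtain ⟨f₁, hf₁, hflat₁⟩ := exists_flat R B M
  let N' : Submodule B M := Submodule.span B {m}
  obtain ⟨f₂, hf₂, hflat₂⟩ := exists_flat_quotient R N'
  obtain ⟨f₃, hf₃, hover⟩ := exists_ne_zero_exists_over R q₀ h₀
  refine ⟨f₁ * f₂ * f₃, mul_ne_zero (mul_ne_zero hf₁ hf₂) hf₃, ?_⟩
  intro p hp hrp
  have hf₁p : f₁ ∉ p := fun h => hrp (Ideal.mul_mem_right _ _ (Ideal.mul_mem_right _ _ h))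
  have hf₂p : f₂ ∉ p := fun h => hrp (Ideal.mul_mem_right _ _ (Ideal.mul_mem_left _ _ h))
  have hf₃p : f₃ ∉ p := fun h => hrp (Ideal.mul_mem_left _ _ h)
  obtain ⟨q', hq', hle', hover'⟩ := hover p hp hf₃p
  -- a minimal prime over `q₀ + pB` below `q'`
  have hsup : q₀ ⊔ p.map (algebraMap R B) ≤ q' :=
    sup_le hle' (Ideal.map_le_iff_le_comap.mpr hover'.ge)
  obtain ⟨q, hqmin, hqq'⟩ := Ideal.exists_minimalPrimes_le hsup
  have hqp : q.IsPrime := hqmin.1.1
  have hover'' : q.comap (algebraMap R B) = p := by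
    apply le_antisymm
    · rw [← hover']
      exact Ideal.comap_mono hqq'
    · exact Ideal.map_le_iff_le_comap.mp (le_sup_right.trans hqmin.1.2)
  have hnot : ∀ c : R, c ∉ p → algebraMap R B c ∉ q := by
    intro c hc h
    apply hc
    rw [← hover'']
    exact h
  have hnotpow : ∀ (f : R) (k : ℕ), f ∉ p → algebraMap R B (f ^ k) ∉ q :=
    fun f k hf => hnot _ fun h => hf (hp.mem_of_pow_mem _ h)
  refine ⟨q, hqp, le_sup_left.trans hqmin.1.2, hover'', m, ?_, ?_⟩
  · intro s hs hsm
    rw [mem_map_smul_top_iff] at hsm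
    obtain ⟨k, hk⟩ := exists_pow_smul_mem_smul (N'.restrictScalars R) f₂ hflat₂ p (s • m)
      (Submodule.smul_mem _ s (Submodule.mem_span_singleton_self m)) hsm
    rw [smul_restrictScalars'] at hk
    obtain ⟨y, hy, hy'⟩ := Submodule.mem_smul_span_singleton.mp hk
    have h1 : (1 * (algebraMap R B (f₂ ^ k) * s - y)) • m = 0 := by
      rw [one_mul, sub_smul, hy', mul_smul, algebraMap_smul, sub_self]
    have h2 := hm2 _ 1 (Submonoid.one_mem _) h1
    have h3 : algebraMap R B (f₂ ^ k) * s ∈ q := by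
      have h4 : y ∈ q := hqmin.1.2 (Ideal.mem_sup_right hy)
      have h5 := q.add_mem (hqmin.1.2 (Ideal.mem_sup_left h2)) h4
      rwa [sub_add_cancel] at h5
    exact (hqp.mem_or_mem h3).elim (hnotpow f₂ k hf₂p) hs
  · intro a ha
    obtain ⟨n, s, hs, hsa⟩ := exists_mul_pow_mem hqmin ha
    obtain ⟨u, hu, v, hv, huv⟩ := Submodule.mem_sup.mp hsa
    obtain ⟨_, ⟨c, hc, rfl⟩, h1⟩ := hm1 u hu
    rw [mul_smul, algebraMap_smul] at h1
    obtain ⟨k, hk⟩ := exists_pow_smul_eq_zero f₁ hflat₁ (nonZeroDivisors.ne_zero hc) h1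
    refine ⟨n, algebraMap R B (f₁ ^ k) * s,
      fun h => (hqp.mem_or_mem h).elim (hnotpow f₁ k hf₁p) hs, ?_⟩
    rw [mul_assoc, ← huv, mul_add, add_smul, mul_smul, mul_smul, algebraMap_smul, hk, zero_add]
    exact Submodule.smul_mem _ _ (Submodule.smul_mem_smul hv Submodule.mem_top)

end Domain

section Transfer

theorem locAss_comap_iff {B B' M M' : Type*} [CommRing B] [CommRing B'] [AddCommGroup M]
    [AddCommGroup M'] [Module B M] [Module B' M'] (φ : B →+* B') (hφ : Function.Surjective φ)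
    (ψ : M →+ M') (hψ : Function.Surjective ψ) (hlin : ∀ b m, ψ (b • m) = φ b • ψ m)
    (N : Submodule B M) (N' : Submodule B' M') (hN : ∀ m, m ∈ N ↔ ψ m ∈ N') (q' : Ideal B') :
    LocAss N (q'.comap φ) ↔ LocAss N' q' := by
  constructor
  · rintro ⟨m, h1, h2⟩
    refine ⟨ψ m, ?_, ?_⟩
    · intro s hs h
      obtain ⟨s, rfl⟩ := hφ s
      rw [← hlin, ← hN] at h
      exact h1 s hs h
    · intro a ha
      obtain ⟨a, rfl⟩ := hφ a
      obtain ⟨n, s, hs, h⟩ := h2 a ha
      refine ⟨n, φ s, hs, ?_⟩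
      rw [← map_pow, ← map_mul, ← hlin, ← hN]
      exact h
  · rintro ⟨m, h1, h2⟩
    obtain ⟨m, rfl⟩ := hψ m
    refine ⟨m, ?_, ?_⟩
    · intro s hs h
      rw [hN, hlin] at h
      exact h1 _ hs h
    · intro a ha
      obtain ⟨n, s, hs, h⟩ := h2 (φ a) ha
      obtain ⟨s, rfl⟩ := hφ s
      refine ⟨n, s, hs, ?_⟩
      rw [← map_pow, ← map_mul, ← hlin, ← hN] at h
      exact h

end Transfer

section Prime

theorem mk_mem_smul_iff {B M : Type*} [CommRing B] [AddCommGroup M] [Module B M]
    (J I : Ideal B) (hJ : J ≤ I) (m : M) :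
    m ∈ I • (⊤ : Submodule B M) ↔
      (Submodule.Quotient.mk m : M ⧸ J • (⊤ : Submodule B M)) ∈
        I.map (Ideal.Quotient.mk J) • (⊤ : Submodule (B ⧸ J) (M ⧸ J • (⊤ : Submodule B M))) := by
  constructor
  · intro h
    induction h using Submodule.smul_induction_on' with
    | smul r hr n _ =>
      have : (Submodule.Quotient.mk (r • n) : M ⧸ J • (⊤ : Submodule B M)) =
          (Ideal.Quotient.mk J r) • Submodule.Quotient.mk n := rfl
      rw [this]
      exact Submodule.smul_mem_smul (Ideal.mem_map_of_mem _ hr) Submodule.mem_top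
    | add x _ y _ hx hy =>
      rw [Submodule.Quotient.mk_add]
      exact Submodule.add_mem _ hx hy
  · intro h
    have key : ∀ y ∈ I.map (Ideal.Quotient.mk J) •
        (⊤ : Submodule (B ⧸ J) (M ⧸ J • (⊤ : Submodule B M))),
        ∃ m' ∈ I • (⊤ : Submodule B M), Submodule.Quotient.mk m' = y := by
      intro y hy
      induction hy using Submodule.smul_induction_on' with
      | smul r hr n _ =>
        obtain ⟨i, hi, rfl⟩ := (Ideal.mem_map_iff_of_surjective _
          Ideal.Quotient.mk_surjective).mp hr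
        obtain ⟨n, rfl⟩ := Submodule.Quotient.mk_surjective _ n
        exact ⟨i • n, Submodule.smul_mem_smul hi Submodule.mem_top, rfl⟩
      | add x _ y _ hx hy =>
        obtain ⟨m₁, h1, rfl⟩ := hx
        obtain ⟨m₂, h2, rfl⟩ := hy
        exact ⟨m₁ + m₂, Submodule.add_mem _ h1 h2, rfl⟩
    obtain ⟨m', hm', h'⟩ := key _ h
    rw [Submodule.Quotient.eq] at h'
    have h3 : m' - m ∈ I • (⊤ : Submodule B M) := Submodule.smul_mono_left hJ h'
    have h4 := Submodule.sub_mem _ hm' h3
    rwa [sub_sub_cancel] at h4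

variable {A B M : Type u} [CommRing A] [CommRing B] [Algebra A B] [AddCommGroup M] [Module B M]
  (p₀ : Ideal A)

variable (B) in
/-- the quotient ring `B ⧸ p₀ B` -/
abbrev QB : Type u := B ⧸ p₀.map (algebraMap A B)

variable (B M) in
/-- the quotient module `M ⧸ p₀ M` -/
abbrev QM : Type u := M ⧸ (p₀.map (algebraMap A B) • (⊤ : Submodule B M))

variable (B) in
theorem map_map_eq (p : Ideal A) : (p.map (Ideal.Quotient.mk p₀)).map (algebraMap (A ⧸ p₀) (QB B p₀)) =
    (p.map (algebraMap A B)).map (Ideal.Quotient.mk (p₀.map (algebraMap A B))) := by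
  rw [Ideal.map_map, Ideal.map_map]
  rfl

theorem mk_mem_iff {p : Ideal A} (hp : p₀ ≤ p) (m : M) :
    m ∈ p.map (algebraMap A B) • (⊤ : Submodule B M) ↔
      (Submodule.Quotient.mk m : QM B M p₀) ∈
        (p.map (Ideal.Quotient.mk p₀)).map (algebraMap (A ⧸ p₀) (QB B p₀)) •
          (⊤ : Submodule (QB B p₀) (QM B M p₀)) := by
  rw [map_map_eq]
  exact mk_mem_smul_iff _ _ (Ideal.map_mono hp) m

theorem locAss_quotient_iff {p : Ideal A} (hp : p₀ ≤ p) (q' : Ideal (QB B p₀)) :
    LocAss (p.map (algebraMap A B) • (⊤ : Submodule B M))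
      (q'.comap (Ideal.Quotient.mk (p₀.map (algebraMap A B)))) ↔
    LocAss ((p.map (Ideal.Quotient.mk p₀)).map (algebraMap (A ⧸ p₀) (QB B p₀)) •
          (⊤ : Submodule (QB B p₀) (QM B M p₀))) q' :=
  locAss_comap_iff _ Ideal.Quotient.mk_surjective
    (Submodule.mkQ _).toAddMonoidHom (Submodule.mkQ_surjective _) (fun _ _ => rfl) _ _
    (mk_mem_iff p₀ hp) q'

theorem comap_comap_eq (q' : Ideal (QB B p₀)) :
    (q'.comap (Ideal.Quotient.mk (p₀.map (algebraMap A B)))).comap (algebraMap A B) =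
      (q'.comap (algebraMap (A ⧸ p₀) (QB B p₀))).comap (Ideal.Quotient.mk p₀) := by
  rw [Ideal.comap_comap, Ideal.comap_comap]
  rfl

theorem exists_notMem_not_le [hp₀ : p₀.IsPrime] [Algebra.FiniteType A B] [Module.Finite B M]
    (I : Ideal B)
    (hI : ∀ q : Ideal B, q.IsPrime → q.comap (algebraMap A B) = p₀ →
      LocAss (p₀.map (algebraMap A B) • (⊤ : Submodule B M)) q → ¬ I ≤ q) :
    ∃ r : A, r ∉ p₀ ∧ ∀ p : Ideal A, p.IsPrime → p₀ ≤ p → r ∉ p → ∀ q : Ideal B, q.IsPrime →
      q.comap (algebraMap A B) = p →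
        LocAss (p.map (algebraMap A B) • (⊤ : Submodule B M)) q → ¬ I ≤ q := by
  let π := Ideal.Quotient.mk p₀
  let ρ := Ideal.Quotient.mk (p₀.map (algebraMap A B))
  let : Module (A ⧸ p₀) (QM B M p₀) := Module.compHom _ (algebraMap (A ⧸ p₀) (QB B p₀))
  have : IsScalarTower (A ⧸ p₀) (QB B p₀) (QM B M p₀) :=
    IsScalarTower.of_algebraMap_smul fun r x => rfl
  have : Algebra.FiniteType A (QB B p₀) := inferInstance
  have : Algebra.FiniteType (A ⧸ p₀) (QB B p₀) := .of_restrictScalars_finiteType A _ _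
  have : Module.Finite B (QM B M p₀) := inferInstance
  have : Module.Finite (QB B p₀) (QM B M p₀) := .of_restrictScalars_finite B _ _
  obtain ⟨r, hr, h⟩ := exists_ne_zero_not_le (R := A ⧸ p₀) (B := QB B p₀) (M := QM B M p₀)
    (I.map ρ) (by
      intro q' hq' hq'0 hass hle
      refine hI (q'.comap ρ) (Ideal.comap_isPrime _ _) ?_ ?_ (Ideal.map_le_iff_le_comap.mp hle)
      · rw [comap_comap_eq, hq'0]
        exact Ideal.mk_ker
      · rw [locAss_quotient_iff p₀ le_rfl]
        have : p₀.map (Ideal.Quotient.mk p₀) = ⊥ := Ideal.map_quotient_self p₀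
        rw [this, Ideal.map_bot, Submodule.bot_smul]
        exact hass)
  obtain ⟨r, rfl⟩ := Ideal.Quotient.mk_surjective r
  refine ⟨r, fun h => hr (Ideal.Quotient.eq_zero_iff_mem.mpr h), ?_⟩
  intro p hp hle hrp q hq hqp hass hIq
  have hker : p₀.map (algebraMap A B) ≤ q := Ideal.map_le_iff_le_comap.mpr (hle.trans hqp.ge)
  have hqc : (q.map ρ).comap ρ = q := by
    rw [Ideal.comap_map_of_surjective _ Ideal.Quotient.mk_surjective, sup_eq_left,
      ← RingHom.ker_eq_comap_bot, Ideal.mk_ker]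
    exact hker
  have hpc : (p.map π).comap π = p := by
    rw [Ideal.comap_map_of_surjective _ Ideal.Quotient.mk_surjective, sup_eq_left,
      ← RingHom.ker_eq_comap_bot, Ideal.mk_ker]
    exact hle
  have hq' : (q.map ρ).IsPrime := Ideal.map_isPrime_of_surjective
    Ideal.Quotient.mk_surjective (by rw [Ideal.mk_ker]; exact hker)
  have hp' : (p.map π).IsPrime := Ideal.map_isPrime_of_surjective
    Ideal.Quotient.mk_surjective (by rw [Ideal.mk_ker]; exact hle)
  refine h (p.map π) hp' ?_ (q.map ρ) hq' ?_ ?_ (Ideal.map_mono hIq)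
  · intro h1
    apply hrp
    rw [← hpc]
    exact h1
  · apply Ideal.comap_injective_of_surjective π Ideal.Quotient.mk_surjective
    rw [← comap_comap_eq, hqc, hqp, hpc]
  · rw [← locAss_quotient_iff p₀ hle]
    change LocAss _ ((q.map ρ).comap ρ)
    rw [hqc]
    exact hass

theorem exists_notMem_exists_locAss [hp₀ : p₀.IsPrime] [Algebra.FiniteType A B]
    [Module.Finite B M] (q₀ : Ideal B) [hq₀ : q₀.IsPrime]
    (h₀ : q₀.comap (algebraMap A B) = p₀)
    (h : LocAss (p₀.map (algebraMap A B) • (⊤ : Submodule B M)) q₀) :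
    ∃ r : A, r ∉ p₀ ∧ ∀ p : Ideal A, p.IsPrime → p₀ ≤ p → r ∉ p → ∃ q : Ideal B, q.IsPrime ∧
      q₀ ≤ q ∧ q.comap (algebraMap A B) = p ∧
        LocAss (p.map (algebraMap A B) • (⊤ : Submodule B M)) q := by
  let π := Ideal.Quotient.mk p₀
  let ρ := Ideal.Quotient.mk (p₀.map (algebraMap A B))
  let : Module (A ⧸ p₀) (QM B M p₀) := Module.compHom _ (algebraMap (A ⧸ p₀) (QB B p₀))
  have : IsScalarTower (A ⧸ p₀) (QB B p₀) (QM B M p₀) :=
    IsScalarTower.of_algebraMap_smul fun r x => rfl
  have : Algebra.FiniteType A (QB B p₀) := inferInstance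
  have : Algebra.FiniteType (A ⧸ p₀) (QB B p₀) := .of_restrictScalars_finiteType A _ _
  have : Module.Finite B (QM B M p₀) := inferInstance
  have : Module.Finite (QB B p₀) (QM B M p₀) := .of_restrictScalars_finite B _ _
  have hker : p₀.map (algebraMap A B) ≤ q₀ := Ideal.map_le_iff_le_comap.mpr h₀.ge
  have hqc : (q₀.map ρ).comap ρ = q₀ := by
    rw [Ideal.comap_map_of_surjective _ Ideal.Quotient.mk_surjective, sup_eq_left,
      ← RingHom.ker_eq_comap_bot, Ideal.mk_ker]
    exact hker
  have hq' : (q₀.map ρ).IsPrime := Ideal.map_isPrime_of_surjective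
    Ideal.Quotient.mk_surjective (by rw [Ideal.mk_ker]; exact hker)
  obtain ⟨r, hr, h⟩ := exists_ne_zero_exists_locAss (R := A ⧸ p₀) (B := QB B p₀)
    (M := QM B M p₀) (q₀.map ρ) (by
      apply Ideal.comap_injective_of_surjective π Ideal.Quotient.mk_surjective
      rw [← comap_comap_eq, hqc, h₀]
      exact Ideal.mk_ker.symm) (by
      have h5 : LocAss (p₀.map (algebraMap A B) • (⊤ : Submodule B M)) ((q₀.map ρ).comap ρ) := by
        rw [hqc]
        exact h
      rw [locAss_quotient_iff p₀ le_rfl] at h5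
      have h6 : p₀.map (Ideal.Quotient.mk p₀) = ⊥ := Ideal.map_quotient_self p₀
      rw [h6, Ideal.map_bot, Submodule.bot_smul] at h5
      exact h5)
  obtain ⟨r, rfl⟩ := Ideal.Quotient.mk_surjective r
  refine ⟨r, fun h => hr (Ideal.Quotient.eq_zero_iff_mem.mpr h), ?_⟩
  intro p hp hle hrp
  have hpc : (p.map π).comap π = p := by
    rw [Ideal.comap_map_of_surjective _ Ideal.Quotient.mk_surjective, sup_eq_left,
      ← RingHom.ker_eq_comap_bot, Ideal.mk_ker]
    exact hle
  have hp' : (p.map π).IsPrime := Ideal.map_isPrime_of_surjective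
    Ideal.Quotient.mk_surjective (by rw [Ideal.mk_ker]; exact hle)
  obtain ⟨q', hq'1, hq'2, hq'3, hq'4⟩ := h (p.map π) hp' (by
    intro h1
    apply hrp
    rw [← hpc]
    exact h1)
  refine ⟨q'.comap ρ, Ideal.comap_isPrime _ _, ?_, ?_, ?_⟩
  · rw [← hqc]
    exact Ideal.comap_mono hq'2
  · rw [comap_comap_eq, hq'3]
    exact hpc
  · rw [locAss_quotient_iff p₀ hle]
    exact hq'4

end Prime

end Groth.Agent.Flat2E.RelAssAlg
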