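import Groth.Agent.Flat2E.RelAssSch
import Groth.Agent.Flat2E.FibAssCons
import Groth.Agent.Desc.FPSections

/-!
# Constructibility of the locus where the relative assassin meets an open (scheme level, on charts)
-/

set_option autoImplicit false
universe u

namespace Groth.Agent.Flat2E.RelAssCons

open Groth.Agent.Flat2E.RelAssAlg Groth.Agent.Flat2E.FibInj Groth.Agent.Flat2E.FibAss
  Groth.Agent.Flat2E.FibAssCons Groth.Agent.Flat2E.RelAssSch Topology AlgebraicGeometry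
  CategoryTheory

variable {X S : Scheme.{u}} {U : X.Opens}

theorem exists_finset_mem_iff (hU : IsAffineOpen U) (T : X.Opens)
    (hT : IsCompact ((T ⊓ U : X.Opens) : Set X)) :
    ∃ t : Finset Γ(X, U), ∀ (x : X) (hx : x ∈ U),
      x ∈ T ↔ ∃ g ∈ t, g ∉ (hU.primeIdealOf ⟨x, hx⟩).asIdeal := by
  have h1 : IsCompact ((hU.fromSpec ⁻¹ᵁ T : (Spec Γ(X, U)).Opens) : Set (Spec Γ(X, U))) := by
    have h2 : ((hU.fromSpec ⁻¹ᵁ T : (Spec Γ(X, U)).Opens) : Set (Spec Γ(X, U))) =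
        hU.fromSpec ⁻¹' ((T ⊓ U : X.Opens) : Set X) := by
      ext z
      have hz : hU.fromSpec z ∈ U := by
        have : hU.fromSpec z ∈ Set.range hU.fromSpec := ⟨z, rfl⟩
        rw [hU.range_fromSpec] at this
        exact this
      change hU.fromSpec z ∈ T ↔ hU.fromSpec z ∈ T ∧ hU.fromSpec z ∈ U
      exact ⟨fun h => ⟨h, hz⟩, fun h => h.1⟩
    rw [h2]
    refine hU.fromSpec.isOpenEmbedding.isInducing.isCompact_preimage' hT ?_
    rw [hU.range_fromSpec]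
    exact fun x hx => hx.2
  obtain ⟨t, ht⟩ := PrimeSpectrum.isCompact_isOpen_iff.mp ⟨h1, (hU.fromSpec ⁻¹ᵁ T).isOpen⟩
  refine ⟨t, fun x hx => ?_⟩
  have h1 : x ∈ T ↔ hU.primeIdealOf ⟨x, hx⟩ ∈ (PrimeSpectrum.zeroLocus (t : Set Γ(X, U)))ᶜ := by
    rw [ht]
    change x ∈ T ↔ hU.fromSpec (hU.primeIdealOf ⟨x, hx⟩) ∈ T
    rw [hU.fromSpec_primeIdealOf]
  rw [h1, Set.mem_compl_iff, PrimeSpectrum.mem_zeroLocus, Set.not_subset]
  rfl

variable (f : X ⟶ S) (F : X.Modules)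

/-- `Γ(F, U)` as a module over `Γ(S, W)`. -/
noncomputable abbrev baseModule {W : S.Opens} (e : U ≤ f ⁻¹ᵁ W) : Module Γ(S, W) Γ(F, U) :=
  Module.compHom _ (f.appLE W U e).hom

theorem exists_locus_chart [LocallyOfFinitePresentation f] (hF : Coh.IsQCoh F)
    (hFp : CohB1.IsFP F) (hU : IsAffineOpen U) {W : S.Opens} (hW : IsAffineOpen W)
    (e : U ≤ f ⁻¹ᵁ W) (T : X.Opens) (hT : IsCompact ((T ⊓ U : X.Opens) : Set X)) :
    ∃ E : Set (PrimeSpectrum Γ(S, W)), IsConstructible E ∧ ∀ (s : S) (hs : s ∈ W),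
      hW.primeIdealOf ⟨s, hs⟩ ∈ E ↔ ∀ x ∈ MoreMor.relAss f F, x ∈ U → f x = s → x ∈ T := by
  obtain ⟨t, ht⟩ := exists_finset_mem_iff hU T hT
  let : Algebra Γ(S, W) Γ(X, U) := (f.appLE W U e).hom.toAlgebra
  let : Module Γ(S, W) Γ(F, U) := baseModule f F e
  have : IsScalarTower Γ(S, W) Γ(X, U) Γ(F, U) := IsScalarTower.of_algebraMap_smul fun r x => rfl
  have : Algebra.FinitePresentation Γ(S, W) Γ(X, U) := f.finitePresentation_appLE hW hU e
  have : Module.FinitePresentation Γ(X, U) Γ(F, U) :=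
    Groth.Agent.Desc.FPSections.finitePresentation_sections hU hF hFp
  refine ⟨locus Γ(S, W) Γ(F, U) (fun g : t => (g : Γ(X, U))), isConstructible_locus _, ?_⟩
  intro s hs
  change FInj (mulFam Γ(S, W) Γ(F, U) (fun g : t => (g : Γ(X, U))))
    (hW.primeIdealOf ⟨s, hs⟩).asIdeal ↔ _
  rw [fInj_mulFam_iff]
  constructor
  · intro H x hxr hx hfx
    subst hfx
    rw [mem_relAss_iff f F hU hW e x hx hF] at hxr
    obtain ⟨g, hg⟩ := H (hU.primeIdealOf ⟨x, hx⟩).asIdeal inferInstance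
      (congr_arg PrimeSpectrum.asIdeal
        (IsAffineOpen.comap_primeIdealOf_appLE W hW U hU e hx)) hxr
    exact (ht x hx).mpr ⟨g, g.2, hg⟩
  · intro H q hq hqp hass
    obtain ⟨hx, hxq⟩ := primeIdealOf_fromSpec hU ⟨q, hq⟩
    set x := hU.fromSpec ⟨q, hq⟩ with hxdef
    have hfx : hW.primeIdealOf ⟨f x, e hx⟩ = hW.primeIdealOf ⟨s, hs⟩ := by
      rw [← IsAffineOpen.comap_primeIdealOf_appLE W hW U hU e hx, hxq]
      exact PrimeSpectrum.ext hqp
    have hfx' : f x = s := congr_arg Subtype.val (primeIdealOf_injective hW hfx)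
    have hxr : x ∈ MoreMor.relAss f F := by
      rw [mem_relAss_iff f F hU hW e x hx hF, hxq, hfx]
      exact hass
    obtain ⟨g, hgt, hg⟩ := (ht x hx).mp (H x hxr hx hfx')
    rw [hxq] at hg
    exact ⟨⟨g, hgt⟩, hg⟩

theorem isOpenEmbedding_primeIdealOf {W : S.Opens} (hW : IsAffineOpen W) :
    IsOpenEmbedding (hW.primeIdealOf : W → PrimeSpectrum Γ(S, W)) :=
  (Scheme.homeoOfIso hW.isoSpec).isOpenEmbedding

end Groth.Agent.Flat2E.RelAssCons
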