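import Groth.Agent.Flat2E.RelAssAlg
import Groth.Agent.Fdesc.QCohStalk
import Groth.Agent.CohqB.FiniteType2
import Groth.Prelude.Def_MoreMor

/-!
# The relative assassin in terms of affine charts
-/

set_option autoImplicit false
universe u

namespace Groth.Agent.Flat2E.RelAssSch

open Groth.Agent.Flat2E.RelAssAlg

section Alg

variable {B O M St : Type*} [CommRing B] [CommRing O] [Algebra B O] [AddCommGroup M] [Module B M]
  [AddCommGroup St] [Module B St] [Module O St] [IsScalarTower B O St]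
  (q : Ideal B) [q.IsPrime] [IsLocalization.AtPrime O q] (g : M →ₗ[B] St)
  [IsLocalizedModule q.primeCompl g] (P : Ideal B)

include q in
theorem exists_of_mem_smul (y : St)
    (hy : y ∈ P.map (algebraMap B O) • (⊤ : Submodule O St)) :
    ∃ m ∈ P • (⊤ : Submodule B M), ∃ s ∉ q, s • y = g m := by
  induction hy using Submodule.smul_induction_on' with
  | smul r hr n _ =>
    obtain ⟨⟨⟨a, ha⟩, t⟩, hat⟩ := (IsLocalization.mem_map_algebraMap_iff q.primeCompl O).mp hr
    obtain ⟨⟨m₁, s₁⟩, hs₁⟩ := IsLocalizedModule.surj q.primeCompl g n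
    refine ⟨a • m₁, Submodule.smul_mem_smul ha Submodule.mem_top, t * s₁,
      (t * s₁).2, ?_⟩
    have h1 : (s₁ : B) • n = g m₁ := hs₁
    simp only at hat
    rw [map_smul, ← h1, ← algebraMap_smul O a, ← hat, mul_smul, ← algebraMap_smul O (t : B),
      smul_comm (s₁ : B) r n, smul_smul, mul_comm]
  | add x _ y _ hx hy =>
    obtain ⟨m₁, h1, s₁, hs₁, e₁⟩ := hx
    obtain ⟨m₂, h2, s₂, hs₂, e₂⟩ := hy
    refine ⟨s₂ • m₁ + s₁ • m₂, Submodule.add_mem _ (Submodule.smul_mem _ _ h1)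
      (Submodule.smul_mem _ _ h2), s₁ * s₂, ?_, ?_⟩
    · exact q.primeCompl.mul_mem hs₁ hs₂
    · rw [map_add, map_smul, map_smul, ← e₁, ← e₂, smul_add, smul_smul, smul_smul, mul_comm s₂ s₁]

include q in
theorem map_mem_smul_iff (m : M) :
    g m ∈ P.map (algebraMap B O) • (⊤ : Submodule O St) ↔
      ∃ s ∉ q, s • m ∈ P • (⊤ : Submodule B M) := by
  constructor
  · intro h
    obtain ⟨m', hm', s, hs, e⟩ := exists_of_mem_smul q g P _ h
    rw [← map_smul] at e
    obtain ⟨c, hc⟩ := (IsLocalizedModule.eq_iff_exists q.primeCompl g).mp e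
    refine ⟨c * s, q.primeCompl.mul_mem c.2 hs, ?_⟩
    rw [mul_smul]
    have : (c : B) • s • m = (c : B) • m' := hc
    rw [this]
    exact Submodule.smul_mem _ _ hm'
  · rintro ⟨s, hs, h⟩
    have h1 : ∀ n ∈ P • (⊤ : Submodule B M),
        g n ∈ P.map (algebraMap B O) • (⊤ : Submodule O St) := by
      intro n hn
      induction hn using Submodule.smul_induction_on' with
      | smul r hr n _ =>
        rw [map_smul, ← algebraMap_smul O r (g n)]
        exact Submodule.smul_mem_smul (Ideal.mem_map_of_mem _ hr) Submodule.mem_top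
      | add x _ y _ hx hy =>
        rw [map_add]
        exact Submodule.add_mem _ hx hy
    have h2 := h1 _ h
    rw [map_smul, ← algebraMap_smul O s (g m)] at h2
    have hu : IsUnit (algebraMap B O s) := IsLocalization.map_units O (⟨s, hs⟩ : q.primeCompl)
    exact (Submodule.smul_mem_iff_of_isUnit _ hu).mp h2

include g in
theorem isAssociatedPrime_iff_locAss [IsLocalRing O] :
    IsAssociatedPrime (IsLocalRing.maximalIdeal O)
      (St ⧸ P.map (algebraMap B O) • (⊤ : Submodule O St)) ↔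
    LocAss (P • (⊤ : Submodule B M)) q := by
  constructor
  · rintro ⟨-, y, hy⟩
    obtain ⟨t, rfl⟩ := Submodule.Quotient.mk_surjective _ y
    obtain ⟨⟨m₁, s₁⟩, hs₁⟩ := IsLocalizedModule.surj q.primeCompl g t
    have h1 : (s₁ : B) • t = g m₁ := hs₁
    refine ⟨m₁, ?_, ?_⟩
    · intro s hs hsm
      have h2 : g m₁ ∈ P.map (algebraMap B O) • (⊤ : Submodule O St) :=
        (map_mem_smul_iff q g P m₁).mpr ⟨s, hs, hsm⟩
      rw [← h1, ← algebraMap_smul O (s₁ : B) t] at h2
      have hu : IsUnit (algebraMap B O s₁) := IsLocalization.map_units O s₁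
      have h3 := (Submodule.smul_mem_iff_of_isUnit _ hu).mp h2
      have h4 : (Submodule.Quotient.mk t :
        St ⧸ P.map (algebraMap B O) • (⊤ : Submodule O St)) = 0 :=
        (Submodule.Quotient.mk_eq_zero _).mpr h3
      rw [h4] at hy
      apply Ideal.IsPrime.ne_top (I := IsLocalRing.maximalIdeal O) inferInstance
      rw [hy]
      simp
    · intro a ha
      have h2 : algebraMap B O a ∈ IsLocalRing.maximalIdeal O :=
        (IsLocalization.AtPrime.to_map_mem_maximal_iff O q a).mpr ha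
      rw [hy, Ideal.mem_radical_iff] at h2
      obtain ⟨n, hn⟩ := h2
      rw [Submodule.mem_colon_singleton, Submodule.mem_bot, ← Submodule.Quotient.mk_smul,
        Submodule.Quotient.mk_eq_zero] at hn
      have h3 : g (a ^ n • m₁) ∈ P.map (algebraMap B O) • (⊤ : Submodule O St) := by
        rw [map_smul, ← h1, smul_comm, ← algebraMap_smul O (a ^ n) t,
          ← algebraMap_smul O (s₁ : B) _, map_pow]
        exact Submodule.smul_mem _ _ hn
      obtain ⟨s, hs, h4⟩ := (map_mem_smul_iff q g P _).mp h3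
      refine ⟨n, s, hs, ?_⟩
      rwa [mul_smul]
  · rintro ⟨m, h1, h2⟩
    refine ⟨inferInstance, Submodule.Quotient.mk (g m), le_antisymm ?_ ?_⟩
    · intro r hr
      obtain ⟨a, s, rfl⟩ := IsLocalization.exists_mk'_eq q.primeCompl r
      have ha : a ∈ q := (IsLocalization.AtPrime.mk'_mem_maximal_iff O q a s).mp hr
      obtain ⟨n, s', hs', h⟩ := h2 a ha
      rw [Ideal.mem_radical_iff]
      refine ⟨n, ?_⟩
      rw [Submodule.mem_colon_singleton, Submodule.mem_bot, ← Submodule.Quotient.mk_smul,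
        Submodule.Quotient.mk_eq_zero]
      have h3 : g (a ^ n • m) ∈ P.map (algebraMap B O) • (⊤ : Submodule O St) := by
        rw [map_mem_smul_iff q g P]
        exact ⟨s', hs', by rwa [← mul_smul]⟩
      rw [map_smul, ← algebraMap_smul O (a ^ n) (g m), map_pow] at h3
      have hu : IsUnit ((algebraMap B O s) ^ n) := (IsLocalization.map_units O s).pow n
      rw [← Submodule.smul_mem_iff_of_isUnit _ hu, smul_smul, ← mul_pow,
        IsLocalization.mk'_spec']
      exact h3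
    · apply IsLocalRing.le_maximalIdeal
      intro htop
      rw [Ideal.radical_eq_top, Ideal.eq_top_iff_one, Submodule.mem_colon_singleton,
        one_smul, Submodule.mem_bot, Submodule.Quotient.mk_eq_zero,
        map_mem_smul_iff q g P] at htop
      obtain ⟨s, hs, h⟩ := htop
      exact h1 s hs h

end Alg

section Affine

open AlgebraicGeometry

variable {X : Scheme.{u}} {U : X.Opens}

theorem primeIdealOf_fromSpec (hU : IsAffineOpen U) (P : PrimeSpectrum Γ(X, U)) :
    ∃ h : hU.fromSpec P ∈ U, hU.primeIdealOf ⟨hU.fromSpec P, h⟩ = P := by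
  have h : hU.fromSpec P ∈ U := by
    have : hU.fromSpec P ∈ Set.range hU.fromSpec := ⟨P, rfl⟩
    rw [hU.range_fromSpec] at this
    exact this
  refine ⟨h, ?_⟩
  have h1 := hU.fromSpec_primeIdealOf ⟨hU.fromSpec P, h⟩
  exact hU.fromSpec.isOpenEmbedding.injective h1

theorem primeIdealOf_le_iff (hU : IsAffineOpen U) (x y : U) :
    hU.primeIdealOf x ≤ hU.primeIdealOf y ↔ x.1 ⤳ y.1 := by
  rw [PrimeSpectrum.le_iff_specializes]
  have := hU.fromSpec.isOpenEmbedding.isInducing.specializes_iff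
    (x := hU.primeIdealOf x) (y := hU.primeIdealOf y)
  rw [hU.fromSpec_primeIdealOf, hU.fromSpec_primeIdealOf] at this
  exact this.symm

theorem primeIdealOf_injective (hU : IsAffineOpen U) : Function.Injective hU.primeIdealOf := by
  intro x y hxy
  apply Subtype.ext
  rw [← hU.fromSpec_primeIdealOf x, ← hU.fromSpec_primeIdealOf y, hxy]

/-- An open subset, seen on an affine open, is the complement of `V(I)`. -/
theorem exists_ideal_mem_iff (hU : IsAffineOpen U) (T : X.Opens) :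
    ∃ I : Ideal Γ(X, U), ∀ (x : X) (hx : x ∈ U),
      x ∈ T ↔ ¬ I ≤ (hU.primeIdealOf ⟨x, hx⟩).asIdeal := by
  obtain ⟨s, hs⟩ := (PrimeSpectrum.isOpen_iff _).mp (hU.fromSpec ⁻¹ᵁ T).isOpen
  refine ⟨Ideal.span s, fun x hx => ?_⟩
  have h1 : x ∈ T ↔ hU.primeIdealOf ⟨x, hx⟩ ∉ PrimeSpectrum.zeroLocus s := by
    rw [← hs, Set.mem_compl_iff, not_not]
    change x ∈ T ↔ hU.fromSpec (hU.primeIdealOf ⟨x, hx⟩) ∈ T
    rw [hU.fromSpec_primeIdealOf]
  rw [h1, Ideal.span_le]
  rfl

end Affine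

section Sch

open AlgebraicGeometry CategoryTheory Groth.Agent.Fdesc.QCohStalk

variable {X S : Scheme.{u}} (f : X ⟶ S) (F : X.Modules) {U : X.Opens} (hU : IsAffineOpen U)
  {W : S.Opens} (hW : IsAffineOpen W) (e : U ≤ f ⁻¹ᵁ W) (x : X) (hx : x ∈ U)

theorem map_maximalIdeal_eq :
    Ideal.map (f.stalkMap x).hom (IsLocalRing.maximalIdeal (S.presheaf.stalk (f x))) =
      ((hW.primeIdealOf ⟨f x, e hx⟩).asIdeal.map (f.appLE W U e).hom).map
        (X.presheaf.germ U x hx).hom := by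
  let := S.presheaf.algebra_section_stalk ⟨f x, e hx⟩
  have := hW.isLocalization_stalk ⟨f x, e hx⟩
  have h1 : (hW.primeIdealOf ⟨f x, e hx⟩).asIdeal.map (S.presheaf.germ W (f x) (e hx)).hom =
      IsLocalRing.maximalIdeal (S.presheaf.stalk (f x)) :=
    IsLocalization.AtPrime.map_eq_maximalIdeal (hW.primeIdealOf ⟨f x, e hx⟩).asIdeal
      (S.presheaf.stalk (f x))
  rw [← h1, Ideal.map_map, Ideal.map_map, ← CommRingCat.hom_comp, ← CommRingCat.hom_comp,
    f.germ_stalkMap, ← X.presheaf.germ_res (homOfLE e) _ hx, Scheme.Hom.app_eq_appLE,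
    Scheme.Hom.appLE_map_assoc]

theorem mem_relAss_iff (hF : Coh.IsQCoh F) :
    x ∈ MoreMor.relAss f F ↔
      LocAss (((hW.primeIdealOf ⟨f x, e hx⟩).asIdeal.map (f.appLE W U e).hom) •
        (⊤ : Submodule Γ(X, U) Γ(F, U))) (hU.primeIdealOf ⟨x, hx⟩).asIdeal := by
  let := X.presheaf.algebra_section_stalk ⟨x, hx⟩
  have := hU.isLocalization_stalk ⟨x, hx⟩
  let := stalkModule F x hx
  have : IsScalarTower Γ(X, U) (X.presheaf.stalk x) (F.presheaf.stalk x) :=
    IsScalarTower.of_algebraMap_smul fun r y => rfl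
  have := isLocalizedModule_germ F hU hF x hx
  have h := isAssociatedPrime_iff_locAss (O := X.presheaf.stalk x)
    (hU.primeIdealOf ⟨x, hx⟩).asIdeal (germₗ F x hx)
    ((hW.primeIdealOf ⟨f x, e hx⟩).asIdeal.map (f.appLE W U e).hom)
  rw [← h]
  unfold MoreMor.relAss
  rw [Set.mem_ofPred_eq, map_maximalIdeal_eq f hW e x hx]
  rfl

variable {F}

include hU hW e in
/-- Spreading out `Ass ⊆ T` on an affine chart. -/
theorem exists_chart_subset [LocallyOfFiniteType f] (hF : Coh.IsCoh F) (η : S) (hη : η ∈ W)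
    (hgen : ∀ s ∈ W, η ⤳ s) (T : X.Opens)
    (h : ∀ x ∈ MoreMor.relAss f F, f x = η → x ∈ T) :
    ∃ V : S.Opens, η ∈ V ∧ ∀ x ∈ MoreMor.relAss f F, x ∈ U → f x ∈ V → x ∈ T := by
  obtain ⟨I, hI⟩ := exists_ideal_mem_iff hU T
  have : Coh.IsQCoh F := hF.1
  let : Algebra Γ(S, W) Γ(X, U) := (f.appLE W U e).hom.toAlgebra
  have : Algebra.FiniteType Γ(S, W) Γ(X, U) := f.finiteType_appLE hW hU e
  have : Module.Finite Γ(X, U) Γ(F, U) :=
    Groth.Agent.CohqB.FiniteType2.finite_sections_of_isFT F hF.2 hU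
  obtain ⟨r, hr, h1⟩ := exists_notMem_not_le (M := Γ(F, U))
    (hW.primeIdealOf ⟨η, hη⟩).asIdeal I (by
      intro q hq hq0 hass
      obtain ⟨hx, hxq⟩ := primeIdealOf_fromSpec hU ⟨q, hq⟩
      set x := hU.fromSpec ⟨q, hq⟩ with hxdef
      have hfx : hW.primeIdealOf ⟨f x, e hx⟩ = hW.primeIdealOf ⟨η, hη⟩ := by
        rw [← IsAffineOpen.comap_primeIdealOf_appLE W hW U hU e hx, hxq]
        exact PrimeSpectrum.ext hq0
      have hfx' : f x = η := congr_arg Subtype.val (primeIdealOf_injective hW hfx)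
      have hxr : x ∈ MoreMor.relAss f F := by
        rw [mem_relAss_iff f F hU hW e x hx hF.1, hxq, hfx]
        exact hass
      have h2 := (hI x hx).mp (h x hxr hfx')
      rwa [hxq] at h2)
  refine ⟨S.basicOpen r, ?_, ?_⟩
  · exact (mem_basicOpen_iff hW η hη r).mpr hr
  · intro x hxr hx hfx
    rw [mem_relAss_iff f F hU hW e x hx hF.1] at hxr
    rw [hI x hx]
    refine h1 (hW.primeIdealOf ⟨f x, e hx⟩).asIdeal inferInstance ?_ ?_
      (hU.primeIdealOf ⟨x, hx⟩).asIdeal inferInstance ?_ hxr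
    · exact (primeIdealOf_le_iff hW ⟨η, hη⟩ ⟨f x, e hx⟩).mpr (hgen _ (e hx))
    · exact (mem_basicOpen_iff hW _ (e hx) r).mp hfx
    · exact congr_arg PrimeSpectrum.asIdeal
        (IsAffineOpen.comap_primeIdealOf_appLE W hW U hU e hx)

include hU hW e hx in
/-- Spreading out a point of the relative assassin on an affine chart. -/
theorem exists_chart_point [LocallyOfFiniteType f] (hF : Coh.IsCoh F)
    (hxr : x ∈ MoreMor.relAss f F) :
    ∃ V : S.Opens, f x ∈ V ∧ ∀ s ∈ V, f x ⤳ s →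
      ∃ x' ∈ MoreMor.relAss f F, x ⤳ x' ∧ f x' = s := by
  have : Coh.IsQCoh F := hF.1
  let : Algebra Γ(S, W) Γ(X, U) := (f.appLE W U e).hom.toAlgebra
  have : Algebra.FiniteType Γ(S, W) Γ(X, U) := f.finiteType_appLE hW hU e
  have : Module.Finite Γ(X, U) Γ(F, U) :=
    Groth.Agent.CohqB.FiniteType2.finite_sections_of_isFT F hF.2 hU
  rw [mem_relAss_iff f F hU hW e x hx hF.1] at hxr
  obtain ⟨r, hr, h1⟩ := exists_notMem_exists_locAss (M := Γ(F, U))
    (hW.primeIdealOf ⟨f x, e hx⟩).asIdeal (hU.primeIdealOf ⟨x, hx⟩).asIdeal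
    (congr_arg PrimeSpectrum.asIdeal
        (IsAffineOpen.comap_primeIdealOf_appLE W hW U hU e hx)) hxr
  refine ⟨S.basicOpen r, ?_, ?_⟩
  · exact (mem_basicOpen_iff hW _ (e hx) r).mpr hr
  · intro s hs hspec
    have hsW : s ∈ W := S.basicOpen_le r hs
    obtain ⟨q, hq, hq1, hq2, hq3⟩ := h1 (hW.primeIdealOf ⟨s, hsW⟩).asIdeal inferInstance
      ((primeIdealOf_le_iff hW ⟨f x, e hx⟩ ⟨s, hsW⟩).mpr hspec)
      ((mem_basicOpen_iff hW _ hsW r).mp hs)
    obtain ⟨hx', hxq⟩ := primeIdealOf_fromSpec hU ⟨q, hq⟩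
    set x' := hU.fromSpec ⟨q, hq⟩ with hxdef
    have hfx : hW.primeIdealOf ⟨f x', e hx'⟩ = hW.primeIdealOf ⟨s, hsW⟩ := by
      rw [← IsAffineOpen.comap_primeIdealOf_appLE W hW U hU e hx', hxq]
      exact PrimeSpectrum.ext hq2
    refine ⟨x', ?_, ?_, congr_arg Subtype.val (primeIdealOf_injective hW hfx)⟩
    · rw [mem_relAss_iff f F hU hW e x' hx' hF.1, hxq, hfx]
      exact hq3
    · refine (primeIdealOf_le_iff hU ⟨x, hx⟩ ⟨x', hx'⟩).mp ?_
      rw [hxq]
      exact hq1

end Sch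

end Groth.Agent.Flat2E.RelAssSch
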