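import Mathlib.RingTheory.Smooth.Fiber
import Mathlib.RingTheory.Smooth.Flat
import Mathlib.RingTheory.Filtration

set_option autoImplicit false

open TensorProduct

namespace Groth.Agent.Flat2E.SmoothInf

section Flat

variable {R M : Type*} [CommRing R] [AddCommGroup M] [Module R M]

/-- If `x` lies in the image of `M ⊗ (J • ⊤)`, it lies in `J • ⊤`. -/
theorem tmul_mem_smul_top {N : Type*} [AddCommGroup N] [Module R N] (I : Ideal R) (m : M) (a : N)
    (ha : a ∈ (I • ⊤ : Submodule R N)) : m ⊗ₜ[R] a ∈ (I • ⊤ : Submodule R (M ⊗[R] N)) := by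
  refine Submodule.smul_induction_on ha (fun r hr n _ => ?_) (fun x y hx hy => ?_)
  · rw [TensorProduct.tmul_smul]
    exact Submodule.smul_mem_smul hr trivial
  · rw [TensorProduct.tmul_add]
    exact Submodule.add_mem _ hx hy

/-- Flatness over a Noetherian ring from the infinitesimal neighbourhoods of an ideal, for modules `M` such that
`M ⊗ 𝔞` is `J`-adically separated for every ideal `𝔞`. -/
theorem flat_of_forall_pow [IsNoetherianRing R] (J : Ideal R)
    (h : ∀ (n : ℕ) (𝔟 : Ideal (R ⧸ J ^ (n + 1))),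
      Function.Injective (LinearMap.lTensor M (𝔟.subtype.restrictScalars R)))
    (hsep : ∀ (𝔞 : Ideal R) (x : M ⊗[R] 𝔞), (∀ n, x ∈ (J ^ n • ⊤ : Submodule R (M ⊗[R] 𝔞))) → x = 0) :
    Module.Flat R M := by
  rw [Module.Flat.iff_lTensor_injective']
  intro 𝔞
  rw [injective_iff_map_eq_zero]
  intro x hx
  apply hsep
  intro n
  obtain ⟨k, hk⟩ := Ideal.exists_pow_inf_eq_pow_smul J (M := R) 𝔞
  set m := n + k with hm
  have hAR : J ^ (m + 1) ⊓ 𝔞 ≤ J ^ n • 𝔞 := by
    have h1 := hk (m + 1) (by omega)
    simp only [smul_eq_mul, Ideal.mul_top] at h1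
    rw [h1]
    have h2 : m + 1 - k = n + 1 := by omega
    rw [h2]
    refine (Ideal.mul_mono (Ideal.pow_le_pow_right (Nat.le_succ n)) inf_le_right)
  let π := Ideal.Quotient.mk (J ^ (m + 1))
  let 𝔟 : Ideal (R ⧸ J ^ (m + 1)) := 𝔞.map π
  let φ : 𝔞 →ₗ[R] 𝔟 :=
    { toFun := fun a => ⟨π a, Ideal.mem_map_of_mem _ a.2⟩
      map_add' := fun a b => by ext; simp
      map_smul' := fun r a => by
        ext
        simp only [SetLike.val_smul, smul_eq_mul, map_mul, RingHom.id_apply]
        rfl }
  have hφ : Function.Surjective φ := by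
    rintro ⟨y, hy⟩
    obtain ⟨a, ha, rfl⟩ := (Ideal.mem_map_iff_of_surjective π Ideal.Quotient.mk_surjective).mp hy
    exact ⟨⟨a, ha⟩, rfl⟩
  have hx1 : LinearMap.lTensor M φ x = 0 := by
    apply h m 𝔟
    rw [map_zero, ← LinearMap.comp_apply, ← LinearMap.lTensor_comp]
    have : (𝔟.subtype.restrictScalars R).comp φ = (Submodule.mkQ (J ^ (m + 1))).comp 𝔞.subtype := by
      ext a
      rfl
    rw [this, LinearMap.lTensor_comp, LinearMap.comp_apply, hx, map_zero]
  have hex : Function.Exact (LinearMap.lTensor M (LinearMap.ker φ).subtype) (LinearMap.lTensor M φ) :=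
    lTensor_exact M (LinearMap.exact_subtype_ker_map φ) hφ
  obtain ⟨y, rfl⟩ := (hex x).mp hx1
  clear hx1 hx
  have hker : ∀ z ∈ LinearMap.ker φ, z ∈ (J ^ n • ⊤ : Submodule R 𝔞) := by
    rintro ⟨z, hz⟩ hzk
    have h1 : z ∈ J ^ (m + 1) := by
      have h2 : π z = 0 := congrArg Subtype.val (LinearMap.mem_ker.mp hzk)
      exact Ideal.Quotient.eq_zero_iff_mem.mp h2
    have h3 : z ∈ J ^ n • 𝔞 := hAR ⟨h1, hz⟩
    have h4 : (J ^ n • ⊤ : Submodule R 𝔞).map 𝔞.subtype = J ^ n • 𝔞 := by
      rw [Submodule.map_smul'', Submodule.map_top, Submodule.range_subtype]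
    rw [← h4] at h3
    obtain ⟨w, hw, hwz⟩ := h3
    have : w = ⟨z, hz⟩ := Subtype.ext hwz
    rwa [← this]
  induction y with
  | zero => simp
  | tmul m z =>
    rw [LinearMap.lTensor_tmul]
    exact tmul_mem_smul_top _ _ _ (hker z.1 z.2)
  | add y z hy hz =>
    rw [map_add]
    exact Submodule.add_mem _ hy hz

/-- Injectivity after tensoring with a localization (or any flat `T`-algebra). -/
theorem lTensor_injective_of_flat {T Q : Type*} [CommRing T] [Algebra R T] [CommRing Q] [Algebra T Q]
    [Algebra R Q] [IsScalarTower R T Q] [Module.Flat T Q] {N N' : Type*} [AddCommGroup N] [Module R N]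
    [AddCommGroup N'] [Module R N'] (f : N →ₗ[R] N') (hf : Function.Injective (LinearMap.lTensor T f)) :
    Function.Injective (LinearMap.lTensor Q f) := by
  let F : T ⊗[R] N →ₗ[T] T ⊗[R] N' := AlgebraTensorModule.lTensor T T f
  have hF : Function.Injective F := hf
  have h1 : Function.Injective (LinearMap.lTensor Q F) :=
    Module.Flat.lTensor_preserves_injective_linearMap F hF
  let e := AlgebraTensorModule.cancelBaseChange R T Q Q N
  let e' := AlgebraTensorModule.cancelBaseChange R T Q Q N'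
  have h2 : ∀ x, e' (LinearMap.lTensor Q F x) = LinearMap.lTensor Q f (e x) := by
    intro x
    induction x with
    | zero => simp
    | add x y hx hy => simp only [map_add, hx, hy]
    | tmul q y =>
      induction y with
      | zero => simp
      | add x y hx hy => simp only [tmul_add, map_add, hx, hy]
      | tmul t n => simp [F, e, e']
  intro x y hxy
  obtain ⟨x, rfl⟩ := e.surjective x
  obtain ⟨y, rfl⟩ := e.surjective y
  rw [← h2, ← h2] at hxy
  rw [h1 (e'.injective hxy)]

/-- If `C ⊗ T` is flat over `C`, then `T ⊗[R] -` is exact on `C`-linear injections. -/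
theorem lTensor_restrictScalars_injective {C : Type*} [CommRing C] [Algebra R C]
    [Module.Flat C (C ⊗[R] M)] {N N' : Type*} [AddCommGroup N] [Module R N] [Module C N] [IsScalarTower R C N]
    [AddCommGroup N'] [Module R N'] [Module C N'] [IsScalarTower R C N'] (f : N →ₗ[C] N')
    (hf : Function.Injective f) :
    Function.Injective (LinearMap.lTensor M (f.restrictScalars R)) := by
  rw [LinearMap.lTensor_inj_iff_rTensor_inj]
  have h1 : Function.Injective (LinearMap.rTensor (C ⊗[R] M) f) :=
    Module.Flat.rTensor_preserves_injective_linearMap f hf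
  let e := AlgebraTensorModule.cancelBaseChange R C C N M
  let e' := AlgebraTensorModule.cancelBaseChange R C C N' M
  have h2 : ∀ x, e' (LinearMap.rTensor (C ⊗[R] M) f x) = LinearMap.rTensor M (f.restrictScalars R) (e x) := by
    intro x
    induction x with
    | zero => simp
    | add x y hx hy => simp only [map_add, hx, hy]
    | tmul q y =>
      induction y with
      | zero => simp
      | add x y hx hy => simp only [tmul_add, map_add, hx, hy]
      | tmul t n => simp [e, e']
  intro x y hxy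
  obtain ⟨x, rfl⟩ := e.surjective x
  obtain ⟨y, rfl⟩ := e.surjective y
  rw [← h2, ← h2] at hxy
  rw [h1 (e'.injective hxy)]

end Flat

section Smooth

open IsLocalRing Algebra

variable {R T : Type*} [CommRing R] [CommRing T] [Algebra R T]

/-- Flatness of the local ring `T_q` over `R` if `(R/J^n) ⊗ T` is flat over `R/J^n` for all `n`. -/
theorem flat_localization_of_forall_pow [IsNoetherianRing R] (J : Ideal R)
    [Algebra.FiniteType R T]
    (h : ∀ n : ℕ, Module.Flat (R ⧸ J ^ (n + 1)) ((R ⧸ J ^ (n + 1)) ⊗[R] T)) (q : Ideal T) [q.IsPrime]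
    (hq : J.map (algebraMap R T) ≤ q) : Module.Flat R (Localization.AtPrime q) := by
  have hTN : IsNoetherianRing T := Algebra.FiniteType.isNoetherianRing R T
  let Q := Localization.AtPrime q
  have hQN : IsNoetherianRing Q := IsLocalization.isNoetherianRing q.primeCompl _ hTN
  refine flat_of_forall_pow J (fun n 𝔟 => ?_) (fun 𝔞 x hx => ?_)
  · have := h n
    exact lTensor_injective_of_flat (T := T) _ (lTensor_restrictScalars_injective _ Subtype.val_injective)
  · have hfin : Module.Finite Q (Q ⊗[R] 𝔞) := inferInstance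
    have hne : J.map (algebraMap R Q) ≠ ⊤ := by
      refine ne_top_of_le_ne_top (b := maximalIdeal Q) (Ideal.IsPrime.ne_top') ?_
      rw [IsScalarTower.algebraMap_eq R T Q, ← Ideal.map_map]
      rw [Ideal.map_le_iff_le_comap]
      exact hq.trans (Localization.AtPrime.under_maximalIdeal (I := q)).ge
    have hK := Ideal.iInf_pow_smul_eq_bot_of_isLocalRing (M := Q ⊗[R] 𝔞) _ hne
    have hx' : x ∈ (⨅ i, (J.map (algebraMap R Q)) ^ i • ⊤ : Submodule Q (Q ⊗[R] 𝔞)) := by
      rw [Submodule.mem_iInf]
      intro n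
      refine Submodule.smul_induction_on (hx n) (fun r hr y _ => ?_) (fun x y hx hy => ?_)
      · rw [← algebraMap_smul Q r y]
        refine Submodule.smul_mem_smul ?_ trivial
        rw [← Ideal.map_pow]
        exact Ideal.mem_map_of_mem _ hr
      · exact Submodule.add_mem _ hx hy
    rw [hK] at hx'
    exact (Submodule.mem_bot _).mp hx'

/-- Smoothness at `q` from flatness at `q` and smoothness of the local ring of the fibre (Stacks 00TF, pointwise). -/
theorem isSmoothAt_of_flat_of_formallySmooth [Algebra.FinitePresentation R T] (p : Ideal R) (q : Ideal T)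
    [p.IsPrime] [q.IsPrime] [q.LiesOver p] [Module.Flat R (Localization.AtPrime q)]
    [FormallySmooth p.ResidueField (p.ResidueField ⊗[R] (Localization.AtPrime q))] :
    Algebra.IsSmoothAt R q := by
  let Rp := Localization.AtPrime p
  let Sp := Localization (algebraMapSubmonoid T p.primeCompl)
  let Sq := Localization.AtPrime q
  let := Localization.AtPrime.algebraOfLiesOver p q
  let f : Sp →ₐ[T] Sq := IsLocalization.liftAlgHom (M := algebraMapSubmonoid T p.primeCompl)
        (f := Algebra.ofId _ _) (by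
      rintro ⟨_, x, hx, rfl⟩
      simpa using! IsLocalization.map_units (M := q.primeCompl) Sq ⟨algebraMap _ _ x,
        by simp_all [q.over_def p]⟩)
  algebraize [f.toRingHom]
  have : IsScalarTower R Sp Sq := .to₁₃₄ _ T _ _
  have : IsScalarTower Rp Sp Sq := .of_algebraMap_eq' <| by
    apply IsLocalization.ringHom_ext p.primeCompl
    simp only [RingHom.comp_assoc, ← IsScalarTower.algebraMap_eq]
  have : IsLocalization (algebraMapSubmonoid Sp q.primeCompl) Sq :=
    .isLocalization_of_submonoid_le _ _ (algebraMapSubmonoid T p.primeCompl) _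
    (by rintro _ ⟨x, hx, rfl⟩; simp_all [q.over_def p])
  have : FinitePresentation Rp Sp := by
    have : Algebra.IsPushout R Rp T Sp :=
      .symm <| Algebra.isPushout_of_isLocalization p.primeCompl _ _ _
    exact .equiv (Algebra.IsPushout.equiv R Rp T Sp)
  have : Module.Flat Rp Sq := (Module.flat_iff_of_isLocalization Rp p.primeCompl Sq).mpr ‹_›
  have : FormallySmooth (ResidueField Rp) (ResidueField Rp ⊗[Rp] Sq) := by
    let e : (ResidueField Rp ⊗[Rp] Sq) ≃ₐ[ResidueField Rp] (ResidueField Rp ⊗[R] Sq) :=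
      Algebra.TensorProduct.equivOfCompatibleSMul R Rp (ResidueField Rp) (ResidueField Rp) Sq
    exact .of_equiv e.symm
  have := FormallySmooth.of_formallySmooth_residueField_tensor
    (R := Rp) (S := Sq) (P := Sp) (algebraMapSubmonoid _ q.primeCompl)
  exact .comp R Rp Sq

/-- Smoothness of the localized fibre from smoothness of the fibre over `R / J`. -/
theorem formallySmooth_fibre_of_quotient (J : Ideal R) (p : Ideal R) (q : Ideal T)
    [p.IsPrime] [q.IsPrime] (hJ : J ≤ p) [FormallySmooth (R ⧸ J) ((R ⧸ J) ⊗[R] T)] :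
    FormallySmooth p.ResidueField (p.ResidueField ⊗[R] (Localization.AtPrime q)) := by
  let g : (R ⧸ J) →ₐ[R] p.ResidueField := Ideal.Quotient.liftₐ J (Algebra.ofId R p.ResidueField)
    (fun a ha => by simpa [Algebra.ofId_apply] using hJ ha)
  let := g.toRingHom.toAlgebra
  have : IsScalarTower R (R ⧸ J) p.ResidueField := .of_algebraMap_eq' g.comp_algebraMap.symm
  have h1 : FormallySmooth p.ResidueField (p.ResidueField ⊗[R ⧸ J] ((R ⧸ J) ⊗[R] T)) := inferInstance
  let e : (p.ResidueField ⊗[R ⧸ J] ((R ⧸ J) ⊗[R] T)) ≃ₐ[p.ResidueField] p.ResidueField ⊗[R] T :=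
    Algebra.TensorProduct.cancelBaseChange R (R ⧸ J) p.ResidueField p.ResidueField T
  have h2 : FormallySmooth p.ResidueField (p.ResidueField ⊗[R] T) :=
    FormallySmooth.of_equiv (A := p.ResidueField ⊗[R ⧸ J] ((R ⧸ J) ⊗[R] T)) e
  let : Algebra T (p.ResidueField ⊗[R] T) := TensorProduct.rightAlgebra
  have h3 : FormallySmooth p.ResidueField ((p.ResidueField ⊗[R] T) ⊗[T] (Localization.AtPrime q)) :=
    .comp _ (p.ResidueField ⊗[R] T) _
  let e1 : p.ResidueField ⊗[R] T ≃ₐ[T] T ⊗[R] p.ResidueField :=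
    { __ := Algebra.TensorProduct.comm _ _ _, commutes' _ := rfl }
  let e' : (p.ResidueField ⊗[R] T) ⊗[T] (Localization.AtPrime q) ≃ₐ[R] p.ResidueField ⊗[R] (Localization.AtPrime q) :=
    ((Algebra.TensorProduct.comm _ _ _).restrictScalars R).trans <|
    ((Algebra.TensorProduct.congr (.refl (R := T)) e1).restrictScalars R).trans <|
    ((Algebra.TensorProduct.cancelBaseChange _ _ T _ _).restrictScalars R).trans <|
    (Algebra.TensorProduct.comm _ _ _)
  let e'' : (p.ResidueField ⊗[R] T) ⊗[T] (Localization.AtPrime q) ≃ₐ[p.ResidueField]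
      p.ResidueField ⊗[R] (Localization.AtPrime q) :=
    { __ := e', commutes' r := by simp [e', e1] }
  exact FormallySmooth.of_equiv (A := (p.ResidueField ⊗[R] T) ⊗[T] (Localization.AtPrime q)) e''

/-- **Stacks 0A43**, algebraic form: if `R / J ^ (n + 1) → T / J ^ (n + 1) T` is smooth for all `n`, then
`R → T` is smooth at all primes containing `J T`. -/
theorem isSmoothAt_of_forall_pow [IsNoetherianRing R] [Algebra.FinitePresentation R T] (J : Ideal R)
    (h : ∀ n : ℕ, Algebra.Smooth (R ⧸ J ^ (n + 1)) ((R ⧸ J ^ (n + 1)) ⊗[R] T)) (q : Ideal T) [q.IsPrime]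
    (hq : J.map (algebraMap R T) ≤ q) : Algebra.IsSmoothAt R q := by
  have : Module.Flat R (Localization.AtPrime q) :=
    flat_localization_of_forall_pow J (fun n => (h n).flat) q hq
  have h0 : FormallySmooth (R ⧸ J ^ (0 + 1)) ((R ⧸ J ^ (0 + 1)) ⊗[R] T) := (h 0).formallySmooth
  have := formallySmooth_fibre_of_quotient (J ^ (0 + 1)) (q.under R) q
    (by simpa using Ideal.map_le_iff_le_comap.mp hq)
  exact isSmoothAt_of_flat_of_formallySmooth (q.under R) q

/-- Unramifiedness at `q ⊇ J T` from unramifiedness of `R / J → T / J T`. -/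
theorem isUnramifiedAt_of_quotient [Algebra.FiniteType R T] (J : Ideal R) (q : Ideal T) [q.IsPrime]
    (hq : J.map (algebraMap R T) ≤ q) [FormallyUnramified (R ⧸ J) ((R ⧸ J) ⊗[R] T)] :
    Algebra.IsUnramifiedAt R q := by
  let : Algebra T ((R ⧸ J) ⊗[R] T) := TensorProduct.rightAlgebra
  have hpo : Algebra.IsPushout R (R ⧸ J) T ((R ⧸ J) ⊗[R] T) := inferInstance
  have h1 : Subsingleton ((R ⧸ J) ⊗[R] Ω[T⁄R]) :=
    (KaehlerDifferential.tensorKaehlerEquivBase R (R ⧸ J) T ((R ⧸ J) ⊗[R] T)).subsingleton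
  have h2 : Subsingleton (Ω[T⁄R] ⧸ (J • ⊤ : Submodule R Ω[T⁄R])) :=
    (TensorProduct.quotTensorEquivQuotSMul Ω[T⁄R] J).symm.subsingleton
  have h3 : (J • ⊤ : Submodule R Ω[T⁄R]) = ⊤ := Submodule.Quotient.subsingleton_iff.mp h2
  have h4 : (⟨q, ‹_›⟩ : PrimeSpectrum T) ∈ unramifiedLocus R T := by
    rw [unramifiedLocus_eq_compl_support, Set.mem_compl_iff,
      Module.mem_support_iff_nontrivial_residueField_tensorProduct, not_nontrivial_iff_subsingleton]
    refine subsingleton_of_forall_eq 0 fun x => ?_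
    induction x with
    | zero => rfl
    | add x y hx hy => rw [hx, hy, add_zero]
    | tmul x m =>
      have hm : m ∈ (J • ⊤ : Submodule R Ω[T⁄R]) := by rw [h3]; exact Submodule.mem_top
      refine Submodule.smul_induction_on hm (fun r hr n _ => ?_) (fun a b ha hb => ?_)
      · have h5 : algebraMap R T r ∈ q := hq (Ideal.mem_map_of_mem _ hr)
        rw [← algebraMap_smul T r n, ← TensorProduct.smul_tmul, Algebra.smul_def,
          Ideal.algebraMap_residueField_eq_zero.mpr h5, zero_mul, TensorProduct.zero_tmul]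
      · rw [TensorProduct.tmul_add, ha, hb, add_zero]
  exact h4

/-- **Stacks 0A43**, algebraic form for étale algebras. -/
theorem isEtaleAt_of_forall_pow [IsNoetherianRing R] [Algebra.FinitePresentation R T] (J : Ideal R)
    (h : ∀ n : ℕ, Algebra.Etale (R ⧸ J ^ (n + 1)) ((R ⧸ J ^ (n + 1)) ⊗[R] T)) (q : Ideal T) [q.IsPrime]
    (hq : J.map (algebraMap R T) ≤ q) : Algebra.IsEtaleAt R q := by
  have h1 : Algebra.IsSmoothAt R q := isSmoothAt_of_forall_pow J (fun n => ⟨inferInstance, inferInstance⟩) q hq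
  have h0 : FormallyEtale (R ⧸ J ^ (0 + 1)) ((R ⧸ J ^ (0 + 1)) ⊗[R] T) := (h 0).formallyEtale
  have h2 : Algebra.IsUnramifiedAt R q := isUnramifiedAt_of_quotient (J ^ (0 + 1)) q (by simpa using hq)
  have : (⟨q, ‹_›⟩ : PrimeSpectrum T) ∈ etaleLocus R T := by
    rw [etaleLocus_eq_unramfiedLocus_inter_smoothLocus]
    exact ⟨h2, h1⟩
  exact this

/-- Transport of smoothness along the isomorphism `R / K ≅ C`. -/
theorem smooth_quotient_of_isPushout {C D : Type*} [CommRing C] [CommRing D] [Algebra R C] [Algebra C D]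
    [Algebra T D] [Algebra R D] [IsScalarTower R C D] [IsScalarTower R T D] [Algebra.IsPushout R C T D]
    (K : Ideal R) (hs : Function.Surjective (algebraMap R C)) (hk : RingHom.ker (algebraMap R C) = K)
    [Algebra.Smooth C D] : Algebra.Smooth (R ⧸ K) ((R ⧸ K) ⊗[R] T) := by
  subst hk
  let e : (R ⧸ RingHom.ker (algebraMap R C)) ≃ₐ[R] C := Ideal.quotientKerAlgEquivOfSurjective (f := Algebra.ofId R C) hs
  let : Algebra C (R ⧸ RingHom.ker (algebraMap R C)) := e.symm.toRingHom.toAlgebra
  have : IsScalarTower R C (R ⧸ RingHom.ker (algebraMap R C)) := .of_algebraMap_eq' e.symm.toAlgHom.comp_algebraMap.symm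
  have h1 : Algebra.Smooth C (C ⊗[R] T) := .of_equiv (Algebra.IsPushout.equiv R C T D).symm
  have h2 : Algebra.Smooth (R ⧸ RingHom.ker (algebraMap R C))
      ((R ⧸ RingHom.ker (algebraMap R C)) ⊗[C] (C ⊗[R] T)) := inferInstance
  exact Algebra.Smooth.of_equiv (A := (R ⧸ RingHom.ker (algebraMap R C)) ⊗[C] (C ⊗[R] T))
    (Algebra.TensorProduct.cancelBaseChange R C _ _ T)

/-- Transport of étaleness along the isomorphism `R / K ≅ C`. -/
theorem etale_quotient_of_isPushout {C D : Type*} [CommRing C] [CommRing D] [Algebra R C] [Algebra C D]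
    [Algebra T D] [Algebra R D] [IsScalarTower R C D] [IsScalarTower R T D] [Algebra.IsPushout R C T D]
    (K : Ideal R) (hs : Function.Surjective (algebraMap R C)) (hk : RingHom.ker (algebraMap R C) = K)
    [Algebra.Etale C D] : Algebra.Etale (R ⧸ K) ((R ⧸ K) ⊗[R] T) := by
  subst hk
  let e : (R ⧸ RingHom.ker (algebraMap R C)) ≃ₐ[R] C := Ideal.quotientKerAlgEquivOfSurjective (f := Algebra.ofId R C) hs
  let : Algebra C (R ⧸ RingHom.ker (algebraMap R C)) := e.symm.toRingHom.toAlgebra
  have : IsScalarTower R C (R ⧸ RingHom.ker (algebraMap R C)) := .of_algebraMap_eq' e.symm.toAlgHom.comp_algebraMap.symm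
  have h1 : Algebra.Etale C (C ⊗[R] T) := .of_equiv (Algebra.IsPushout.equiv R C T D).symm
  have h2 : Algebra.Etale (R ⧸ RingHom.ker (algebraMap R C))
      ((R ⧸ RingHom.ker (algebraMap R C)) ⊗[C] (C ⊗[R] T)) := inferInstance
  exact Algebra.Etale.of_equiv (A := (R ⧸ RingHom.ker (algebraMap R C)) ⊗[C] (C ⊗[R] T))
    (Algebra.TensorProduct.cancelBaseChange R C _ _ T)

end Smooth

end Groth.Agent.Flat2E.SmoothInf
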