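import Groth.Agent.Flat2E.ConnFibAt
import Groth.Agent.Flat2E.CardComp
import Groth.Agent.Flat2D.GeomFib
import Mathlib.AlgebraicGeometry.PullbackCarrier

/-!
# Number of geometric connected components and splittings
-/

set_option autoImplicit false
universe u

namespace Groth.Agent.Flat2E.SplitCount

open AlgebraicGeometry CategoryTheory Limits Groth.Agent.Flat2E.ConnFibAt

variable {X S : Scheme.{u}} {f : X ⟶ S} {s : S} {m : ℕ} {U : Fin m → X.Opens}

/-- The open pieces of a splitting pulled back to a scheme over `X`. -/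
theorem disjoint_preimage (h : IsSplitting f s m U) {Z : Scheme.{u}} (p : Z ⟶ X) (i j : Fin m) (hij : i ≠ j) :
    Disjoint (p ⁻¹ᵁ U i) (p ⁻¹ᵁ U j) := by
  have h1 := h.disjoint i j hij
  rw [disjoint_iff] at h1 ⊢
  rw [eq_bot_iff]
  rintro z ⟨h2, h3⟩
  have h4 : p z ∈ U i ⊓ U j := ⟨h2, h3⟩
  rw [h1] at h4
  exact h4

theorem iSup_preimage (h : IsSplitting f s m U) {Z : Scheme.{u}} (p : Z ⟶ X) :
    ⨆ i, p ⁻¹ᵁ U i = ⊤ := by
  rw [eq_top_iff]
  intro z _
  have h1 : p z ∈ (⨆ i, U i) := by rw [h.iSup_eq]; trivial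
  obtain ⟨j, hj⟩ := TopologicalSpace.Opens.mem_iSup.mp h1
  exact TopologicalSpace.Opens.mem_iSup.mpr ⟨j, hj⟩

theorem isPullback_piece {Z T : Scheme.{u}} {p : Z ⟶ X} {q : Z ⟶ T} {z : T ⟶ S} (h : IsPullback p q f z) (V : X.Opens) :
    IsPullback (p ∣_ V) ((p ⁻¹ᵁ V).ι ≫ q) (V.ι ≫ f) z :=
  (isPullback_morphismRestrict p V).paste_vert h

/-- Number of geometric connected components over the distinguished point. -/
theorem nGeomConnComp_eq (h : IsSplitting f s m U) : MoreMor.nGeomConnComp f s = m := by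
  obtain ⟨p, q, hpq⟩ := Flat2D.GeomFib.exists_isPullback_geomFiber f s
  rw [MoreMor.nGeomConnComp]
  refine CardComp.card_eq (fun i => p ⁻¹ᵁ U i) (disjoint_preimage h p) (iSup_preimage h p) ?_
  intro i
  have h1 := isPullback_piece hpq (U i)
  have h2 := h.conn i _ _ _ _ _ h1 (by
    exact Flat2D.GeomFib.comp_fromSpecResidueField_apply s _ _)
  have h3 := isConnected_univ (α := (p ⁻¹ᵁ U i : Scheme.{u}))
  have h4 := h3.image (p ⁻¹ᵁ U i).ι (p ⁻¹ᵁ U i).ι.continuous.continuousOn
  rw [Set.image_univ, Scheme.Opens.range_ι] at h4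
  exact h4

/-- Lower bound for the number of geometric connected components over points in the images of all the pieces. -/
theorem le_nGeomConnComp (h : IsSplitting f s m U) (t : S) (ht : ∀ i, ∃ x ∈ U i, f x = t) :
    (m : ℕ∞) ≤ MoreMor.nGeomConnComp f t := by
  obtain ⟨p, q, hpq⟩ := Flat2D.GeomFib.exists_isPullback_geomFiber f t
  rw [MoreMor.nGeomConnComp]
  refine CardComp.le_card (fun i => p ⁻¹ᵁ U i) (disjoint_preimage h p) (iSup_preimage h p) ?_
  intro i
  obtain ⟨x, hx, hxt⟩ := ht i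
  obtain ⟨z, hz, -⟩ := Scheme.exists_preimage_of_isPullback hpq x
    (IsLocalRing.closedPoint _) (by rw [hxt]; exact (Flat2D.GeomFib.comp_fromSpecResidueField_apply t _ _).symm)
  exact ⟨z, by change p z ∈ U i; rw [hz]; exact hx⟩

theorem exists_point_of_connectedFibreAt {X S : Scheme.{u}} {f : X ⟶ S} {s : S} (h : ConnectedFibreAt f s) :
    ∃ x, f x = s := by
  have h1 := h (S.residueField s) (S.fromSpecResidueField s) (pullback f (S.fromSpecResidueField s)) _ _
    (IsPullback.of_hasPullback _ _) (Scheme.fromSpecResidueField_apply _ _)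
  obtain ⟨z⟩ := h1.toNonempty
  refine ⟨pullback.fst f (S.fromSpecResidueField s) z, ?_⟩
  rw [← Scheme.Hom.comp_apply, pullback.condition, Scheme.Hom.comp_apply]
  exact Scheme.fromSpecResidueField_apply _ _

/-- If `f` is open, then over a neighbourhood of the distinguished point there are at least as many geometric
connected components. -/
theorem eventually_le (hopen : IsOpenMap f) (h : IsSplitting f s m U) :
    ∃ V : Set S, IsOpen V ∧ s ∈ V ∧ ∀ t ∈ V, (m : ℕ∞) ≤ MoreMor.nGeomConnComp f t := by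
  refine ⟨⋂ i, f '' (U i : Set X), isOpen_iInter_of_finite fun i => hopen _ (U i).2, ?_, ?_⟩
  · rw [Set.mem_iInter]
    intro i
    obtain ⟨x, hx⟩ := exists_point_of_connectedFibreAt (h.conn i)
    exact ⟨(U i).ι x, x.2, hx⟩
  · intro t ht
    rw [Set.mem_iInter] at ht
    exact le_nGeomConnComp h t fun i => by
      obtain ⟨x, hx, hxt⟩ := ht i
      exact ⟨x, hx, hxt⟩

end Groth.Agent.Flat2E.SplitCount
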