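import Groth.Agent.Flat2E.SplitIntegral

/-!
# Splitting integral algebras by étale base change: the idempotents
-/

set_option autoImplicit false
universe u v w

namespace Groth.Agent.Flat2E.SplitIntegral2

open Polynomial TensorProduct Groth.Agent.Flat2E.SplitIntegral

/-- Finitely many pairwise different ideals are separated by a finite set of elements, which for an integral algebra generates
a finite subalgebra. -/
theorem exists_finite_subalgebra_separating {R S : Type*} [CommRing R] [CommRing S] [Algebra R S] [Algebra.IsIntegral R S]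
    (Z : Set (Ideal S)) (hZ : Z.Finite) :
    ∃ S₀ : Subalgebra R S, Module.Finite R S₀ ∧
      ∀ Q ∈ Z, ∀ Q' ∈ Z, Q.comap (algebraMap S₀ S) = Q'.comap (algebraMap S₀ S) → Q = Q' := by
  classical
  have hex : ∀ x : Ideal S × Ideal S, ∃ s : S, x.1 ≠ x.2 → ¬ (s ∈ x.1 ↔ s ∈ x.2) := by
    intro x
    by_cases hx : x.1 = x.2
    · exact ⟨0, fun h => absurd hx h⟩
    · obtain ⟨s, hs⟩ := not_forall.mp (fun h => hx (Ideal.ext h))
      exact ⟨s, fun _ => hs⟩
  choose g hg using hex
  let X : Set S := g '' (Z ×ˢ Z)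
  have hX : X.Finite := (hZ.prod hZ).image g
  refine ⟨Algebra.adjoin R X, ?_, ?_⟩
  · exact Module.Finite.of_fg (fg_adjoin_of_finite hX (fun x _ => Algebra.IsIntegral.isIntegral x))
  · intro Q hQ Q' hQ' h
    by_contra hne
    have hmem : g (Q, Q') ∈ Algebra.adjoin R X := Algebra.subset_adjoin ⟨(Q, Q'), ⟨hQ, hQ'⟩, rfl⟩
    refine hg (Q, Q') hne ?_
    have := congr((⟨g (Q, Q'), hmem⟩ : Algebra.adjoin R X) ∈ $h)
    simpa [Ideal.mem_comap] using this.to_iff

/-- Merging the last member of a complete orthogonal family into the first one. -/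
theorem merge {B : Type*} [CommRing B] (n : ℕ) (e : Fin (n + 1 + 1) → B) (he : CompleteOrthogonalIdempotents e) :
    CompleteOrthogonalIdempotents (fun j : Fin (n + 1) => e j.castSucc + if j = 0 then e (Fin.last _) else 0) := by
  rw [CompleteOrthogonalIdempotents.iff_ortho_complete]
  constructor
  · intro i j hij
    have hc : (i.castSucc : Fin (n + 1 + 1)) ≠ j.castSucc := fun h => hij (Fin.castSucc_injective _ h)
    have h1 := he.ortho hc
    have h2 : e i.castSucc * e (Fin.last _) = 0 := he.ortho (Fin.castSucc_lt_last i).ne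
    have h3 : e (Fin.last _) * e j.castSucc = 0 := he.ortho (Fin.castSucc_lt_last j).ne'
    change (_ + _) * (_ + _) = 0
    change e i.castSucc * e j.castSucc = 0 at h1
    by_cases hi : i = 0
    · have hj : j ≠ 0 := fun h => hij (hi.trans h.symm)
      rw [if_pos hi, if_neg hj, add_zero, add_mul, h1, h3, add_zero]
    · by_cases hj : j = 0
      · rw [if_neg hi, if_pos hj, add_zero, mul_add, h1, h2, add_zero]
      · rw [if_neg hi, if_neg hj, add_zero, add_zero, h1]
  · rw [Finset.sum_add_distrib, Finset.sum_ite_eq' Finset.univ (0 : Fin (n + 1)) (fun _ => e (Fin.last _)),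
      if_pos (Finset.mem_univ _), ← Fin.sum_univ_castSucc, he.complete]

/-- Étale base change splitting an integral algebra with finitely many primes over `p` (residue fields with finite
separable part), in terms of idempotents. -/
theorem exists_etale_idempotents {R S : Type u} [CommRing R] [CommRing S] [Algebra R S] [Algebra.IsIntegral R S]
    (p : Ideal R) [p.IsPrime] (ℓ : ℕ) [ExpChar p.ResidueField ℓ]
    (hfin : {q : PrimeSpectrum S | q.asIdeal.comap (algebraMap R S) = p}.Finite)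
    (hsep : ∀ (q : PrimeSpectrum S) (hq : q.asIdeal.comap (algebraMap R S) = p),
      letI := (Ideal.ResidueField.map p q.asIdeal (algebraMap R S) hq.symm).toAlgebra
      Module.Finite p.ResidueField (separableClosure p.ResidueField q.asIdeal.ResidueField))
    (q₀ : PrimeSpectrum S) (hq₀ : q₀.asIdeal.comap (algebraMap R S) = p) :
    ∃ (R' : Type u) (_ : CommRing R') (_ : Algebra R R') (_ : Algebra.Etale R R') (P : Ideal R')
      (_ : P.IsPrime) (_ : P.LiesOver p) (n : ℕ) (e : Fin n → R' ⊗[R] S),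
      CompleteOrthogonalIdempotents e ∧
      (∀ j, ∃ Q : Ideal (R' ⊗[R] S), Q.IsPrime ∧ Q.comap (algebraMap R' (R' ⊗[R] S)) = P ∧ e j ∉ Q) ∧
      (∀ (j : Fin n) (Q Q' : Ideal (R' ⊗[R] S)), Q.IsPrime → Q'.IsPrime →
        Q.comap (algebraMap R' (R' ⊗[R] S)) = P → Q'.comap (algebraMap R' (R' ⊗[R] S)) = P →
        e j ∉ Q → e j ∉ Q' → Q = Q') ∧
      ∀ (M : Type u) [Field M] (χ : R' ⊗[R] S →+* M) (ρ : P.ResidueField →+* M),
        χ.comp (algebraMap R' (R' ⊗[R] S)) = ρ.comp (algebraMap R' P.ResidueField) →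
        ∀ s : S, ∃ n : ℕ, χ (1 ⊗ₜ s) ^ ℓ ^ n ∈ ρ.range := by
  -- the splitting field
  let ι : Type u := {q : PrimeSpectrum S // q.asIdeal.comap (algebraMap R S) = p}
  have hι : Finite ι := hfin.to_subtype
  let K : ι → Type u := fun q => q.1.asIdeal.ResidueField
  let _ : ∀ i : ι, Algebra p.ResidueField (K i) := fun i =>
    (Ideal.ResidueField.map p i.1.asIdeal (algebraMap R S) i.2.symm).toAlgebra
  have hKfin : ∀ i : ι, Module.Finite p.ResidueField (separableClosure p.ResidueField (K i)) := fun i => hsep i.1 i.2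
  obtain ⟨L, hL1, hL2, hL3⟩ := exists_finite_separable_splits p.ResidueField K
  -- realise it as a residue field
  obtain ⟨R₁, _, _, _, P₁, _, _, e₁, he₁⟩ := EtaleResField.exists_etale_residueField_equiv p L
  -- the primes of `R₁ ⊗ S` over `P₁`
  let S₁ := R₁ ⊗[R] S
  have : Algebra.IsIntegral R₁ S₁ := inferInstance
  have hZfin : {Q : Ideal S₁ | Q.IsPrime ∧ Q.comap (algebraMap R₁ S₁) = P₁}.Finite := by
    have hY : (PrimeSpectrum.comap (algebraMap S (S ⊗[R] R₁)) ⁻¹'
        {q : PrimeSpectrum S | q.asIdeal.comap (algebraMap R S) = p}).Finite :=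
      Algebra.QuasiFinite.finite_comap_preimage hfin
    refine (hY.image (fun J => J.asIdeal.comap (Algebra.TensorProduct.comm R R₁ S).toRingHom)).subset ?_
    rintro Q ⟨hQ, hQP⟩
    refine ⟨⟨Q.comap (Algebra.TensorProduct.comm R S R₁).toRingHom, inferInstance⟩, ?_, ?_⟩
    · change ((Q.comap (Algebra.TensorProduct.comm R S R₁).toRingHom).comap (algebraMap S (S ⊗[R] R₁))).comap
        (algebraMap R S) = p
      rw [Ideal.over_def P₁ p, Ideal.under, ← hQP, Ideal.comap_comap, Ideal.comap_comap, Ideal.comap_comap]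
      congr 1
      apply RingHom.ext
      intro r
      change (Algebra.TensorProduct.comm R S R₁) (algebraMap S (S ⊗[R] R₁) (algebraMap R S r)) =
        algebraMap R₁ (R₁ ⊗[R] S) (algebraMap R R₁ r)
      rw [← IsScalarTower.algebraMap_apply, ← IsScalarTower.algebraMap_apply, AlgEquiv.commutes]
    · change (Q.comap (Algebra.TensorProduct.comm R S R₁).toRingHom).comap
        (Algebra.TensorProduct.comm R R₁ S).toRingHom = Q
      rw [Ideal.comap_comap]
      convert Ideal.comap_id Q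
      apply RingHom.ext
      intro x
      change (Algebra.TensorProduct.comm R S R₁) ((Algebra.TensorProduct.comm R R₁ S) x) = x
      exact (Algebra.TensorProduct.comm R R₁ S).symm_apply_apply x
  obtain ⟨S₀, hS₀, hsepS₀⟩ := exists_finite_subalgebra_separating (R := R₁) (S := S₁) _ hZfin
  obtain ⟨R₂, _, _, _, P₂, _, _, n, e, he, P', hP'1, hP'2, hbij, hP'3, hP'4⟩ :=
    Algebra.exists_etale_completeOrthogonalIdempotents_forall_liesOver_eq (R := R₁) (S := S₀) P₁
  let _ : Algebra R R₂ := ((algebraMap R₁ R₂).comp (algebraMap R R₁)).toAlgebra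
  have : IsScalarTower R R₁ R₂ := IsScalarTower.of_algebraMap_eq' rfl
  have hetale : Algebra.Etale R R₂ := Algebra.Etale.comp R R₁ R₂
  have hP₂p : P₂.LiesOver p := .trans _ P₁ _
  let ψ : R₂ ⊗[R₁] (R₁ ⊗[R] S) ≃ₐ[R₂] R₂ ⊗[R] S := Algebra.TensorProduct.cancelBaseChange R R₁ R₂ R₂ S
  let φ : R₂ ⊗[R₁] S₀ →ₐ[R₂] R₂ ⊗[R₁] S₁ := Algebra.TensorProduct.map (AlgHom.id R₂ R₂) S₀.val
  let Φ : R₂ ⊗[R₁] S₀ →ₐ[R₂] R₂ ⊗[R] S := ψ.toAlgHom.comp φ
  -- contraction along `Φ` preserves lying over `P₂`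
  have hΦ : ∀ Q : Ideal (R₂ ⊗[R] S), Q.comap (algebraMap R₂ (R₂ ⊗[R] S)) = P₂ →
      (Q.comap Φ.toRingHom).LiesOver P₂ := by
    intro Q hQ
    constructor
    rw [Ideal.under, Ideal.comap_comap, ← hQ]
    congr 1
    apply RingHom.ext
    intro r
    exact (Φ.commutes r).symm
  have hU : ∀ Q Q' : Ideal (R₂ ⊗[R] S), Q.IsPrime → Q'.IsPrime →
      Q.comap (algebraMap R₂ (R₂ ⊗[R] S)) = P₂ → Q'.comap (algebraMap R₂ (R₂ ⊗[R] S)) = P₂ →
      Q.comap Φ.toRingHom = Q'.comap Φ.toRingHom → Q = Q' := by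
    intro Q Q' hQ hQ' hQP hQ'P h
    have hlies : ∀ Q : Ideal (R₂ ⊗[R] S), Q.comap (algebraMap R₂ (R₂ ⊗[R] S)) = P₂ →
        (Q.comap ψ.toRingHom).LiesOver P₂ := by
      intro Q hQ
      constructor
      rw [Ideal.under, Ideal.comap_comap, ← hQ]
      congr 1
      apply RingHom.ext
      intro r
      exact (ψ.commutes r).symm
    have h1 : (Q.comap ψ.toRingHom).LiesOver P₂ := hlies Q hQP
    have h2 : (Q'.comap ψ.toRingHom).LiesOver P₂ := hlies Q' hQ'P
    -- contraction to `S₁`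
    have hS₁ : ∀ Q : Ideal (R₂ ⊗[R] S), Q.IsPrime → Q.comap (algebraMap R₂ (R₂ ⊗[R] S)) = P₂ →
        (Q.comap ψ.toRingHom).comap (Algebra.TensorProduct.includeRight : S₁ →ₐ[R₁] R₂ ⊗[R₁] S₁).toRingHom ∈
          {Q : Ideal S₁ | Q.IsPrime ∧ Q.comap (algebraMap R₁ S₁) = P₁} := by
      intro Q hQ hQP
      refine ⟨inferInstance, ?_⟩
      rw [Ideal.over_def P₂ P₁, Ideal.under, ← hQP, Ideal.comap_comap, Ideal.comap_comap, Ideal.comap_comap]
      congr 1
      apply RingHom.ext
      intro r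
      change ψ ((Algebra.TensorProduct.includeRight : S₁ →ₐ[R₁] R₂ ⊗[R₁] S₁) (algebraMap R₁ S₁ r)) =
        algebraMap R₂ (R₂ ⊗[R] S) (algebraMap R₁ R₂ r)
      rw [AlgHom.commutes, ← ψ.commutes]
      congr 1
    have h3 : (Q.comap ψ.toRingHom).comap (Algebra.TensorProduct.includeRight : S₁ →ₐ[R₁] R₂ ⊗[R₁] S₁).toRingHom =
        (Q'.comap ψ.toRingHom).comap (Algebra.TensorProduct.includeRight : S₁ →ₐ[R₁] R₂ ⊗[R₁] S₁).toRingHom := by
      refine hsepS₀ _ (hS₁ Q hQ hQP) _ (hS₁ Q' hQ' hQ'P) ?_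
      have hcomp : ∀ Q : Ideal (R₂ ⊗[R] S), ((Q.comap ψ.toRingHom).comap
          (Algebra.TensorProduct.includeRight : S₁ →ₐ[R₁] R₂ ⊗[R₁] S₁).toRingHom).comap (algebraMap S₀ S₁) =
          (Q.comap Φ.toRingHom).comap (Algebra.TensorProduct.includeRight : S₀ →ₐ[R₁] R₂ ⊗[R₁] S₀).toRingHom := by
        intro Q
        rw [Ideal.comap_comap, Ideal.comap_comap, Ideal.comap_comap]
        rfl
      rw [hcomp, hcomp, h]
    have h4 : Q.comap ψ.toRingHom = Q'.comap ψ.toRingHom :=
      Ideal.eq_of_comap_eq_comap_of_bijective_residueFieldMap hbij _ _ h3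
    exact Ideal.comap_injective_of_surjective ψ.toRingHom ψ.surjective h4
  have hE : ∀ i, ∃ Q : Ideal (R₂ ⊗[R] S), Q.IsPrime ∧ Q.comap (algebraMap R₂ (R₂ ⊗[R] S)) = P₂ ∧
      Q.comap Φ.toRingHom = P' i := by
    intro i
    have hprime := hP'1 i
    have hlies := hP'2 i
    let q' : Ideal S₀ := (P' i).comap (Algebra.TensorProduct.includeRight : S₀ →ₐ[R₁] R₂ ⊗[R₁] S₀).toRingHom
    have hq'P : q'.comap (algebraMap R₁ S₀) = P₁ := by
      rw [Ideal.over_def P₂ P₁, Ideal.under, Ideal.over_def (P' i) P₂, Ideal.under, Ideal.comap_comap, Ideal.comap_comap]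
      congr 1
      apply RingHom.ext
      intro r
      change (Algebra.TensorProduct.includeRight : S₀ →ₐ[R₁] R₂ ⊗[R₁] S₀) (algebraMap R₁ S₀ r) =
        algebraMap R₂ (R₂ ⊗[R₁] S₀) (algebraMap R₁ R₂ r)
      rw [AlgHom.commutes, ← IsScalarTower.algebraMap_apply]
    have hint : Algebra.IsIntegral S₀ S₁ := Algebra.IsIntegral.tower_top R₁
    obtain ⟨Q₁, -, hQ₁, hQ₁q⟩ := Ideal.exists_ideal_over_prime_of_isIntegral q' (⊥ : Ideal S₁) (by
      intro x hx
      have : x = 0 := Subtype.ext hx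
      rw [this]; exact zero_mem _)
    obtain ⟨J, hJ, hJ1, hJ2⟩ := exists_prime_tensorProduct (R := R₁) P₂ Q₁ (by
      rw [← Ideal.under, ← Ideal.over_def P₂ P₁, ← hq'P, ← hQ₁q, Ideal.comap_comap]
      rfl)
    have hJφ : J.comap φ.toRingHom = P' i := by
      have hl : (J.comap φ.toRingHom).LiesOver P₂ := by
        constructor
        rw [Ideal.under, Ideal.comap_comap, ← hJ1]
        rfl
      refine Ideal.eq_of_comap_eq_comap_of_bijective_residueFieldMap hbij _ _ ?_
      change _ = q'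
      rw [← hQ₁q, ← hJ2, Ideal.comap_comap, Ideal.comap_comap]
      rfl
    refine ⟨J.comap ψ.symm.toRingHom, inferInstance, ?_, ?_⟩
    · rw [Ideal.comap_comap]
      rw [← hJ1]
      have : ψ.symm.toRingHom.comp (algebraMap R₂ (R₂ ⊗[R] S)) = algebraMap R₂ (R₂ ⊗[R₁] S₁) :=
        RingHom.ext fun r => ψ.symm.commutes r
      exact congrArg (fun g => Ideal.comap g J) this
    · rw [← hJφ, Ideal.comap_comap]
      congr 1
      apply RingHom.ext
      intro x
      change ψ.symm (ψ (φ x)) = φ x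
      rw [AlgEquiv.symm_apply_apply]
  have hn : n ≠ 0 := by
    rintro rfl
    obtain ⟨J, hJ, hJ1, hJ2⟩ := exists_prime_tensorProduct (R := R) P₂ q₀.asIdeal (by
      rw [hq₀]; exact (Ideal.over_def P₂ p).symm)
    have h1 := (hP'4 (J.comap Φ.toRingHom) inferInstance (hΦ J hJ1)).1
    have h2 : e (Fin.last 0) = 1 := by
      have := he.complete
      rwa [Fin.sum_univ_one] at this
    rw [h2] at h1
    exact (inferInstance : (J.comap Φ.toRingHom).IsPrime).ne_top ((Ideal.eq_top_iff_one _).mpr h1)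
  obtain ⟨n, rfl⟩ := Nat.exists_eq_succ_of_ne_zero hn
  refine ⟨R₂, inferInstance, inferInstance, hetale, P₂, inferInstance, inferInstance, n + 1,
    Φ ∘ (fun j : Fin (n + 1) => e j.castSucc + if j = 0 then e (Fin.last _) else 0), (merge n e he).map Φ.toRingHom,
    ?_, ?_, ?_⟩
  · intro j
    obtain ⟨Q, hQ, hQ1, hQ2⟩ := hE j
    refine ⟨Q, hQ, hQ1, fun hmem => ?_⟩
    have h1 := (hP'4 (Q.comap Φ.toRingHom) inferInstance (hΦ Q hQ1)).1
    have h2 : (e j.castSucc + if j = 0 then e (Fin.last _) else 0) ∈ Q.comap Φ.toRingHom := hmem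
    apply hP'3 j
    rw [← hQ2]
    refine (Ideal.add_mem_iff_left _ ?_).mp h2
    split_ifs
    · exact h1
    · exact zero_mem _
  · intro j Q Q' hQ hQ' hQP hQ'P hj hj'
    refine hU Q Q' hQ hQ' hQP hQ'P ?_
    have key : ∀ Q : Ideal (R₂ ⊗[R] S), Q.IsPrime → Q.comap (algebraMap R₂ (R₂ ⊗[R] S)) = P₂ →
        Φ (e j.castSucc + if j = 0 then e (Fin.last _) else 0) ∉ Q → Q.comap Φ.toRingHom = P' j := by
      intro Q hQ hQP hj
      have h1 := hP'4 (Q.comap Φ.toRingHom) inferInstance (hΦ Q hQP)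
      refine h1.2 j (fun hmem => hj ?_)
      change _ ∈ Q.comap Φ.toRingHom
      refine add_mem hmem ?_
      split_ifs
      · exact h1.1
      · exact zero_mem _
    rw [key Q hQ hQP hj, key Q' hQ' hQ'P hj']
  · intro M _ χ ρ hχρ s
    let ρ' : L →+* M := (ρ.comp (Ideal.ResidueField.mapₐ P₁ P₂ (Algebra.ofId R₁ R₂) (P₂.over_def P₁)).toRingHom).comp
      e₁.toRingHom
    obtain ⟨m, y, hy⟩ := pow_mem_range_of_splits p L ℓ (fun q hq y hy => hL3 ⟨q, hq⟩ y hy)
      (χ.comp (Algebra.TensorProduct.includeRight : S →ₐ[R] R₂ ⊗[R] S).toRingHom) ρ' (by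
        apply RingHom.ext
        intro r
        change χ ((Algebra.TensorProduct.includeRight : S →ₐ[R] R₂ ⊗[R] S) (algebraMap R S r)) =
          ρ (Ideal.ResidueField.mapₐ P₁ P₂ (Algebra.ofId R₁ R₂) (P₂.over_def P₁) (e₁ (algebraMap p.ResidueField L
            (algebraMap R p.ResidueField r))))
        rw [he₁, AlgHom.commutes, AlgHom.commutes]
        have h1 := RingHom.congr_fun hχρ (algebraMap R R₂ r)
        simp only [RingHom.comp_apply] at h1
        rw [← IsScalarTower.algebraMap_apply] at h1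
        rw [h1]
        congr 1
        rw [IsScalarTower.algebraMap_apply R R₁ P₁.ResidueField, AlgHom.commutes,
          IsScalarTower.algebraMap_apply R R₁ R₂]
        rfl) s
    exact ⟨m, _, hy⟩

end Groth.Agent.Flat2E.SplitIntegral2
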