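import Mathlib.AlgebraicGeometry.Morphisms.Finite
import Mathlib.AlgebraicGeometry.Fiber
import Mathlib.AlgebraicGeometry.Noetherian
import Mathlib.RingTheory.Ideal.GoingUp
import Mathlib.FieldTheory.SeparableClosure

/-!
# Fibres of the integral part of a Stein factorization

Let `h : X ⟶ Spec C` be surjective with `R → C` integral and `X ⟶ Spec R` quasi-compact, locally of finite type.
Then every prime of `R` has finitely many primes of `C` above it, with finite residue field extensions.
-/

set_option autoImplicit false
universe u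

namespace Groth.Agent.Flat2E.SteinFib

open AlgebraicGeometry CategoryTheory Limits

theorem eq_of_le_of_comap_eq {R C : Type*} [CommRing R] [CommRing C] [Algebra R C] [Algebra.IsIntegral R C]
    (q q' : PrimeSpectrum C) (hle : q ≤ q')
    (h : q.asIdeal.comap (algebraMap R C) = q'.asIdeal.comap (algebraMap R C)) : q = q' := by
  by_contra hne
  have hlt : q.asIdeal < q'.asIdeal := lt_of_le_of_ne hle fun h => hne (PrimeSpectrum.ext h)
  exact (Ideal.IsIntegral.comap_lt_comap (R := R) hlt).ne h

theorem finite_of_comp_finite {k l m : Type*} [Field k] [Field l] [Field m] (a : k →+* l) (b : l →+* m)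
    (h : (b.comp a).Finite) : a.Finite := by
  let _ : Algebra k l := a.toAlgebra
  let _ : Algebra k m := (b.comp a).toAlgebra
  have : Module.Finite k m := h
  let b' : l →ₗ[k] m :=
    { toFun := b
      map_add' := map_add b
      map_smul' := fun r x => by
        simp only [Algebra.smul_def, map_mul, RingHom.id_apply]
        rfl }
  exact Module.Finite.of_injective b' b.injective

variable {R C : Type u} [CommRing R] [CommRing C] [Algebra R C]
  {X : Scheme.{u}} (h : X ⟶ Spec (.of C)) (f : X ⟶ Spec (.of R))
  (hf : h ≫ Spec.map (CommRingCat.ofHom (algebraMap R C)) = f)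

include hf in
theorem comap_fiberι (p : Spec (.of R)) (x : f.fiber p) :
    (h (f.fiberι p x) : PrimeSpectrum C).asIdeal.comap (algebraMap R C) = p.asIdeal := by
  have h1 : f (f.fiberι p x) = p := by
    have : f.fiberι p x ∈ Set.range (f.fiberι p) := ⟨x, rfl⟩
    rw [Scheme.Hom.range_fiberι] at this
    exact this
  have h2 : (h ≫ Spec.map (CommRingCat.ofHom (algebraMap R C))) (f.fiberι p x) = p := by
    rw [hf]; exact h1
  exact congrArg PrimeSpectrum.asIdeal h2

include hf in
theorem exists_fiber_point [Surjective h] (p : Spec (.of R)) (q : PrimeSpectrum C)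
    (hq : q.asIdeal.comap (algebraMap R C) = p.asIdeal) :
    ∃ x : f.fiber p, h (f.fiberι p x) = q := by
  obtain ⟨y, hy⟩ := h.surjective q
  have h1 : f y = p := by
    rw [← hf, Scheme.Hom.comp_apply, hy]
    exact PrimeSpectrum.ext hq
  have h2 : y ∈ Set.range (f.fiberι p) := by
    rw [Scheme.Hom.range_fiberι]; exact h1
  obtain ⟨x, rfl⟩ := h2
  exact ⟨x, hy⟩

include hf in
theorem specializes_eq [Algebra.IsIntegral R C] (p : Spec (.of R)) {x y : f.fiber p} (hxy : x ⤳ y) :
    h (f.fiberι p x) = h (f.fiberι p y) := by
  have h1 : h (f.fiberι p x) ⤳ h (f.fiberι p y) := (hxy.map (f.fiberι p).continuous).map h.continuous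
  refine eq_of_le_of_comap_eq (R := R) _ _ ((PrimeSpectrum.le_iff_specializes _ _).mpr h1) ?_
  rw [comap_fiberι h f hf, comap_fiberι h f hf]

include h f hf in
theorem finite_primes [Algebra.IsIntegral R C] [Surjective h] [LocallyOfFiniteType f] [QuasiCompact f] (p : Spec (.of R)) :
    {q : PrimeSpectrum C | q.asIdeal.comap (algebraMap R C) = p.asIdeal}.Finite := by
  have h1 : LocallyOfFiniteType (f.fiberToSpecResidueField p) := inferInstanceAs (LocallyOfFiniteType (pullback.snd _ _))
  have h2 : IsLocallyNoetherian (f.fiber p) := LocallyOfFiniteType.isLocallyNoetherian (f.fiberToSpecResidueField p)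
  have h3 : CompactSpace (f.fiber p) := inferInstance
  have h4 : IsNoetherian (f.fiber p) := ⟨⟩
  have h5 : (irreducibleComponents (f.fiber p)).Finite := TopologicalSpace.NoetherianSpace.finite_irreducibleComponents
  -- choose generic points
  let g : irreducibleComponents (f.fiber p) → PrimeSpectrum C := fun Z => h (f.fiberι p Z.2.1.genericPoint)
  have h6 : Finite (irreducibleComponents (f.fiber p)) := h5
  refine (Set.finite_range g).subset fun q hq => ?_
  obtain ⟨x, hx⟩ := exists_fiber_point h f hf p q hq
  refine ⟨⟨irreducibleComponent x, irreducibleComponent_mem_irreducibleComponents x⟩, ?_⟩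
  rw [← hx]
  refine specializes_eq h f hf p ?_
  exact ((isIrreducible_irreducibleComponent).isGenericPoint_genericPoint
    isClosed_irreducibleComponent).specializes mem_irreducibleComponent

include h f hf in
theorem exists_closed_fiber_point [Algebra.IsIntegral R C] [Surjective h] [LocallyOfFiniteType f] [QuasiCompact f]
    (p : Spec (.of R)) (q : PrimeSpectrum C) (hq : q.asIdeal.comap (algebraMap R C) = p.asIdeal) :
    ∃ x : f.fiber p, h (f.fiberι p x) = q ∧
      IsFinite ((f.fiber p).fromSpecResidueField x ≫ f.fiberToSpecResidueField p) := by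
  obtain ⟨x₀, hx₀⟩ := exists_fiber_point h f hf p q hq
  obtain ⟨x, hx1, hx2⟩ := IsClosed.exists_closed_singleton (isClosed_closure (s := {x₀})) (by simp)
  have hx3 : h (f.fiberι p x) = q := by
    rw [← hx₀]
    exact (specializes_eq h f hf p (specializes_iff_mem_closure.mpr hx1)).symm
  -- the residue field of `x` is finite
  have h1 : LocallyOfFiniteType (f.fiberToSpecResidueField p) := inferInstanceAs (LocallyOfFiniteType (pullback.snd _ _))
  have : IsClosedImmersion ((f.fiber p).fromSpecResidueField x) := isClosed_singleton_iff_isClosedImmersion.mp hx2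
  have hfin : IsFinite ((f.fiber p).fromSpecResidueField x ≫ f.fiberToSpecResidueField p) := by
    rw [isFinite_iff_locallyOfFiniteType_of_jacobsonSpace]
    infer_instance
  exact ⟨x, hx3, hfin⟩

include h f hf in
theorem finite_residueField_aux [Algebra.IsIntegral R C] [Surjective h] [LocallyOfFiniteType f] [QuasiCompact f]
    (p : Spec (.of R)) (q : PrimeSpectrum C) (hq : q.asIdeal.comap (algebraMap R C) = p.asIdeal)
    (hp : p.asIdeal.IsPrime) :
    (Ideal.ResidueField.map p.asIdeal q.asIdeal (algebraMap R C) hq.symm).Finite := by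
  obtain ⟨x, hx, hfin⟩ := exists_closed_fiber_point h f hf p q hq
  -- the field of definition of `x`
  obtain ⟨φ, hφ⟩ := Spec.map_surjective ((f.fiber p).fromSpecResidueField x ≫ f.fiberι p ≫ h)
  obtain ⟨ψ, hψ⟩ := Spec.map_surjective ((f.fiber p).fromSpecResidueField x ≫ f.fiberToSpecResidueField p)
  have hψfin : ψ.hom.Finite := by
    rw [← IsFinite.SpecMap_iff, hψ]
    exact hfin
  have hker : RingHom.ker φ.hom = q.asIdeal := by
    have h0 : ∀ y : Spec ((f.fiber p).residueField x), (Spec.map φ) y = q := by
      intro y
      rw [hφ, Scheme.Hom.comp_apply, Scheme.Hom.comp_apply, Scheme.fromSpecResidueField_apply, hx]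
    have h1 := h0 (⊥ : PrimeSpectrum _)
    have h2 := congrArg PrimeSpectrum.asIdeal h1
    exact h2
  let b : q.asIdeal.ResidueField →+* (f.fiber p).residueField x :=
    Ideal.ResidueField.lift q.asIdeal φ.hom hker.ge (fun y hy => by
      rw [Submonoid.mem_comap]
      have : φ.hom y ≠ 0 := fun h0 => hy (hker ▸ h0)
      exact IsUnit.mk0 _ this)
  refine finite_of_comp_finite _ b ?_
  have hcomp : b.comp (Ideal.ResidueField.map p.asIdeal q.asIdeal (algebraMap R C) hq.symm) =
      ψ.hom.comp (Scheme.Spec.residueFieldIso (.of R) p).inv.hom := by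
    apply Ideal.ResidueField.ringHom_ext
    have h3 : CommRingCat.ofHom (algebraMap R p.asIdeal.ResidueField) ≫
        (Scheme.Spec.residueFieldIso (.of R) p).inv ≫ ψ = CommRingCat.ofHom (algebraMap R C) ≫ φ := by
      apply Spec.map_injective
      rw [Spec.map_comp, Spec.map_comp, Spec.map_comp, hψ, hφ, Category.assoc, Category.assoc, Category.assoc,
        Category.assoc]
      rw [hf]
      have h4 := Scheme.Spec.map_residueFieldIso_inv_eq_fromSpecResidueField (.of R) p
      rw [h4]
      rw [f.fiber_fac]
    ext r
    simp only [RingHom.comp_apply, Ideal.ResidueField.map_algebraMap]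
    have h5 := congr(($h3).hom r)
    simp only [CommRingCat.hom_comp, CommRingCat.hom_ofHom, RingHom.comp_apply] at h5
    rw [h5]
    exact Ideal.ResidueField.lift_algebraMap (I := q.asIdeal) φ.hom _ _ _
  rw [hcomp]
  refine RingHom.Finite.comp hψfin ?_
  refine RingHom.Finite.of_surjective _ ?_
  exact ((ConcreteCategory.isIso_iff_bijective (Scheme.Spec.residueFieldIso (.of R) p).inv).mp inferInstance).2

include h f hf in
/-- The residue field extensions of the primes of `C` over `p` are finite. -/
theorem finite_residueField [Algebra.IsIntegral R C] [Surjective h] [LocallyOfFiniteType f] [QuasiCompact f]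
    (p : Ideal R) [hp : p.IsPrime] (q : PrimeSpectrum C) (hq : q.asIdeal.comap (algebraMap R C) = p) :
    (Ideal.ResidueField.map p q.asIdeal (algebraMap R C) hq.symm).Finite :=
  finite_residueField_aux h f hf ⟨p, hp⟩ q hq hp

end Groth.Agent.Flat2E.SteinFib
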