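import Mathlib.AlgebraicGeometry.Morphisms.UniversallyOpen
import Mathlib.AlgebraicGeometry.AffineSpace
import Mathlib.RingTheory.LocalRing.ResidueField.Ideal
import Mathlib.RingTheory.Flat.FaithfullyFlat.Algebra

/-!
# Universal openness of a morphism of affine schemes via linear forms

Stacks Tags 0F31, 0F32, 0F33.
-/

set_option autoImplicit false
universe u w u₁ u₂ u₃

namespace Groth.Agent.Flat2E.UnivOpen

open TensorProduct

/-- Two primes of `A`, `B` with the same restriction to `R` are kernels of compatible maps to a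
common field. -/
lemma exists_common_field {R : Type u₁} {A : Type u₂} {B : Type u₃}
    [CommRing R] [CommRing A] [CommRing B]
    (f : R →+* A) (g : R →+* B) (p : PrimeSpectrum A) (q : PrimeSpectrum B)
    (h : PrimeSpectrum.comap f p = PrimeSpectrum.comap g q) :
    ∃ (L : Type (max u₂ u₃)) (_ : Field L) (α : A →+* L) (β : B →+* L),
      RingHom.ker α = p.asIdeal ∧ RingHom.ker β = q.asIdeal ∧ α.comp f = β.comp g := by
  let P : Ideal R := p.asIdeal.comap f
  have hP : P.IsPrime := inferInstance
  have hq : P = q.asIdeal.comap g := congrArg PrimeSpectrum.asIdeal h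
  let i : P.ResidueField →+* p.asIdeal.ResidueField := Ideal.ResidueField.map P p.asIdeal f rfl
  let j : P.ResidueField →+* q.asIdeal.ResidueField := Ideal.ResidueField.map P q.asIdeal g hq
  let _ := i.toAlgebra
  let _ := j.toAlgebra
  let T := p.asIdeal.ResidueField ⊗[P.ResidueField] q.asIdeal.ResidueField
  obtain ⟨M, hM⟩ := Ideal.exists_maximal T
  let L := T ⧸ M
  let _ : Field L := Ideal.Quotient.field M
  let α' : p.asIdeal.ResidueField →+* L := (Ideal.Quotient.mk M).comp
    Algebra.TensorProduct.includeLeftRingHom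
  let β' : q.asIdeal.ResidueField →+* L := (Ideal.Quotient.mk M).comp
    (Algebra.TensorProduct.includeRight :
      q.asIdeal.ResidueField →ₐ[P.ResidueField] T).toRingHom
  have hαβ : α'.comp i = β'.comp j := by
    refine RingHom.ext fun x => ?_
    change Ideal.Quotient.mk M ((algebraMap P.ResidueField p.asIdeal.ResidueField x) ⊗ₜ 1) =
      Ideal.Quotient.mk M (1 ⊗ₜ (algebraMap P.ResidueField q.asIdeal.ResidueField x))
    rw [Algebra.TensorProduct.tmul_one_eq_one_tmul]
  refine ⟨L, inferInstance, α'.comp (algebraMap A p.asIdeal.ResidueField),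
    β'.comp (algebraMap B q.asIdeal.ResidueField), ?_, ?_, ?_⟩
  · rw [← RingHom.comap_ker, (RingHom.injective_iff_ker_eq_bot α').mp α'.injective,
      ← RingHom.ker_eq_comap_bot, Ideal.ker_algebraMap_residueField]
  · rw [← RingHom.comap_ker, (RingHom.injective_iff_ker_eq_bot β').mp β'.injective,
      ← RingHom.ker_eq_comap_bot, Ideal.ker_algebraMap_residueField]
  · ext x
    have h1 := DFunLike.congr_fun hαβ (algebraMap R P.ResidueField x)
    simp only [RingHom.comp_apply, i, j, Ideal.ResidueField.map_algebraMap] at h1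
    exact h1

/-- The image of the basic open of an element of `A' ⊗ B` is the preimage of the image of the
basic open of the corresponding linear form. -/
lemma image_basicOpen_tensor {A B A' : Type u} [CommRing A] [CommRing B] [Algebra A B]
    [CommRing A'] [Algebra A A'] {σ : Type w} [Fintype σ] (a : σ → A') (b : σ → B) :
    (PrimeSpectrum.comap (algebraMap A' (A' ⊗[A] B)) ''
      (PrimeSpectrum.basicOpen (∑ i, a i ⊗ₜ[A] b i) : Set (PrimeSpectrum (A' ⊗[A] B)))) =
    PrimeSpectrum.comap (MvPolynomial.aeval (R := A) a).toRingHom ⁻¹'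
      (PrimeSpectrum.comap (MvPolynomial.map (σ := σ) (algebraMap A B)) ''
        (PrimeSpectrum.basicOpen (∑ i : σ, MvPolynomial.X i * MvPolynomial.C (b i)) :
          Set (PrimeSpectrum (MvPolynomial σ B)))) := by
  let ψ : MvPolynomial σ A →+* A' := (MvPolynomial.aeval (R := A) a).toRingHom
  let θ : MvPolynomial σ B →+* A' ⊗[A] B :=
    MvPolynomial.eval₂Hom (Algebra.TensorProduct.includeRight : B →ₐ[A] A' ⊗[A] B).toRingHom
      (fun i => a i ⊗ₜ 1)
  have hθ : θ (∑ i : σ, MvPolynomial.X i * MvPolynomial.C (b i)) = ∑ i, a i ⊗ₜ[A] b i := by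
    rw [map_sum]
    refine Finset.sum_congr rfl fun i _ => ?_
    simp [θ]
  have hcomm : θ.comp (MvPolynomial.map (σ := σ) (algebraMap A B)) =
      (algebraMap A' (A' ⊗[A] B)).comp ψ := by
    apply MvPolynomial.ringHom_ext
    · intro r
      simp [θ, ψ, Algebra.TensorProduct.algebraMap_apply, Algebra.TensorProduct.tmul_one_eq_one_tmul]
    · intro i
      simp [θ, ψ, Algebra.TensorProduct.algebraMap_apply]
  ext q'
  constructor
  · rintro ⟨Q', hQ', rfl⟩
    refine ⟨PrimeSpectrum.comap θ Q', ?_, ?_⟩
    · intro h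
      apply hQ'
      have h2 : θ (∑ i : σ, MvPolynomial.X i * MvPolynomial.C (b i)) ∈ Q'.asIdeal := h
      rwa [hθ] at h2
    · rw [← PrimeSpectrum.comap_comp_apply, hcomm, PrimeSpectrum.comap_comp_apply]
  · rintro ⟨Q, hQ, hQq⟩
    obtain ⟨L, _, α, β, hα, hβ, hαβ⟩ := exists_common_field _ _ q' Q hQq.symm
    let _ : Algebra A L := (α.comp (algebraMap A A')).toAlgebra
    let α1 : A' →ₐ[A] L := { α with commutes' := fun _ => rfl }
    let β1 : B →ₐ[A] L := { β.comp MvPolynomial.C with
      commutes' := fun r => by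
        have := DFunLike.congr_fun hαβ (MvPolynomial.C r)
        simp only [RingHom.comp_apply, MvPolynomial.map_C] at this
        change β (MvPolynomial.C (algebraMap A B r)) = α (algebraMap A A' r)
        rw [← this]
        congr 1
        exact MvPolynomial.aeval_C a r }
    let γ : A' ⊗[A] B →ₐ[A] L := Algebra.TensorProduct.lift α1 β1 (fun _ _ => .all _ _)
    refine ⟨⟨RingHom.ker γ.toRingHom, RingHom.ker_isPrime _⟩, ?_, ?_⟩
    · intro h
      apply hQ
      have h2 : γ (∑ i, a i ⊗ₜ[A] b i) = 0 := h
      have hγθ : γ.toRingHom.comp θ = β := by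
        apply MvPolynomial.ringHom_ext
        · intro r
          simp [θ, γ, β1]
        · intro i
          have := DFunLike.congr_fun hαβ (MvPolynomial.X i)
          simp only [RingHom.comp_apply, MvPolynomial.map_X] at this
          rw [← this]
          simp [θ, γ, α1]
      rw [← hθ] at h2
      have h3 : β (∑ i : σ, MvPolynomial.X i * MvPolynomial.C (b i)) = 0 := by
        rw [← hγθ]; exact h2
      rw [← hβ]
      exact h3
    · apply PrimeSpectrum.ext
      change Ideal.comap (algebraMap A' (A' ⊗[A] B)) (RingHom.ker γ.toRingHom) = q'.asIdeal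
      rw [RingHom.comap_ker, ← hα]
      congr 1
      ext x
      simp [γ, α1]

open AlgebraicGeometry CategoryTheory Limits MorphismProperty

theorem isOpenMap_of_linear {A B A' : Type u} [CommRing A] [CommRing B] [Algebra A B]
    [CommRing A'] [Algebra A A']
    (H : ∀ (g : A' ⊗[A] B),
      ∃ (σ : Type w) (_ : Fintype σ) (a : σ → A') (b : σ → B), g = ∑ i, a i ⊗ₜ b i ∧
        IsOpen (PrimeSpectrum.comap (MvPolynomial.map (σ := σ) (algebraMap A B)) ''
          (PrimeSpectrum.basicOpen (∑ i : σ, MvPolynomial.X i * MvPolynomial.C (b i)) :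
            Set (PrimeSpectrum (MvPolynomial σ B))))) :
    IsOpenMap (PrimeSpectrum.comap (algebraMap A' (A' ⊗[A] B))) := by
  rw [PrimeSpectrum.isTopologicalBasis_basic_opens.isOpenMap_iff]
  rintro _ ⟨g, rfl⟩
  obtain ⟨σ, _, a, b, rfl, hopen⟩ := H g
  rw [image_basicOpen_tensor]
  exact hopen.preimage (PrimeSpectrum.continuous_comap _)

/-- Universal openness of `Spec B → Spec A` may be tested on linear forms. -/
theorem universallyOpen_Spec_map_of_linear {A B : Type u} [CommRing A] [CommRing B] [Algebra A B]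
    (H : ∀ (A' : Type u) [CommRing A'] [Algebra A A'] (g : A' ⊗[A] B),
      ∃ (σ : Type w) (_ : Fintype σ) (a : σ → A') (b : σ → B), g = ∑ i, a i ⊗ₜ b i ∧
        IsOpen (PrimeSpectrum.comap (MvPolynomial.map (σ := σ) (algebraMap A B)) ''
          (PrimeSpectrum.basicOpen (∑ i : σ, MvPolynomial.X i * MvPolynomial.C (b i)) :
            Set (PrimeSpectrum (MvPolynomial σ B))))) :
    UniversallyOpen (Spec.map (CommRingCat.ofHom (algebraMap A B))) := by
  refine ⟨universally_mk' _ _ fun {T} g _ ↦ ?_⟩
  wlog hT : ∃ R, T = Spec R generalizing T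
  · refine (IsZariskiLocalAtTarget.iff_of_openCover (P := topologically IsOpenMap)
      T.affineCover).mpr fun i ↦ ?_
    refine (MorphismProperty.cancel_left_of_respectsIso _
      ((pullbackRightPullbackFstIso ..).inv ≫ (pullbackSymmetry ..).hom) _).mp ?_
    simpa [Scheme.Cover.pullbackHom] using! this _ _ ⟨_, rfl⟩
  obtain ⟨R, rfl⟩ := hT
  obtain ⟨ψ, rfl⟩ := Spec.map_surjective g
  let _ : Algebra A R := ψ.hom.toAlgebra
  refine (MorphismProperty.cancel_left_of_respectsIso _ (pullbackSpecIso A R B).inv _).mp ?_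
  convert_to! topologically _ (Spec.map <| CommRingCat.ofHom (algebraMap R (TensorProduct A R B)))
  · exact pullbackSpecIso_inv_fst ..
  · exact isOpenMap_of_linear (H R)

/-- The finite sum form of an element of a tensor product. -/
lemma exists_sum_tmul {A B A' : Type u} [CommRing A] [CommRing B] [Algebra A B]
    [CommRing A'] [Algebra A A'] (g : A' ⊗[A] B) :
    ∃ (n : ℕ) (a : Fin n → A') (b : Fin n → B), g = ∑ i, a i ⊗ₜ b i := by
  obtain ⟨S, hS⟩ := TensorProduct.exists_finset g
  refine ⟨S.card, fun i => (S.equivFin.symm i).1.1, fun i => (S.equivFin.symm i).1.2, ?_⟩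
  rw [hS]
  rw [← Finset.sum_coe_sort, ← S.equivFin.symm.sum_comp]

/-- If `b` generates `B` over `A` then every element of `A' ⊗ B` is a linear combination. -/
lemma exists_sum_tmul_of_span {A B A' : Type u} [CommRing A] [CommRing B] [Algebra A B]
    [CommRing A'] [Algebra A A'] {d : ℕ} (b : Fin d → B)
    (hb : Submodule.span A (Set.range b) = ⊤) (g : A' ⊗[A] B) :
    ∃ (a : Fin d → A'), g = ∑ i, a i ⊗ₜ b i := by
  induction g using TensorProduct.induction_on with
  | zero => exact ⟨0, by simp⟩
  | tmul x y =>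
    have hy : y ∈ Submodule.span A (Set.range b) := by rw [hb]; trivial
    rw [Submodule.mem_span_range_iff_exists_fun] at hy
    obtain ⟨c, rfl⟩ := hy
    refine ⟨fun i => c i • x, ?_⟩
    rw [tmul_sum]
    refine Finset.sum_congr rfl fun i _ => ?_
    rw [tmul_smul, smul_tmul']
  | add x y hx hy =>
    obtain ⟨a, rfl⟩ := hx
    obtain ⟨a', rfl⟩ := hy
    refine ⟨a + a', ?_⟩
    rw [← Finset.sum_add_distrib]
    refine Finset.sum_congr rfl fun i _ => ?_
    rw [Pi.add_apply, add_tmul]

end Groth.Agent.Flat2E.UnivOpen
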