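import Groth.Agent.S0437
import Mathlib.RingTheory.Flat.TorsionFree
import Mathlib.RingTheory.Nakayama
import Mathlib.RingTheory.Valuation.ValuationRing
import Mathlib.RingTheory.QuasiFinite.Basic
import Mathlib.RingTheory.Algebraic.Integral

/-!
# Algebra over a valuation ring: elements of algebras with integral closed fibre
-/

set_option autoImplicit false
universe u

namespace Groth.Agent.Flat2E.ValTriv1

open IsLocalRing TensorProduct

section

variable {A B : Type u} [CommRing A] [IsDomain A] [ValuationRing A] [CommRing B] [Algebra A B]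

/-- An element of `m B` is divisible by an element of `m`. -/
theorem exists_dvd_of_mem_map {z : B} (hz : z ∈ (maximalIdeal A).map (algebraMap A B)) :
    ∃ a ∈ maximalIdeal A, ∃ z', z = algebraMap A B a * z' := by
  induction hz using Submodule.span_induction with
  | mem x hx =>
    obtain ⟨a, ha, rfl⟩ := hx
    exact ⟨a, ha, 1, (mul_one _).symm⟩
  | zero => exact ⟨0, Submodule.zero_mem _, 0, by simp⟩
  | add x y _ _ hx hy =>
    obtain ⟨a, ha, x', rfl⟩ := hx
    obtain ⟨b, hb, y', rfl⟩ := hy
    rcases ValuationRing.dvd_total a b with ⟨c, rfl⟩ | ⟨c, rfl⟩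
    · exact ⟨a, ha, x' + algebraMap A B c * y', by rw [map_mul]; ring⟩
    · exact ⟨b, hb, algebraMap A B c * x' + y', by rw [map_mul]; ring⟩
  | smul r x _ hx =>
    obtain ⟨a, ha, x', rfl⟩ := hx
    exact ⟨a, ha, r * x', by simp only [smul_eq_mul]; ring⟩

theorem flat_of_torsionFree {M : Type*} [AddCommGroup M] [Module A M]
    (h : ∀ (a : A) (m : M), a ≠ 0 → a • m = 0 → m = 0) : Module.Flat A M := by
  rw [Module.Flat.flat_iff_torsion_eq_bot_of_isBezout, eq_bot_iff]
  intro x hx
  obtain ⟨a, ha⟩ := hx
  exact h a x (nonZeroDivisors.ne_zero a.2) ha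

omit [ValuationRing A] in
theorem eq_zero_of_smul {M : Type*} [AddCommGroup M] [Module A M] [Module.Flat A M]
    {a : A} (ha : a ≠ 0) {m : M} (h : a • m = 0) : m = 0 := by
  have := Module.Flat.isSMulRegular_of_nonZeroDivisors (M := M) (mem_nonZeroDivisors_of_ne_zero ha)
  exact this (by simpa using h)

omit [ValuationRing A] in
theorem eq_zero_of_algebraMap_mul [Module.Flat A B] {a : A} (ha : a ≠ 0) {b : B}
    (h : algebraMap A B a * b = 0) : b = 0 :=
  eq_zero_of_smul (A := A) ha (by rw [Algebra.smul_def]; exact h)

/-- Let `B` be a flat finite type algebra over a valuation ring `A` with integral closed fibre.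
For `g ∈ B` and `0 ≠ c ∈ A`, one of `g`, `c` divides the other in the local ring at the generic
point of the closed fibre. -/
theorem exists_dvd_or_dvd [Algebra.FiniteType A B] [Module.Flat A B]
    (hq : ((maximalIdeal A).map (algebraMap A B)).IsPrime) (g : B) (c : A) (hc : c ≠ 0) :
    ∃ h ∉ (maximalIdeal A).map (algebraMap A B),
      (algebraMap A B c ∣ h * g) ∨ (g ∣ h * algebraMap A B c) := by
  set q := (maximalIdeal A).map (algebraMap A B) with hqdef
  set C := algebraMap A B c with hC
  -- the ideal generated by `c` and `g`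
  let φ : (B × B) →ₗ[B] B :=
    (LinearMap.toSpanSingleton B B C).comp (LinearMap.fst B B B) +
      (LinearMap.toSpanSingleton B B g).comp (LinearMap.snd B B B)
  have hφ : ∀ x y, φ (x, y) = x * C + y * g := fun x y => by simp [φ]
  have hflat : Module.Flat A (LinearMap.range φ) := by
    refine flat_of_torsionFree fun a m ha hm => ?_
    apply Subtype.ext
    have h1 := congrArg Subtype.val hm
    exact eq_zero_of_smul (A := A) ha h1
  have hfp : Module.FinitePresentation B (LinearMap.range φ) :=
    Groth.Agent.S0437.result (A := A)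
  have hfg : (LinearMap.ker φ).FG := by
    have h1 := Module.FinitePresentation.fg_ker φ.rangeRestrict φ.surjective_rangeRestrict
    rwa [LinearMap.ker_rangeRestrict] at h1
  by_cases hall : ∀ z ∈ LinearMap.ker φ, z.1 ∈ q ∧ z.2 ∈ q
  · exfalso
    have hle : LinearMap.ker φ ≤ q • LinearMap.ker φ := by
      rintro ⟨x, y⟩ hz
      obtain ⟨hx, hy⟩ := hall _ hz
      obtain ⟨a, ha, x', hx'⟩ := exists_dvd_of_mem_map hx
      obtain ⟨b, hb, y', hy'⟩ := exists_dvd_of_mem_map hy
      simp only at hx' hy'
      have key : ∃ d ∈ maximalIdeal A, ∃ x'' y'', x = algebraMap A B d * x'' ∧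
          y = algebraMap A B d * y'' := by
        rcases ValuationRing.dvd_total a b with ⟨e, rfl⟩ | ⟨e, rfl⟩
        · exact ⟨a, ha, x', algebraMap A B e * y', hx', by rw [hy', map_mul]; ring⟩
        · exact ⟨b, hb, algebraMap A B e * x', y', by rw [hx', map_mul]; ring, hy'⟩
      obtain ⟨d, hd, x'', y'', rfl, rfl⟩ := key
      by_cases hd0 : d = 0
      · subst hd0
        simp only [map_zero, zero_mul]
        exact Submodule.zero_mem _
      · have hk : (x'', y'') ∈ LinearMap.ker φ := by
          rw [LinearMap.mem_ker, hφ] at hz ⊢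
          apply eq_zero_of_algebraMap_mul (A := A) hd0
          rw [← hz]; ring
        have : (algebraMap A B d * x'', algebraMap A B d * y'') =
            algebraMap A B d • (x'', y'') := rfl
        rw [this]
        exact Submodule.smul_mem_smul (Ideal.mem_map_of_mem _ hd) hk
    obtain ⟨r, hr, hr'⟩ := Submodule.exists_sub_one_mem_and_smul_eq_zero_of_fg_of_le_smul q
      (LinearMap.ker φ) hfg hle
    have h1 : (g, -C) ∈ LinearMap.ker φ := by
      rw [LinearMap.mem_ker, hφ]; ring
    have h2 := hr' _ h1
    have h3 : r * C = 0 := by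
      have := congrArg Prod.snd h2
      simpa using this
    have h4 : r = 0 := eq_zero_of_algebraMap_mul (A := A) hc (by rw [← hC, mul_comm]; exact h3)
    rw [h4] at hr
    apply hq.ne_top
    rw [Ideal.eq_top_iff_one]
    simpa using hr
  · push Not at hall
    obtain ⟨⟨x, y⟩, hz, hxy⟩ := hall
    rw [LinearMap.mem_ker, hφ] at hz
    by_cases hx : x ∈ q
    · refine ⟨y, hxy hx, Or.inl ⟨-x, ?_⟩⟩
      linear_combination hz
    · refine ⟨x, hx, Or.inr ⟨-y, ?_⟩⟩
      linear_combination hz

/-- Among finitely many elements of a valuation ring, one divides all others. -/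
theorem exists_dvd_all {ι : Type*} (s : Finset ι) (f : ι → A) (hs : s.Nonempty) :
    ∃ i ∈ s, ∀ j ∈ s, f i ∣ f j := by
  classical
  induction hs using Finset.Nonempty.cons_induction with
  | singleton a => exact ⟨a, by simp, by simp⟩
  | cons a s ha hs ih =>
    obtain ⟨i, hi, h⟩ := ih
    rcases ValuationRing.dvd_total (f a) (f i) with h1 | h1
    · refine ⟨a, by simp, fun j hj => ?_⟩
      rcases Finset.mem_cons.1 hj with rfl | hj
      · exact dvd_rfl
      · exact h1.trans (h j hj)
    · refine ⟨i, by simp [hi], fun j hj => ?_⟩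
      rcases Finset.mem_cons.1 hj with rfl | hj
      · exact h1
      · exact h j hj

/-- A nonzero polynomial over a valuation ring is a constant times a polynomial having `1` as a
coefficient. -/
theorem exists_primitive (p : Polynomial A) (hp : p ≠ 0) :
    ∃ (a : A) (p' : Polynomial A) (i : ℕ), a ≠ 0 ∧ p = Polynomial.C a * p' ∧ p'.coeff i = 1 := by
  obtain ⟨i, hi, h⟩ := exists_dvd_all p.support (fun i => p.coeff i)
    (Polynomial.support_nonempty.2 hp)
  have hi0 : p.coeff i ≠ 0 := Polynomial.mem_support_iff.1 hi
  have hdvd : Polynomial.C (p.coeff i) ∣ p := by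
    rw [Polynomial.C_dvd_iff_dvd_coeff]
    intro j
    by_cases hj : j ∈ p.support
    · exact h j hj
    · rw [Polynomial.notMem_support_iff.1 hj]
      exact dvd_zero _
  obtain ⟨p', hp'⟩ := hdvd
  refine ⟨p.coeff i, p', i, hi0, hp', ?_⟩
  have h1 : p.coeff i = p.coeff i * p'.coeff i := by
    conv_lhs => rw [hp']
    rw [Polynomial.coeff_C_mul]
  have h2 : p.coeff i * (p'.coeff i - 1) = 0 := by rw [mul_sub, ← h1]; ring
  rcases mul_eq_zero.1 h2 with h3 | h3
  · exact absurd h3 hi0
  · exact sub_eq_zero.1 h3

/-- A torsion free finite type algebra over a valuation ring all of whose elements are algebraic is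
quasi-finite. -/
theorem quasiFinite_of_isAlgebraic [Algebra.FiniteType A B] [Module.Flat A B]
    (h : Algebra.IsAlgebraic A B) : Algebra.QuasiFinite A B := by
  refine ⟨fun P _ => ?_⟩
  have hint : Algebra.IsIntegral P.ResidueField (P.Fiber B) := by
    refine ⟨fun z => ?_⟩
    have key : ∀ b : B, IsIntegral P.ResidueField ((1 : P.ResidueField) ⊗ₜ[A] b : P.Fiber B) := by
      intro b
      obtain ⟨p, hp, hpb⟩ := h.isAlgebraic b
      obtain ⟨a, p', i, ha, hpp, hi⟩ := exists_primitive p hp
      have hb' : Polynomial.aeval b p' = 0 := by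
        rw [hpp, map_mul, Polynomial.aeval_C] at hpb
        exact eq_zero_of_algebraMap_mul ha hpb
      have halg : IsAlgebraic P.ResidueField ((1 : P.ResidueField) ⊗ₜ[A] b : P.Fiber B) := by
        refine ⟨p'.map (algebraMap A P.ResidueField), ?_, ?_⟩
        · intro h0
          have := congrArg (fun q => Polynomial.coeff q i) h0
          simp [hi] at this
        · rw [Polynomial.aeval_map_algebraMap]
          have h2 : Polynomial.aeval ((1 : P.ResidueField) ⊗ₜ[A] b : P.Fiber B) p' =
              Algebra.TensorProduct.includeRight (Polynomial.aeval b p') := by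
            rw [← Polynomial.aeval_algHom_apply]
            rfl
          rw [h2, hb', map_zero]
      exact halg.isIntegral
    induction z using TensorProduct.induction_on with
    | zero => exact isIntegral_zero
    | tmul r b =>
      have : (r ⊗ₜ[A] b : P.Fiber B) = r • ((1 : P.ResidueField) ⊗ₜ[A] b) := by
        rw [TensorProduct.smul_tmul', smul_eq_mul, mul_one]
      rw [this]
      exact (key b).smul r
    | add x y hx hy => exact hx.add hy
  have hft : Algebra.FiniteType P.ResidueField (P.Fiber B) := inferInstance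
  exact Algebra.IsIntegral.finite

/-- Content of an element of a finite free algebra over a valuation ring. -/
theorem exists_content [Module.Free A B] (g : B) (hg : g ≠ 0) :
    ∃ (c : A) (g' : B), c ≠ 0 ∧ g = algebraMap A B c * g' ∧
      g' ∉ (maximalIdeal A).map (algebraMap A B) := by
  let b := Module.Free.chooseBasis A B
  have hsupp : (b.repr g).support.Nonempty := by
    rw [Finsupp.support_nonempty_iff]
    simpa using hg
  obtain ⟨i, hi, h⟩ := exists_dvd_all (b.repr g).support (fun i => b.repr g i) hsupp
  have hi0 : b.repr g i ≠ 0 := Finsupp.mem_support_iff.1 hi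
  have hdvd : ∀ j, b.repr g i ∣ b.repr g j := by
    intro j
    by_cases hj : j ∈ (b.repr g).support
    · exact h j hj
    · rw [Finsupp.notMem_support_iff.1 hj]
      exact dvd_zero _
  choose f hf using hdvd
  have hfi : f i = 1 := by
    have h1 : b.repr g i * (f i - 1) = 0 := by rw [mul_sub, ← hf i]; ring
    rcases mul_eq_zero.1 h1 with h3 | h3
    · exact absurd h3 hi0
    · exact sub_eq_zero.1 h3
  classical
  let g' : B := ∑ j ∈ (b.repr g).support, f j • b j
  refine ⟨b.repr g i, g', hi0, ?_, ?_⟩
  · rw [← Algebra.smul_def, Finset.smul_sum]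
    conv_lhs => rw [← b.linearCombination_repr g, Finsupp.linearCombination_apply, Finsupp.sum]
    refine Finset.sum_congr rfl fun j _ => ?_
    rw [smul_smul, ← hf j]
  · intro hmem
    obtain ⟨a, ha, z, hz⟩ := exists_dvd_of_mem_map hmem
    have h1 : b.repr g' i = 1 := by
      simp only [g', map_sum, map_smul, Module.Basis.repr_self, Finsupp.coe_finsetSum,
        Finset.sum_apply, Finsupp.smul_apply, smul_eq_mul]
      rw [Finset.sum_eq_single i]
      · simp [hfi]
      · intro j _ hj
        simp [Finsupp.single_eq_of_ne (Ne.symm hj)]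
      · intro hi'
        exact absurd hi hi'
    rw [hz, ← Algebra.smul_def, map_smul, Finsupp.smul_apply, smul_eq_mul] at h1
    have : IsUnit a := IsUnit.of_mul_eq_one _ h1
    exact (mem_maximalIdeal _).1 ha this

end

end Groth.Agent.Flat2E.ValTriv1
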