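import Groth.Agent.Flat2E.ValTriv1
import Groth.Agent.Flat2D.SliceFlat

/-!
# Elements regular on the closed fibre, over a valuation ring
-/

set_option autoImplicit false
universe u

namespace Groth.Agent.Flat2E.ValTriv2

open IsLocalRing TensorProduct Polynomial Groth.Agent.Flat2E.ValTriv1

/-- Local form: `B` flat and essentially finitely presented over the valuation ring `A`, `h` regular
modulo `m`: if `0 ≠ c ∈ A` divides `h b` then it divides `b`. -/
theorem dvd_of_dvd_mul_local {A B : Type u} [CommRing A] [IsDomain A] [ValuationRing A] [CommRing B]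
    [IsLocalRing B] [Algebra A B] [IsLocalHom (algebraMap A B)]
    (hB : CAlgX.IsEssFinitePresentation A B) [Module.Flat A B] (h : B)
    (hreg : ∀ b : B, h * b ∈ (maximalIdeal A).map (algebraMap A B) →
      b ∈ (maximalIdeal A).map (algebraMap A B))
    (b : B) (c : A) (hc : c ≠ 0) (hb : algebraMap A B c ∣ h * b) : algebraMap A B c ∣ b := by
  by_cases hm : h ∈ maximalIdeal B
  · have hfl := Flat2D.SliceFlat.flat_polynomial_of_local hB h hm hreg
    let algXB : Algebra A[X] B := (Polynomial.aeval (R := A) h).toRingHom.toAlgebra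
    have hXB : ∀ f : A[X], algebraMap A[X] B f = Polynomial.aeval h f := fun _ => rfl
    have : IsScalarTower A A[X] B := IsScalarTower.of_algebraMap_eq fun r => by
      rw [hXB, Polynomial.algebraMap_eq, Polynomial.aeval_C]
    have : Module.Flat A[X] B := hfl
    have hquot : Module.Flat A (B ⧸ Ideal.span {h}) := by
      have := Flat2D.SliceFlat.flat_quotient_of_flat_polynomial (R := A) (B := B)
      rwa [hXB, Polynomial.aeval_X] at this
    have hreg' : IsSMulRegular B (X : A[X]) :=
      Module.Flat.isSMulRegular_of_nonZeroDivisors Polynomial.X_mem_nonzeroDivisors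
    have hreg2 : ∀ x y : B, h * x = h * y → x = y := by
      intro x y hxy
      apply hreg'
      change (X : A[X]) • x = (X : A[X]) • y
      rw [Algebra.smul_def, Algebra.smul_def, hXB, Polynomial.aeval_X]
      exact hxy
    obtain ⟨b', hb'⟩ := hb
    have h1 : Ideal.Quotient.mk (Ideal.span {h}) b' = 0 := by
      apply eq_zero_of_smul (A := A) hc
      have : c • Ideal.Quotient.mk (Ideal.span {h}) b' =
          Ideal.Quotient.mk (Ideal.span {h}) (algebraMap A B c * b') := by
        rw [← Algebra.smul_def]; rfl
      rw [this, ← hb', Ideal.Quotient.eq_zero_iff_mem]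
      exact Ideal.mul_mem_right _ _ (Ideal.mem_span_singleton_self h)
    rw [Ideal.Quotient.eq_zero_iff_mem, Ideal.mem_span_singleton] at h1
    obtain ⟨b'', rfl⟩ := h1
    refine ⟨b'', hreg2 _ _ ?_⟩
    rw [hb']; ring
  · have hu : IsUnit h := by
      by_contra hu
      exact hm ((mem_maximalIdeal _).2 hu)
    exact (hu.dvd_mul_left).1 hb

theorem exists_dvd_mul {A B : Type u} [CommRing A] [IsDomain A] [ValuationRing A] [CommRing B]
    [Algebra A B] [Algebra.FinitePresentation A B] [Module.Flat A B]
    (hq : ((maximalIdeal A).map (algebraMap A B)).IsPrime)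
    (n : Ideal B) [n.IsPrime] (hn : (maximalIdeal A).map (algebraMap A B) ≤ n)
    (h : B) (hh : h ∉ (maximalIdeal A).map (algebraMap A B))
    (b : B) (c : A) (hc : c ≠ 0) (hb : algebraMap A B c ∣ h * b) :
    ∃ r ∉ n, algebraMap A B c ∣ r * b := by
  let Bn := Localization.AtPrime n
  have hunit : ∀ a ∉ maximalIdeal A, algebraMap A B a ∉ n := by
    intro a ha han
    have hu : IsUnit a := by
      by_contra hu
      exact ha ((mem_maximalIdeal _).2 hu)
    exact (inferInstance : n.IsPrime).ne_top (Ideal.eq_top_of_isUnit_mem _ han (hu.map _))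
  have : IsLocalHom (algebraMap A Bn) := by
    refine ⟨fun a ha => ?_⟩
    by_contra hu
    have h1 : a ∈ maximalIdeal A := (mem_maximalIdeal _).2 hu
    have h2 : algebraMap A B a ∈ n := hn (Ideal.mem_map_of_mem _ h1)
    rw [IsScalarTower.algebraMap_apply A B Bn] at ha
    exact ((IsLocalization.AtPrime.isUnit_to_map_iff Bn n _).1 ha) h2
  have hess : CAlgX.IsEssFinitePresentation A Bn :=
    ⟨B, inferInstance, inferInstance, inferInstance, inferInstance, n.primeCompl,
      inferInstance, inferInstance⟩
  have : Module.Flat A Bn := Module.Flat.trans A B Bn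
  have hmap : (maximalIdeal A).map (algebraMap A Bn) =
      ((maximalIdeal A).map (algebraMap A B)).map (algebraMap B Bn) := by
    rw [Ideal.map_map, ← IsScalarTower.algebraMap_eq]
  have hreg : ∀ b : Bn, algebraMap B Bn h * b ∈ (maximalIdeal A).map (algebraMap A Bn) →
      b ∈ (maximalIdeal A).map (algebraMap A Bn) := by
    intro b hb
    obtain ⟨x, s, rfl⟩ := IsLocalization.exists_mk'_eq n.primeCompl b
    rw [hmap] at hb ⊢
    have hprime : (((maximalIdeal A).map (algebraMap A B)).map (algebraMap B Bn)).IsPrime :=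
      IsLocalization.isPrime_of_isPrime_disjoint n.primeCompl Bn _ hq
        (Set.disjoint_left.2 fun z hz hz' => hz (hn hz'))
    have hcomap := IsLocalization.under_map_of_isPrime_disjoint n.primeCompl Bn hq
        (Set.disjoint_left.2 fun z hz hz' => hz (hn hz'))
    rcases hprime.mem_or_mem hb with h1 | h1
    · exfalso
      apply hh
      rw [← hcomap]
      exact h1
    · exact h1
  have hdvd : algebraMap A Bn c ∣ algebraMap B Bn h * algebraMap B Bn b := by
    rw [IsScalarTower.algebraMap_apply A B Bn, ← map_mul]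
    exact map_dvd _ hb
  obtain ⟨z, hz⟩ := dvd_of_dvd_mul_local hess (algebraMap B Bn h) hreg (algebraMap B Bn b) c hc hdvd
  obtain ⟨x, s, rfl⟩ := IsLocalization.exists_mk'_eq n.primeCompl z
  have h1 : algebraMap B Bn (s * b) = algebraMap B Bn (algebraMap A B c * x) := by
    rw [map_mul, hz, map_mul, ← IsScalarTower.algebraMap_apply A B Bn]
    rw [mul_left_comm, IsLocalization.mk'_spec' Bn x s]
  obtain ⟨t, ht⟩ := (IsLocalization.eq_iff_exists n.primeCompl Bn).1 h1
  refine ⟨t * s, ?_, t * x, ?_⟩
  · exact (inferInstance : n.IsPrime).mul_notMem t.2 s.2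
  · rw [mul_assoc, ht]; ring

end Groth.Agent.Flat2E.ValTriv2
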