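import Groth.Agent.Flat2E.ValTriv2

/-!
# Algebra over a valuation ring: the cut defined by an element
-/

set_option autoImplicit false
universe u

namespace Groth.Agent.Flat2E.ValTriv3

open IsLocalRing ValTriv1 ValTriv2

variable {A B : Type u} [CommRing A] [IsDomain A] [ValuationRing A] [CommRing B] [Algebra A B]

/-- If `c` divides `g` generically on the closed fibre, but not conversely, then so does some `c m₁`
with `m₁ ∈ m`. -/
theorem exists_mul_of_not [Module.Flat A B]
    (hq : ((maximalIdeal A).map (algebraMap A B)).IsPrime) (g : B) (hg : ∃ a : A, a ≠ 0 ∧ g ∣ algebraMap A B a)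
    (c : A) (hc : c ≠ 0)
    (h1 : ∃ h ∉ (maximalIdeal A).map (algebraMap A B), algebraMap A B c ∣ h * g)
    (h2 : ¬ ∃ h ∉ (maximalIdeal A).map (algebraMap A B), g ∣ h * algebraMap A B c) :
    ∃ m₁ ∈ maximalIdeal A, m₁ ≠ 0 ∧
      ∃ h ∉ (maximalIdeal A).map (algebraMap A B), algebraMap A B (c * m₁) ∣ h * g := by
  obtain ⟨h, hh, b, hb⟩ := h1
  have hbm : b ∈ (maximalIdeal A).map (algebraMap A B) := by
    by_contra hbm
    exact h2 ⟨b, hbm, h, by rw [mul_comm g h, hb, mul_comm]⟩
  obtain ⟨m₁, hm₁, b', rfl⟩ := exists_dvd_of_mem_map hbm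
  refine ⟨m₁, hm₁, ?_, h, hh, b', by rw [hb, map_mul]; ring⟩
  rintro rfl
  obtain ⟨a, ha, g', hg'⟩ := hg
  have h0 : h * g = 0 := by rw [hb]; simp
  have h3 : algebraMap A B a * h = 0 := by rw [hg', mul_comm g g', mul_assoc, mul_comm g h, h0, mul_zero]
  exact hh (by rw [eq_zero_of_algebraMap_mul ha h3]; exact Ideal.zero_mem _)

/-- If `g` divides `c` generically on the closed fibre, but not conversely, then `g` divides some `d`
with `c = m₁ d`, `m₁ ∈ m`. -/
theorem exists_mul_of_not' [Module.Flat A B]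
    (hq : ((maximalIdeal A).map (algebraMap A B)).IsPrime) (g : B)
    (c : A) (hc : c ≠ 0)
    (h1 : ∃ h ∉ (maximalIdeal A).map (algebraMap A B), g ∣ h * algebraMap A B c)
    (h2 : ¬ ∃ h ∉ (maximalIdeal A).map (algebraMap A B), algebraMap A B c ∣ h * g) :
    ∃ m₁ ∈ maximalIdeal A, ∃ d : A, c = m₁ * d ∧
      ∃ h ∉ (maximalIdeal A).map (algebraMap A B), g ∣ h * algebraMap A B d := by
  obtain ⟨h, hh, b, hb⟩ := h1
  have hbm : b ∈ (maximalIdeal A).map (algebraMap A B) := by
    by_contra hbm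
    exact h2 ⟨b, hbm, h, by rw [mul_comm b g, ← hb, mul_comm]⟩
  obtain ⟨m₁, hm₁, b', rfl⟩ := exists_dvd_of_mem_map hbm
  rcases ValuationRing.dvd_total m₁ c with ⟨d, rfl⟩ | ⟨m₂, rfl⟩
  · refine ⟨m₁, hm₁, d, rfl, h, hh, b', ?_⟩
    have hm0 : m₁ ≠ 0 := left_ne_zero_of_mul hc
    have h3 : algebraMap A B m₁ * (h * algebraMap A B d - g * b') = 0 := by
      rw [map_mul] at hb
      linear_combination hb
    exact sub_eq_zero.mp (eq_zero_of_algebraMap_mul hm0 h3)
  · have h3 : algebraMap A B c * (h - algebraMap A B m₂ * (g * b')) = 0 := by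
      rw [map_mul] at hb
      linear_combination hb
    have h4 := sub_eq_zero.mp (eq_zero_of_algebraMap_mul hc h3)
    by_cases hu : m₂ ∈ maximalIdeal A
    · exact absurd (h4 ▸ Ideal.mul_mem_right _ _ (Ideal.mem_map_of_mem _ hu)) hh
    · obtain ⟨u, rfl⟩ : IsUnit m₂ := by simpa using hu
      refine ⟨c * u, hm₁, ((u⁻¹ : Aˣ) : A), by simp, h, hh, b', ?_⟩
      rw [h4]
      have h5 : algebraMap A B (u : A) * algebraMap A B ((u⁻¹ : Aˣ) : A) = 1 := by
        rw [← map_mul]; simp
      linear_combination (g * b') * h5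

/-- Divisibility of `g` by `c` spreads out from the generic point of the closed fibre. -/
theorem spread_dvd [Algebra.FinitePresentation A B] [Module.Flat A B]
    (hq : ((maximalIdeal A).map (algebraMap A B)).IsPrime)
    (n : Ideal B) [n.IsPrime] (hn : (maximalIdeal A).map (algebraMap A B) ≤ n)
    (g : B) (c : A) (hc : c ≠ 0)
    (h1 : ∃ h ∉ (maximalIdeal A).map (algebraMap A B), algebraMap A B c ∣ h * g) :
    ∃ r ∉ n, algebraMap A B c ∣ r * g := by
  obtain ⟨h, hh, hb⟩ := h1
  exact exists_dvd_mul hq n hn h hh g c hc hb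

/-- Divisibility of `c` by `g` spreads out from the generic point of the closed fibre. -/
theorem spread_dvd' [Algebra.FinitePresentation A B] [Module.Flat A B]
    (hq : ((maximalIdeal A).map (algebraMap A B)).IsPrime)
    (n : Ideal B) [n.IsPrime] (hn : (maximalIdeal A).map (algebraMap A B) ≤ n)
    (g : B) (hg : ∃ a : A, a ≠ 0 ∧ g ∣ algebraMap A B a) (c : A)
    (h1 : ∃ h ∉ (maximalIdeal A).map (algebraMap A B), g ∣ h * algebraMap A B c) :
    ∃ r ∉ n, g ∣ r * algebraMap A B c := by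
  obtain ⟨h, hh, b, hb⟩ := h1
  obtain ⟨a, ha, g', hg'⟩ := hg
  obtain ⟨r, hr, b', hb'⟩ := exists_dvd_mul hq n hn h hh (algebraMap A B c * g') a ha
    ⟨b, by rw [← mul_assoc, hb, hg']; ring⟩
  refine ⟨r, hr, b', ?_⟩
  have h3 : algebraMap A B a * (r * algebraMap A B c - g * b') = 0 := by
    have : g * (r * (algebraMap A B c * g')) = g * (algebraMap A B a * b') := by rw [hb']
    rw [hg'] at this ⊢
    linear_combination this
  exact sub_eq_zero.mp (eq_zero_of_algebraMap_mul ha h3)

end Groth.Agent.Flat2E.ValTriv3
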