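import Groth.Agent.Flat2E.ValTriv3
import Groth.Agent.Fdesc.LocGenPullback

/-!
# The cut defined by a section of an invertible module: local analysis
-/

set_option autoImplicit false
universe u

open CategoryTheory CategoryTheory.Limits AlgebraicGeometry Opposite TopologicalSpace

namespace Groth.Agent.Flat2E.ValTriv4

open IsLocalRing ValTriv1 ValTriv2 ValTriv3
open Groth.Agent.Fdesc.LocGen

variable {A : Type u} [CommRing A] {X : Scheme.{u}} (f : X ⟶ Spec (CommRingCat.of A))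

/-- The structure map to the functions on an open. -/
noncomputable def str (U : X.Opens) : A →+* Γ(X, U) :=
  (f.appLE ⊤ U le_top).hom.comp (Scheme.ΓSpecIso (CommRingCat.of A)).inv.hom

theorem ores_str {U V : X.Opens} (h : V ≤ U) (a : A) : ores h (str f U a) = str f V a := by
  change (X.presheaf.map (homOfLE h).op) (f.appLE ⊤ U le_top _) = f.appLE ⊤ V le_top _
  rw [← CommRingCat.comp_apply, Scheme.Hom.appLE_map]

/-- `c` divides `s` near `x`. -/
def InI {L : X.Modules} (s : Γ(L, ⊤)) (c : A) (x : X) : Prop :=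
  ∃ V : X.Opens, x ∈ V ∧ ∃ s' : Γ(L, V), res L le_top s = str f V c • s'

/-- `s` divides `c` near `x`. -/
def InJ {L : X.Modules} (s : Γ(L, ⊤)) (c : A) (x : X) : Prop :=
  ∃ V : X.Opens, x ∈ V ∧ ∃ e : Γ(L, V), IsGen e ∧ ∃ y : Γ(X, V), str f V c • e = y • res L le_top s

theorem InI.specializes {L : X.Modules} {s : Γ(L, ⊤)} {c : A} {x y : X} (h : InI f s c x)
    (hxy : y ⤳ x) : InI f s c y := by
  obtain ⟨V, hV, h⟩ := h
  exact ⟨V, hxy.mem_open V.2 hV, h⟩

theorem InJ.specializes {L : X.Modules} {s : Γ(L, ⊤)} {c : A} {x y : X} (h : InJ f s c x)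
    (hxy : y ⤳ x) : InJ f s c y := by
  obtain ⟨V, hV, h⟩ := h
  exact ⟨V, hxy.mem_open V.2 hV, h⟩

theorem ores_eq_iff {U : X.Opens} (hU : IsAffineOpen U) (h a b : Γ(X, U)) :
    ores (X.basicOpen_le h) a = ores (X.basicOpen_le h) b ↔ ∃ n : ℕ, h ^ n * a = h ^ n * b := by
  have := hU.isLocalization_basicOpen h
  have h1 := IsLocalization.eq_iff_exists (Submonoid.powers h) Γ(X, X.basicOpen h) (x := a) (y := b)
  refine Iff.trans (Iff.of_eq rfl) (h1.trans ?_)
  constructor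
  · rintro ⟨⟨_, n, rfl⟩, hn⟩
    exact ⟨n, hn⟩
  · rintro ⟨n, hn⟩
    exact ⟨⟨_, n, rfl⟩, hn⟩

theorem exists_ores_eq {U : X.Opens} (hU : IsAffineOpen U) (h : Γ(X, U))
    (z : Γ(X, X.basicOpen h)) : ∃ (n : ℕ) (b : Γ(X, U)),
      ores (X.basicOpen_le h) (h ^ n) * z = ores (X.basicOpen_le h) b := by
  have := hU.isLocalization_basicOpen h
  obtain ⟨⟨b, ⟨_, n, rfl⟩⟩, hb⟩ := IsLocalization.surj (Submonoid.powers h) z
  exact ⟨n, b, by rw [mul_comm]; exact hb⟩

theorem isUnit_ores {U : X.Opens} (h : Γ(X, U)) : IsUnit (ores (X.basicOpen_le h) h) :=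
  RingedSpace.isUnit_res_basicOpen _ h

theorem mem_basicOpen_pow_mul {U : X.Opens} {h : Γ(X, U)} {x : X} (hx : x ∈ X.basicOpen h) (n : ℕ) :
    x ∈ X.basicOpen (h ^ n) := by
  have hxU := X.basicOpen_le h hx
  rw [Scheme.mem_basicOpen _ _ x hxU] at hx ⊢
  rw [map_pow]
  exact hx.pow n

section

variable {L : X.Modules} (s : Γ(L, ⊤)) {U : X.Opens} (hU : IsAffineOpen U) {e : Γ(L, U)}
  (he : IsGen e) {g : Γ(X, U)} (hg : res L le_top s = g • e) {x : X} (hx : x ∈ U)

include hU he hg hx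

theorem inI_iff (c : A) :
    InI f s c x ↔ ∃ h : Γ(X, U), x ∈ X.basicOpen h ∧ str f U c ∣ h * g := by
  constructor
  · rintro ⟨V, hxV, s', hs'⟩
    obtain ⟨h, hhV, hxh⟩ := hU.exists_basicOpen_le ⟨x, hxV⟩ hx
    set D := X.basicOpen h with hD
    have hDU : D ≤ U := X.basicOpen_le h
    obtain ⟨z, hz⟩ := (he.res hDU).exists_eq (res L hhV s')
    have h1 : ores hDU g = str f D c * z := by
      refine (he.res hDU).ext ?_
      rw [mul_smul, ← hz, ← res_smul L hDU, ← hg]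
      have := congrArg (res L hhV) hs'
      rw [res_smul, ores_str, res_res] at this
      rw [res_res, ← this]
    obtain ⟨n, b, hb⟩ := exists_ores_eq hU h z
    have h2 : ores hDU (h ^ n * g) = ores hDU (str f U c * b) := by
      rw [map_mul, map_mul, h1, ← hb, ores_str]; ring
    obtain ⟨m, hm⟩ := (ores_eq_iff hU h _ _).mp h2
    refine ⟨h ^ (m + n), mem_basicOpen_pow_mul hxh _, h ^ m * b, ?_⟩
    rw [pow_add]
    linear_combination hm
  · rintro ⟨h, hxh, b, hb⟩
    set D := X.basicOpen h with hD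
    have hDU : D ≤ U := X.basicOpen_le h
    obtain ⟨u, hu⟩ := isUnit_ores h
    refine ⟨D, hxh, (((u⁻¹ : Γ(X, D)ˣ) : Γ(X, D)) * ores hDU b) • res L hDU e, ?_⟩
    have h1 : ores hDU h * ores hDU g = str f D c * ores hDU b := by
      rw [← map_mul, hb, map_mul, ores_str]
    have h2 : ores hDU g = str f D c * (((u⁻¹ : Γ(X, D)ˣ) : Γ(X, D)) * ores hDU b) := by
      have h3 : ((u⁻¹ : Γ(X, D)ˣ) : Γ(X, D)) * ores hDU h = 1 := by
        rw [← hu]; exact u.inv_mul
      linear_combination (-ores hDU g) * h3 + ((u⁻¹ : Γ(X, D)ˣ) : Γ(X, D)) * h1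
    rw [smul_smul, ← h2, ← res_smul, ← hg, res_res]

theorem inJ_iff (c : A) :
    InJ f s c x ↔ ∃ h : Γ(X, U), x ∈ X.basicOpen h ∧ g ∣ h * str f U c := by
  constructor
  · rintro ⟨V, hxV, e', he', y, hy⟩
    obtain ⟨h, hhV, hxh⟩ := hU.exists_basicOpen_le ⟨x, hxV⟩ hx
    set D := X.basicOpen h with hD
    have hDU : D ≤ U := X.basicOpen_le h
    obtain ⟨v, hv⟩ := (he'.res hhV).exists_eq (res L hDU e)
    have h1 : str f D c = v * (ores hhV y * ores hDU g) := by
      refine (he.res hDU).ext ?_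
      have h2 := congrArg (res L hhV) hy
      rw [res_smul, ores_str, res_smul, res_res] at h2
      have h3 : res L (le_top : D ≤ ⊤) s = ores hDU g • res L hDU e := by
        rw [← res_smul, ← hg, res_res]
      rw [mul_smul, mul_smul, ← h3, ← h2, hv, smul_smul, smul_smul, mul_comm]
    obtain ⟨n, b, hb⟩ := exists_ores_eq hU h (v * ores hhV y)
    have h2 : ores hDU (h ^ n * str f U c) = ores hDU (g * b) := by
      rw [map_mul, map_mul, ores_str, h1, ← hb]; ring
    obtain ⟨m, hm⟩ := (ores_eq_iff hU h _ _).mp h2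
    refine ⟨h ^ (m + n), mem_basicOpen_pow_mul hxh _, h ^ m * b, ?_⟩
    rw [pow_add]
    linear_combination hm
  · rintro ⟨h, hxh, b, hb⟩
    set D := X.basicOpen h with hD
    have hDU : D ≤ U := X.basicOpen_le h
    obtain ⟨u, hu⟩ := isUnit_ores h
    refine ⟨D, hxh, res L hDU e, he.res hDU, ((u⁻¹ : Γ(X, D)ˣ) : Γ(X, D)) * ores hDU b, ?_⟩
    have h1 : ores hDU h * str f D c = ores hDU g * ores hDU b := by
      rw [← ores_str f hDU, ← map_mul, hb, map_mul]
    have h2 : str f D c = ((u⁻¹ : Γ(X, D)ˣ) : Γ(X, D)) * ores hDU b * ores hDU g := by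
      have h3 : ((u⁻¹ : Γ(X, D)ˣ) : Γ(X, D)) * ores hDU h = 1 := by
        rw [← hu]; exact u.inv_mul
      linear_combination (-str f D c) * h3 + ((u⁻¹ : Γ(X, D)ˣ) : Γ(X, D)) * h1
    have h3 : res L (le_top : D ≤ ⊤) s = ores hDU g • res L hDU e := by
      rw [← res_smul, ← hg, res_res]
    rw [h3, smul_smul, ← h2]

end

end Groth.Agent.Flat2E.ValTriv4
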