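import Groth.Agent.Flat2E.ValTriv4
import Groth.Agent.Flat2C.Thick
import Mathlib.AlgebraicGeometry.Fiber

/-!
# The closed fibre on affine opens
-/

set_option autoImplicit false
universe u

open CategoryTheory CategoryTheory.Limits AlgebraicGeometry Opposite TopologicalSpace

namespace Groth.Agent.Flat2E.ValTriv5

open IsLocalRing ValTriv4
open Groth.Agent.Fdesc.LocGen

variable {A : Type u} [CommRing A] {X : Scheme.{u}} (f : X ⟶ Spec (CommRingCat.of A))

/-- The map to the residue field at a point of the spectrum. -/
noncomputable def toRes (y : Spec (CommRingCat.of A)) :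
    CommRingCat.of A ⟶ (Spec (CommRingCat.of A)).residueField y :=
  CommRingCat.ofHom (algebraMap A y.asIdeal.ResidueField) ≫
    (Scheme.Spec.residueFieldIso (CommRingCat.of A) y).inv

theorem map_toRes (y : Spec (CommRingCat.of A)) :
    Spec.map (toRes y) = (Spec (CommRingCat.of A)).fromSpecResidueField y := by
  rw [toRes, Spec.map_comp]
  exact Scheme.Spec.map_residueFieldIso_inv_eq_fromSpecResidueField _ _

theorem toRes_eq_zero_iff (y : Spec (CommRingCat.of A)) (a : A) :
    toRes y a = 0 ↔ a ∈ y.asIdeal := by
  rw [toRes, CommRingCat.comp_apply]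
  rw [map_eq_zero_iff _ (ConcreteCategory.bijective_of_isIso
    (Scheme.Spec.residueFieldIso (CommRingCat.of A) y).inv).1]
  exact Ideal.algebraMap_residueField_eq_zero

theorem isPullback_fiber (y : Spec (CommRingCat.of A)) :
    IsPullback (f.fiberι y) (f.fiberToSpecResidueField y) f (Spec.map (toRes y)) := by
  rw [map_toRes]
  exact IsPullback.of_hasPullback f ((Spec (CommRingCat.of A)).fromSpecResidueField y)

theorem toRes_closedPoint_surjective [IsLocalRing A] :
    Function.Surjective (toRes (A := A) (closedPoint A)) := by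
  have h1 : Function.Surjective (algebraMap A (closedPoint A).asIdeal.ResidueField) := by
    have : (closedPoint A).asIdeal.IsMaximal := inferInstanceAs (maximalIdeal A).IsMaximal
    exact Ideal.algebraMap_residueField_surjective _
  exact (ConcreteCategory.bijective_of_isIso
    (Scheme.Spec.residueFieldIso (CommRingCat.of A) (closedPoint A)).inv).2.comp h1

theorem ker_fiberι_app [IsLocalRing A] {U : X.Opens} (hU : IsAffineOpen U) :
    RingHom.ker ((f.fiberι (closedPoint A)).app U).hom = (maximalIdeal A).map (str f U) := by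
  have : IsClosedImmersion (Spec.map (toRes (A := A) (closedPoint A))) :=
    .spec_of_surjective _ toRes_closedPoint_surjective
  rw [(Flat2C.Thick.surjective_app_and_ker_app (isPullback_fiber f (closedPoint A))
    (isAffineOpen_top _) hU le_top).2, str, ← Ideal.map_map]
  congr 1
  refine le_antisymm ?_ ?_
  · intro b hb
    obtain ⟨a, rfl⟩ := (ConcreteCategory.bijective_of_isIso
      (Scheme.ΓSpecIso (CommRingCat.of A)).inv).2 b
    refine Ideal.mem_map_of_mem _ ?_
    have h1 : (Spec.map (toRes (A := A) (closedPoint A))).appTop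
      ((Scheme.ΓSpecIso (CommRingCat.of A)).inv a) = 0 := hb
    rw [← CommRingCat.comp_apply, ← Scheme.ΓSpecIso_inv_naturality, CommRingCat.comp_apply,
      map_eq_zero_iff _ (ConcreteCategory.bijective_of_isIso (Scheme.ΓSpecIso _).inv).1] at h1
    exact (toRes_eq_zero_iff _ a).mp h1
  · rw [Ideal.map_le_iff_le_comap]
    intro a ha
    change (Spec.map (toRes (A := A) (closedPoint A))).appTop
      ((Scheme.ΓSpecIso (CommRingCat.of A)).inv a) = 0
    rw [← CommRingCat.comp_apply, ← Scheme.ΓSpecIso_inv_naturality, CommRingCat.comp_apply,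
      (toRes_eq_zero_iff _ a).mpr ha, map_zero]

section

variable [IsLocalRing A] [IsIntegral (f.fiber (closedPoint A))]

/-- The generic point of the closed fibre. -/
noncomputable def xi : X := f.fiberι (closedPoint A) (genericPoint (f.fiber (closedPoint A)))

theorem fiberι_mem (z : f.fiber (closedPoint A)) : f (f.fiberι (closedPoint A) z) = closedPoint A := by
  have : f.fiberι _ z ∈ Set.range (f.fiberι (closedPoint A)) := ⟨z, rfl⟩
  rw [f.range_fiberι] at this
  exact this

theorem exists_fiberι_eq {x : X} (hx : f x = closedPoint A) :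
    ∃ z, f.fiberι (closedPoint A) z = x := by
  have : x ∈ Set.range (f.fiberι (closedPoint A)) := by
    rw [f.range_fiberι]; exact hx
  exact this

theorem f_xi : f (xi f) = closedPoint A := fiberι_mem f _

theorem xi_specializes {x : X} (hx : f x = closedPoint A) : xi f ⤳ x := by
  obtain ⟨z, rfl⟩ := exists_fiberι_eq f hx
  exact (genericPoint_specializes z).map (f.fiberι (closedPoint A)).continuous

theorem nonempty_preimage {U : X.Opens} {x : X} (hxU : x ∈ U) (hx : f x = closedPoint A) :
    Nonempty (f.fiberι (closedPoint A) ⁻¹ᵁ U) := by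
  obtain ⟨z, rfl⟩ := exists_fiberι_eq f hx
  exact ⟨z, hxU⟩

theorem isPrime_map {U : X.Opens} (hU : IsAffineOpen U) {x : X} (hxU : x ∈ U)
    (hx : f x = closedPoint A) : ((maximalIdeal A).map (str f U)).IsPrime := by
  rw [← ker_fiberι_app f hU]
  have := nonempty_preimage f hxU hx
  have : IsDomain Γ(f.fiber (closedPoint A), f.fiberι (closedPoint A) ⁻¹ᵁ U) := inferInstance
  exact RingHom.ker_isPrime _

theorem xi_mem_basicOpen_iff {U : X.Opens} (hU : IsAffineOpen U) (h : Γ(X, U)) :
    xi f ∈ X.basicOpen h ↔ h ∉ (maximalIdeal A).map (str f U) := by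
  rw [← ker_fiberι_app f hU, RingHom.mem_ker]
  have h1 : xi f ∈ X.basicOpen h ↔ genericPoint (f.fiber (closedPoint A)) ∈
      (f.fiber (closedPoint A)).basicOpen ((f.fiberι (closedPoint A)).app U h) := by
    rw [← Scheme.preimage_basicOpen]
    rfl
  have h2 : (f.fiberι (closedPoint A)).app U h = 0 ↔
      (f.fiber (closedPoint A)).basicOpen ((f.fiberι (closedPoint A)).app U h) = ⊥ :=
    (basicOpen_eq_bot_iff _).symm
  rw [h1]
  refine Iff.trans ?_ (not_congr h2.symm)
  constructor
  · intro h3 h4
    rw [h4] at h3
    exact h3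
  · intro h3
    have h4 : ((f.fiber (closedPoint A)).basicOpen
      ((f.fiberι (closedPoint A)).app U h) : Set (f.fiber (closedPoint A))).Nonempty := by
      rw [Set.nonempty_iff_ne_empty]
      intro h5
      exact h3 (by ext1; exact h5)
    exact ((genericPoint_spec _).mem_open_set_iff (Opens.isOpen _)).mpr (by simpa using h4)

end

end Groth.Agent.Flat2E.ValTriv5
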