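import Groth.Agent.Flat2E.ValTriv5
import Mathlib.AlgebraicGeometry.Morphisms.Flat
import Mathlib.AlgebraicGeometry.Morphisms.FinitePresentation
import Mathlib.AlgebraicGeometry.Morphisms.Proper

/-!
# Globalizing the cut defined by a section of an invertible module
-/

set_option autoImplicit false
universe u

open CategoryTheory CategoryTheory.Limits AlgebraicGeometry Opposite TopologicalSpace

namespace Groth.Agent.Flat2E.ValTriv6

open IsLocalRing ValTriv1 ValTriv2 ValTriv3 ValTriv4 ValTriv5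
open Groth.Agent.Fdesc.LocGen

variable {A : Type u} [CommRing A] {X : Scheme.{u}} (f : X ⟶ Spec (CommRingCat.of A))

theorem str_flat [Flat f] {U : X.Opens} (hU : IsAffineOpen U) : (str f U).Flat := by
  have h1 := f.flat_appLE (isAffineOpen_top _) hU le_top
  exact RingHom.Flat.comp (RingHom.Flat.of_bijective (ConcreteCategory.bijective_of_isIso
    (Scheme.ΓSpecIso (CommRingCat.of A)).inv)) h1

theorem str_fp [LocallyOfFinitePresentation f] {U : X.Opens} (hU : IsAffineOpen U) :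
    (str f U).FinitePresentation := by
  have h1 := f.finitePresentation_appLE (isAffineOpen_top _) hU le_top
  exact RingHom.FinitePresentation.comp h1 (RingHom.FinitePresentation.of_bijective
    (ConcreteCategory.bijective_of_isIso (Scheme.ΓSpecIso (CommRingCat.of A)).inv))

/-- functions are torsion free -/
theorem eq_zero_of_str_mul [IsDomain A] [Flat f] {U : X.Opens} {c : A} (hc : c ≠ 0) {b : Γ(X, U)}
    (h : str f U c * b = 0) : b = 0 := by
  refine ores_ext (fun V : {V : X.affineOpens // V.1 ≤ U} => V.1.1) (fun V => V.2) ?_ fun V => ?_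
  · intro x hx
    obtain ⟨V, hV, hxV, hVU⟩ := exists_isAffineOpen_mem_and_subset (x := x) (U := U) hx
    exact Opens.mem_iSup.mpr ⟨⟨⟨V, hV⟩, hVU⟩, hxV⟩
  · have h1 := congrArg (ores V.2) h
    rw [map_mul, ores_str, map_zero] at h1
    rw [map_zero]
    algebraize [str f V.1.1]
    have : Module.Flat A Γ(X, V.1.1) := str_flat f V.1.2
    exact eq_zero_of_algebraMap_mul (A := A) hc h1

/-- sections of an invertible module are torsion free -/
theorem eq_zero_of_str_smul [IsDomain A] [Flat f] {L : X.Modules} (hL : PicF.IsInvertible L)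
    {U : X.Opens} {c : A} (hc : c ≠ 0) {m : Γ(L, U)} (h : str f U c • m = 0) : m = 0 := by
  rw [isInvertible_iff] at hL
  choose V e hxV he using hL
  refine res_ext L (fun x : U => V x.1 ⊓ U) (fun x => inf_le_right) ?_ fun x => ?_
  · intro x hx
    exact Opens.mem_iSup.mpr ⟨⟨x, hx⟩, ⟨hxV x, hx⟩⟩
  · have he' := (he x.1).res (inf_le_left : V x.1 ⊓ U ≤ V x.1)
    obtain ⟨b, hb⟩ := he'.exists_eq (res L (inf_le_right : V x.1 ⊓ U ≤ U) m)
    have h1 := congrArg (res L (inf_le_right : V x.1 ⊓ U ≤ U)) h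
    rw [res_smul, ores_str, map_zero, hb, smul_smul] at h1
    have h2 : str f (V x.1 ⊓ U) c * b = 0 := he'.ext (by rw [h1, zero_smul])
    rw [map_zero, hb, eq_zero_of_str_mul f hc h2, zero_smul]

/-- The ideal of a point in an affine open. -/
noncomputable def ptIdeal {U : X.Opens} {x : X} (hx : x ∈ U) : Ideal Γ(X, U) :=
  (maximalIdeal (X.presheaf.stalk x)).comap (X.presheaf.germ U x hx).hom

theorem ptIdeal_isPrime {U : X.Opens} {x : X} (hx : x ∈ U) : (ptIdeal hx).IsPrime :=
  Ideal.comap_isPrime _ _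

theorem mem_basicOpen_iff_ptIdeal {U : X.Opens} {x : X} (hx : x ∈ U) {h : Γ(X, U)} :
    x ∈ X.basicOpen h ↔ h ∉ ptIdeal hx := by
  rw [Scheme.mem_basicOpen _ _ x hx, ptIdeal, Ideal.mem_comap, mem_maximalIdeal, mem_nonunits_iff,
    not_not]

theorem map_le_ptIdeal [IsLocalRing A] {U : X.Opens} {x : X} (hxU : x ∈ U)
    (hx : f x = closedPoint A) : (maximalIdeal A).map (str f U) ≤ ptIdeal hxU := by
  rw [Ideal.map_le_iff_le_comap]
  intro a ha
  by_contra h
  have h1 : x ∈ X.basicOpen (str f U a) := (mem_basicOpen_iff_ptIdeal hxU).mpr h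
  have h2 : X.basicOpen (str f U a) = U ⊓ f ⁻¹ᵁ ((Spec (CommRingCat.of A)).basicOpen
      ((Scheme.ΓSpecIso (CommRingCat.of A)).inv a)) := by
    rw [Scheme.preimage_basicOpen]
    exact Scheme.basicOpen_res _ _ _
  rw [h2] at h1
  have h3 : f x ∈ (Spec (CommRingCat.of A)).basicOpen
      ((Scheme.ΓSpecIso (CommRingCat.of A)).inv a) := h1.2
  rw [hx, basicOpen_eq_of_affine'] at h3
  simp at h3
  exact h3 ha

section

variable [IsDomain A] [ValuationRing A] [Flat f] [LocallyOfFinitePresentation f]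
  [IsIntegral (f.fiber (closedPoint A))] {L : X.Modules} (hL : PicF.IsInvertible L) (s : Γ(L, ⊤))

include hL

theorem exists_affine_gen (x : X) : ∃ (U : X.Opens) (e : Γ(L, U)) (g : Γ(X, U)),
    IsAffineOpen U ∧ x ∈ U ∧ IsGen e ∧ res L le_top s = g • e := by
  obtain ⟨U', e', hx, he'⟩ := (isInvertible_iff L).mp hL x
  obtain ⟨U, hU, hxU, hUU'⟩ := exists_isAffineOpen_mem_and_subset (x := x) (U := U') hx
  obtain ⟨g, hg⟩ := (he'.res hUU').exists_eq (res L (le_top : U ≤ ⊤) s)
  exact ⟨U, res L hUU' e', g, hU, hxU, he'.res hUU', hg⟩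

theorem inI_or_inJ (c : A) (hc : c ≠ 0) : InI f s c (xi f) ∨ InJ f s c (xi f) := by
  obtain ⟨U, e, g, hU, hxU, he, hg⟩ := exists_affine_gen hL s (xi f)
  rw [inI_iff f s hU he hg hxU, inJ_iff f s hU he hg hxU]
  simp only [xi_mem_basicOpen_iff f hU]
  have hp := isPrime_map f hU hxU (f_xi f)
  algebraize [str f U]
  have : Module.Flat A Γ(X, U) := str_flat f hU
  have : Algebra.FinitePresentation A Γ(X, U) := str_fp f hU
  obtain ⟨h, hh, h1 | h1⟩ := exists_dvd_or_dvd (A := A) (B := Γ(X, U)) hp g c hc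
  · exact Or.inl ⟨h, hh, h1⟩
  · exact Or.inr ⟨h, hh, h1⟩

variable (hs : ∀ (U : X.Opens) (e : Γ(L, U)) (g : Γ(X, U)), IsAffineOpen U → IsGen e →
  res L le_top s = g • e → ∃ a : A, a ≠ 0 ∧ g ∣ str f U a)

include hs

omit [LocallyOfFinitePresentation f] in
theorem exists_inI (c : A) (hc : c ≠ 0) (h1 : InI f s c (xi f)) (h2 : ¬ InJ f s c (xi f)) :
    ∃ m₁ ∈ maximalIdeal A, m₁ ≠ 0 ∧ InI f s (c * m₁) (xi f) := by
  obtain ⟨U, e, g, hU, hxU, he, hg⟩ := exists_affine_gen hL s (xi f)
  simp only [inI_iff f s hU he hg hxU, inJ_iff f s hU he hg hxU] at h1 h2 ⊢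
  simp only [xi_mem_basicOpen_iff f hU] at h1 h2 ⊢
  have hp := isPrime_map f hU hxU (f_xi f)
  have hg' := hs U e g hU he hg
  algebraize [str f U]
  have : Module.Flat A Γ(X, U) := str_flat f hU
  exact exists_mul_of_not (A := A) (B := Γ(X, U)) hp g hg' c hc h1 h2

omit hs [LocallyOfFinitePresentation f] in
theorem exists_inJ (c : A) (hc : c ≠ 0) (h1 : InJ f s c (xi f)) (h2 : ¬ InI f s c (xi f)) :
    ∃ m₁ ∈ maximalIdeal A, ∃ d : A, c = m₁ * d ∧ InJ f s d (xi f) := by
  obtain ⟨U, e, g, hU, hxU, he, hg⟩ := exists_affine_gen hL s (xi f)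
  simp only [inI_iff f s hU he hg hxU, inJ_iff f s hU he hg hxU] at h1 h2 ⊢
  simp only [xi_mem_basicOpen_iff f hU] at h1 h2 ⊢
  have hp := isPrime_map f hU hxU (f_xi f)
  algebraize [str f U]
  have : Module.Flat A Γ(X, U) := str_flat f hU
  exact exists_mul_of_not' (A := A) (B := Γ(X, U)) hp g c hc h1 h2

omit hs in
theorem inI_of_xi (c : A) (hc : c ≠ 0) (h : InI f s c (xi f)) {x : X} (hx : f x = closedPoint A) :
    InI f s c x := by
  obtain ⟨U, e, g, hU, hxU, he, hg⟩ := exists_affine_gen hL s x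
  have hxi : xi f ∈ U := (xi_specializes f hx).mem_open U.2 hxU
  rw [inI_iff f s hU he hg hxi] at h
  rw [inI_iff f s hU he hg hxU]
  simp only [xi_mem_basicOpen_iff f hU] at h
  simp only [mem_basicOpen_iff_ptIdeal hxU]
  have hp := isPrime_map f hU hxU hx
  have hle := map_le_ptIdeal f hxU hx
  have hpr := ptIdeal_isPrime hxU
  algebraize [str f U]
  have : Module.Flat A Γ(X, U) := str_flat f hU
  have : Algebra.FinitePresentation A Γ(X, U) := str_fp f hU
  exact spread_dvd (A := A) (B := Γ(X, U)) hp (ptIdeal hxU) hle g c hc h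

theorem inJ_of_xi (c : A) (h : InJ f s c (xi f)) {x : X} (hx : f x = closedPoint A) :
    InJ f s c x := by
  obtain ⟨U, e, g, hU, hxU, he, hg⟩ := exists_affine_gen hL s x
  have hxi : xi f ∈ U := (xi_specializes f hx).mem_open U.2 hxU
  rw [inJ_iff f s hU he hg hxi] at h
  rw [inJ_iff f s hU he hg hxU]
  simp only [xi_mem_basicOpen_iff f hU] at h
  simp only [mem_basicOpen_iff_ptIdeal hxU]
  have hp := isPrime_map f hU hxU hx
  have hle := map_le_ptIdeal f hxU hx
  have hpr := ptIdeal_isPrime hxU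
  have hg' := hs U e g hU he hg
  algebraize [str f U]
  have : Module.Flat A Γ(X, U) := str_flat f hU
  have : Algebra.FinitePresentation A Γ(X, U) := str_fp f hU
  exact spread_dvd' (A := A) (B := Γ(X, U)) hp (ptIdeal hxU) hle g hg' c h

end

/-- Every point specializes to a point of the closed fibre. -/
theorem exists_specializes [IsLocalRing A] (hf : IsClosedMap f) (y : X) :
    ∃ x, f x = closedPoint A ∧ y ⤳ x := by
  have h1 : IsClosed (f '' closure {y}) := hf _ isClosed_closure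
  have h2 : f y ∈ f '' closure {y} := ⟨y, subset_closure rfl, rfl⟩
  have h3 : closedPoint A ∈ f '' closure {y} :=
    (IsLocalRing.specializes_closedPoint (f y)).mem_closed h1 h2
  obtain ⟨x, hx, hx'⟩ := h3
  exact ⟨x, hx', specializes_iff_mem_closure.mpr hx⟩

/-- Global divisibility. -/
theorem exists_eq_smul [IsDomain A] [Flat f] {L : X.Modules} (hL : PicF.IsInvertible L) (s : Γ(L, ⊤))
    (c : A) (hc : c ≠ 0) (h : ∀ x, InI f s c x) : ∃ s' : Γ(L, ⊤), s = str f ⊤ c • s' := by
  choose V hxV s' hs' using h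
  obtain ⟨t, ht⟩ := res_glue L V (fun _ => le_top) (fun x _ => Opens.mem_iSup.mpr ⟨x, hxV x⟩) s' (by
    intro x y
    rw [← sub_eq_zero]
    refine eq_zero_of_str_smul f hL hc ?_
    rw [smul_sub, sub_eq_zero]
    have h1 := congrArg (res L (inf_le_left : V x ⊓ V y ≤ V x)) (hs' x)
    have h2 := congrArg (res L (inf_le_right : V x ⊓ V y ≤ V y)) (hs' y)
    rw [res_smul, ores_str, res_res] at h1 h2
    exact h1.symm.trans h2)
  refine ⟨t, ?_⟩
  refine res_ext L V (fun _ => le_top) (fun x _ => Opens.mem_iSup.mpr ⟨x, hxV x⟩) fun x => ?_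
  rw [hs', res_smul, ores_str, ht]

/-- If `s` and `c` are locally associated, then `L` is trivial. -/
theorem exists_isGen [IsDomain A] [Flat f] {L : X.Modules} (hL : PicF.IsInvertible L) (s : Γ(L, ⊤))
    (c : A) (hc : c ≠ 0) (h : ∀ x, InI f s c x) (h' : ∀ x, InJ f s c x) :
    ∃ s' : Γ(L, ⊤), IsGen s' := by
  obtain ⟨s', hs'⟩ := exists_eq_smul f hL s c hc h
  refine ⟨s', isGen_iff_forall_exists.mpr fun x _ => ?_⟩
  obtain ⟨V, hxV, e, he, y, hy⟩ := h' x
  refine ⟨V, le_top, hxV, ?_⟩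
  have h1 : e = y • res L (le_top : V ≤ ⊤) s' := by
    rw [← sub_eq_zero]
    refine eq_zero_of_str_smul f hL hc ?_
    rw [smul_sub, hy, hs', res_smul, ores_str, smul_comm, sub_self]
  obtain ⟨z, hz⟩ := he.exists_eq (res L (le_top : V ≤ ⊤) s')
  have h2 : z * y = 1 := by
    refine he.ext ?_
    rw [one_smul, mul_comm, mul_smul, ← hz, ← h1]
  rw [hz]
  exact he.unit_smul (IsUnit.of_mul_eq_one _ h2)

end Groth.Agent.Flat2E.ValTriv6
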