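import Groth.Agent.Flat2E.ValTriv6
import Mathlib.AlgebraicGeometry.ZariskisMainTheorem
import Mathlib.AlgebraicGeometry.Morphisms.Finite
import Mathlib.RingTheory.Jacobson.Ring
import Mathlib.RingTheory.LocalRing.Module

/-!
# A finite free multisection of a proper flat scheme over a valuation ring
-/

set_option autoImplicit false
universe u

open CategoryTheory CategoryTheory.Limits AlgebraicGeometry Opposite TopologicalSpace

namespace Groth.Agent.Flat2E.ValTriv7

open IsLocalRing ValTriv1 ValTriv4 ValTriv6 TensorProduct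
open Groth.Agent.Fdesc.LocGen

variable {A : Type u} [CommRing A] {X Y : Scheme.{u}} (f : X ⟶ Spec (CommRingCat.of A))

/-- A field-valued point of a nonzero flat finite type algebra, algebraic over the base. -/
theorem exists_algebraic_point [IsDomain A] {B : Type u} [CommRing B] [Nontrivial B] [Algebra A B]
    [Algebra.FiniteType A B] [Module.Flat A B] : ∃ (E : Type u) (_ : Field E) (φ : B →+* E),
      Function.Injective (φ.comp (algebraMap A B)) ∧
      ∀ z : E, ∃ p : Polynomial A, p ≠ 0 ∧ p.eval₂ (φ.comp (algebraMap A B)) z = 0 := by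
  let K := FractionRing A
  have : Nontrivial (K ⊗[A] B) := by
    have h1 : Function.Injective ((Algebra.linearMap A K).rTensor B) :=
      Module.Flat.rTensor_preserves_injective_linearMap _ (IsFractionRing.injective A K)
    have h2 : Function.Injective (((Algebra.linearMap A K).rTensor B) ∘ (TensorProduct.lid A B).symm) :=
      h1.comp (TensorProduct.lid A B).symm.injective
    exact h2.nontrivial
  obtain ⟨M, hM⟩ := Ideal.exists_maximal (K ⊗[A] B)
  let E := (K ⊗[A] B) ⧸ M
  let : Field E := Ideal.Quotient.field M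
  have hft : Algebra.FiniteType K E := inferInstance
  have hfin : Module.Finite K E := finite_of_finite_type_of_isJacobsonRing K E
  let φ : B →+* E := (Ideal.Quotient.mk M).comp (Algebra.TensorProduct.includeRight : B →ₐ[A] K ⊗[A] B).toRingHom
  have hcomp : φ.comp (algebraMap A B) = (algebraMap K E).comp (algebraMap A K) := by
    ext a
    change Ideal.Quotient.mk M (1 ⊗ₜ algebraMap A B a) = Ideal.Quotient.mk M (algebraMap A K a ⊗ₜ 1)
    rw [Algebra.TensorProduct.tmul_one_eq_one_tmul]
  refine ⟨E, inferInstance, φ, ?_, ?_⟩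
  · rw [hcomp]
    exact (algebraMap K E).injective.comp (IsFractionRing.injective A K)
  · intro z
    have hAE : IsScalarTower A K E := inferInstance
    have h1 : IsAlgebraic A z := by
      rw [IsFractionRing.isAlgebraic_iff A K E]
      exact (Algebra.IsIntegral.isIntegral z).isAlgebraic
    obtain ⟨p, hp, hpz⟩ := h1
    refine ⟨p, hp, ?_⟩
    rw [hcomp, ← IsScalarTower.algebraMap_eq A K E]
    exact hpz

theorem fromSpec_comp {U : X.Opens} (hU : IsAffineOpen U) :
    hU.fromSpec ≫ f = Spec.map (CommRingCat.ofHom (str f U)) := by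
  have h1 := IsAffineOpen.SpecMap_appLE_fromSpec f (isAffineOpen_top _) hU le_top
  rw [IsAffineOpen.fromSpec_top, Scheme.isoSpec_Spec_inv, ← Spec.map_comp] at h1
  exact h1.symm

theorem str_comp (g : Y ⟶ X) {U : X.Opens} {V : Y.Opens} (e : V ≤ g ⁻¹ᵁ U) (a : A) :
    g.appLE U V e (str f U a) = str (g ≫ f) V a := by
  change g.appLE U V e (f.appLE ⊤ U le_top _) = (g ≫ f).appLE ⊤ V le_top _
  rw [← CommRingCat.comp_apply, Scheme.Hom.appLE_comp_appLE]

theorem str_SpecMap {E : CommRingCat.{u}} (φ : CommRingCat.of A ⟶ E) (a : A) :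
    str (Spec.map φ) ⊤ a = (Scheme.ΓSpecIso E).inv (φ a) := by
  change (Spec.map φ).appLE ⊤ ⊤ le_top ((Scheme.ΓSpecIso (CommRingCat.of A)).inv a) = _
  have h1 : (Spec.map φ).appLE ⊤ ⊤ le_top = (Spec.map φ).appTop := by
    rw [Scheme.Hom.appLE, Scheme.Hom.appTop]
    exact (congrArg _ ((Spec E).presheaf.map_id _)).trans (Category.comp_id _)
  rw [h1, ← CommRingCat.comp_apply, ← CommRingCat.comp_apply, Scheme.ΓSpecIso_inv_naturality]

/-- Functions on an open of the spectrum of a field come from the field. -/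
theorem surjective_of_field {E : Type u} [Field E] (W : (Spec (CommRingCat.of E)).Opens) :
    Function.Surjective (ores (le_top : W ≤ ⊤)) := by
  by_cases hW : W = ⊤
  · subst hW
    intro b
    exact ⟨b, ores_refl b⟩
  · have hW' : W = ⊥ := by
      ext x
      simp only [Opens.coe_bot, Set.mem_empty_iff_false, iff_false]
      intro hx
      apply hW
      ext y
      have : y = x := Subsingleton.elim (α := PrimeSpectrum E) y x
      subst this
      simpa using hx
    subst hW'
    intro b
    exact ⟨0, Subsingleton.elim (α := Γ(Spec (CommRingCat.of E), ⊥)) _ _⟩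


theorem ores_injective_helper {E : Type u} [Field E] (φ : CommRingCat.of A ⟶ CommRingCat.of E)
    (W : (Spec (CommRingCat.of E)).Opens) (a : A) :
    str (Spec.map φ) W a = ores (le_top : W ≤ ⊤) ((Scheme.ΓSpecIso (CommRingCat.of E)).inv (φ a)) := by
  rw [← str_SpecMap, ores_str]

/-- The main construction. -/
theorem exists_multisection [IsDomain A] [ValuationRing A] [IsProper f] [Flat f] [Nonempty X] :
    ∃ (T : Scheme.{u}) (t : T ⟶ X), Nonempty T ∧ IsFinite (t ≫ f) ∧ Flat (t ≫ f) := by
  obtain ⟨x⟩ := ‹Nonempty X›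
  obtain ⟨U, hU, hxU, -⟩ := exists_isAffineOpen_mem_and_subset (x := x) (U := ⊤) trivial
  have hnt : Nontrivial Γ(X, U) := by
    have : Nonempty U := ⟨⟨x, hxU⟩⟩
    infer_instance
  obtain ⟨E, _, φ, hφi, hφa⟩ : ∃ (E : Type u) (_ : Field E) (φ : Γ(X, U) →+* E),
      Function.Injective (φ.comp (str f U)) ∧
      ∀ z : E, ∃ p : Polynomial A, p ≠ 0 ∧ p.eval₂ (φ.comp (str f U)) z = 0 := by
    have hft : (str f U).FiniteType := by
      have h1 := f.finiteType_appLE (isAffineOpen_top _) hU le_top
      exact RingHom.FiniteType.comp h1 (RingHom.FiniteType.of_surjective _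
        (ConcreteCategory.bijective_of_isIso (Scheme.ΓSpecIso (CommRingCat.of A)).inv).2)
    algebraize [str f U]
    have : Module.Flat A Γ(X, U) := str_flat f hU
    exact exists_algebraic_point (A := A) (B := Γ(X, U))
  let p : Spec (CommRingCat.of E) ⟶ X := Spec.map (CommRingCat.ofHom φ) ≫ hU.fromSpec
  let α : CommRingCat.of A ⟶ CommRingCat.of E := CommRingCat.ofHom (φ.comp (str f U))
  have hp : p ≫ f = Spec.map α := by
    rw [Category.assoc, fromSpec_comp, ← Spec.map_comp]
    rfl
  have : X.IsSeparated := ⟨by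
    have : IsSeparated (f ≫ terminal.from (Spec (CommRingCat.of A))) := inferInstance
    convert this
    exact Subsingleton.elim _ _⟩
  have hqc : QuasiCompact p := inferInstance
  let toT := p.toImage
  have htoT : toT ≫ p.imageι ≫ f = Spec.map α := by
    rw [← Category.assoc, Scheme.Hom.toImage_imageι, hp]
  have hne : Nonempty p.image := by
    have : Nonempty (Spec (CommRingCat.of E)) := inferInstanceAs (Nonempty (PrimeSpectrum E))
    exact this.map toT
  have hunit : ∀ (W : (Spec (CommRingCat.of E)).Opens) (a : A), a ≠ 0 →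
      IsUnit (str (Spec.map α) W a) := by
    intro W a ha
    rw [ores_injective_helper]
    refine IsUnit.map _ (IsUnit.map (Scheme.ΓSpecIso (CommRingCat.of E)).inv.hom ?_)
    rw [isUnit_iff_ne_zero]
    intro h0
    exact ha (hφi (h0.trans (map_zero _).symm))
  have halg : ∀ (W : (Spec (CommRingCat.of E)).Opens) (w : Γ(Spec (CommRingCat.of E), W)),
      ∃ q : Polynomial A, q ≠ 0 ∧ q.eval₂ (str (Spec.map α) W) w = 0 := by
    intro W w
    obtain ⟨w', rfl⟩ := surjective_of_field W w
    obtain ⟨v, rfl⟩ := (ConcreteCategory.bijective_of_isIso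
      (Scheme.ΓSpecIso (CommRingCat.of E)).inv).2 w'
    obtain ⟨q, hq, hqv⟩ := hφa v
    refine ⟨q, hq, ?_⟩
    have h1 : str (Spec.map α) W = ((ores (le_top : W ≤ ⊤)).comp
      (Scheme.ΓSpecIso (CommRingCat.of E)).inv.hom).comp (φ.comp (str f U)) := by
      ext a
      exact ores_injective_helper α W a
    have h2 := congrArg ((ores (le_top : W ≤ ⊤)).comp
      (Scheme.ΓSpecIso (CommRingCat.of E)).inv.hom) hqv
    rw [map_zero, Polynomial.hom_eval₂, ← h1] at h2
    exact h2
  have hcompat : ∀ (V : p.image.Opens), (toT.app V).hom.comp (str (p.imageι ≫ f) V) =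
      str (Spec.map α) (toT ⁻¹ᵁ V) := by
    intro V
    ext a
    have := str_comp (p.imageι ≫ f) toT (le_refl (toT ⁻¹ᵁ V)) a
    rw [← Scheme.Hom.app_eq_appLE] at this
    rw [← htoT]
    exact this
  have hinj : ∀ (V : X.affineOpens), Function.Injective (toT.app (p.imageι ⁻¹ᵁ V.1)) := by
    intro V
    exact p.toImage_app_injective V
  have htf : ∀ V : X.affineOpens, (str (p.imageι ≫ f) (p.imageι ⁻¹ᵁ V.1)).Flat := by
    intro V
    algebraize [str (p.imageι ≫ f) (p.imageι ⁻¹ᵁ V.1)]
    change Module.Flat A Γ(p.image, p.imageι ⁻¹ᵁ V.1)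
    refine flat_of_torsionFree fun a m ha hm => hinj V ?_
    rw [map_zero]
    have h1 : str (p.imageι ≫ f) (p.imageι ⁻¹ᵁ V.1) a * m = 0 := hm
    have h2 := congrArg (toT.app (p.imageι ⁻¹ᵁ V.1)) h1
    rw [map_mul, map_zero] at h2
    have h3 : (toT.app (p.imageι ⁻¹ᵁ V.1)) (str (p.imageι ≫ f) (p.imageι ⁻¹ᵁ V.1) a) =
      str (Spec.map α) (toT ⁻¹ᵁ (p.imageι ⁻¹ᵁ V.1)) a := congr($(hcompat _) a)
    rw [h3] at h2
    exact (hunit _ a ha).mul_right_eq_zero.mp h2
  let Vs : X.affineOpens → p.image.affineOpens := fun V => ⟨p.imageι ⁻¹ᵁ V.1, V.2.preimage p.imageι⟩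
  have hVs : ⨆ V, (Vs V : p.image.Opens) = ⊤ := by
    change ⨆ V : X.affineOpens, p.imageι ⁻¹ᵁ V.1 = ⊤
    rw [← Scheme.Hom.preimage_iSup, iSup_affineOpens_eq_top]
    rfl
  have hstr : ∀ V : p.image.Opens, ((p.imageι ≫ f).appLE ⊤ V le_top).hom =
      (str (p.imageι ≫ f) V).comp (Scheme.ΓSpecIso (CommRingCat.of A)).hom.hom := by
    intro V
    ext a
    change _ = (p.imageι ≫ f).appLE ⊤ V le_top
      ((Scheme.ΓSpecIso (CommRingCat.of A)).inv ((Scheme.ΓSpecIso (CommRingCat.of A)).hom a))
    simp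
  refine ⟨p.image, p.imageι, hne, ?_, ?_⟩
  · have : LocallyQuasiFinite (p.imageι ≫ f) := by
      refine HasRingHomProperty.of_iSup_eq_top Vs hVs fun V => ?_
      rw [hstr]
      refine RingHom.QuasiFinite.comp ?_ (RingHom.QuasiFinite.of_finite (RingHom.Finite.of_surjective _
        (ConcreteCategory.bijective_of_isIso (Scheme.ΓSpecIso (CommRingCat.of A)).hom).2))
      have hft : (str (p.imageι ≫ f) (p.imageι ⁻¹ᵁ V.1)).FiniteType := by
        have h1 := (p.imageι ≫ f).finiteType_appLE (isAffineOpen_top _) (Vs V).2 le_top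
        exact RingHom.FiniteType.comp h1 (RingHom.FiniteType.of_surjective _
          (ConcreteCategory.bijective_of_isIso (Scheme.ΓSpecIso (CommRingCat.of A)).inv).2)
      have hfl := htf V
      have halg' : ∀ z : Γ(p.image, p.imageι ⁻¹ᵁ V.1), ∃ q : Polynomial A, q ≠ 0 ∧
          q.eval₂ (str (p.imageι ≫ f) (p.imageι ⁻¹ᵁ V.1)) z = 0 := by
        intro z
        obtain ⟨q, hq, hqz⟩ := halg _ (toT.app (p.imageι ⁻¹ᵁ V.1) z)
        refine ⟨q, hq, hinj V ?_⟩
        rw [map_zero]
        refine Eq.trans ?_ hqz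
        rw [← hcompat]
        exact Polynomial.hom_eval₂ q _ (toT.app (p.imageι ⁻¹ᵁ V.1)).hom z
      change (str (p.imageι ≫ f) (p.imageι ⁻¹ᵁ V.1)).QuasiFinite
      algebraize [str (p.imageι ≫ f) (p.imageι ⁻¹ᵁ V.1)]
      exact quasiFinite_of_isAlgebraic (A := A) (B := Γ(p.image, p.imageι ⁻¹ᵁ V.1))
        ⟨fun z => halg' z⟩
    exact IsFinite.of_isProper_of_locallyQuasiFinite _
  · refine HasRingHomProperty.of_iSup_eq_top Vs hVs fun V => ?_
    rw [hstr]
    exact RingHom.Flat.comp (RingHom.Flat.of_bijective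
      (ConcreteCategory.bijective_of_isIso (Scheme.ΓSpecIso (CommRingCat.of A)).hom)) (htf V)

end Groth.Agent.Flat2E.ValTriv7
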