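import Groth.Agent.Flat2E.ValTriv7
import Groth.Agent.VarietyA.FinTriv

/-!
# Triviality of an invertible module with a section generating it generically
-/

set_option autoImplicit false
universe u

open CategoryTheory CategoryTheory.Limits AlgebraicGeometry Opposite TopologicalSpace

namespace Groth.Agent.Flat2E.ValTriv8

open IsLocalRing ValTriv1 ValTriv4 ValTriv5 ValTriv6 ValTriv7
open Groth.Agent.Fdesc.LocGen

variable {A : Type u} [CommRing A] {X T : Scheme.{u}} (f : X ⟶ Spec (CommRingCat.of A)) (t : T ⟶ X)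

theorem str_app (U : X.Opens) (a : A) : t.app U (str f U a) = str (t ≫ f) (t ⁻¹ᵁ U) a := by
  rw [Scheme.Hom.app_eq_appLE]
  exact str_comp f t le_rfl a

/-- A global generator on a finite scheme over a local ring. -/
theorem exists_top_gen [IsLocalRing A] (q : T ⟶ Spec (CommRingCat.of A)) [IsFinite q] (L : T.Modules)
    (hL : PicF.IsInvertible L) : ∃ e : Γ(L, ⊤), IsGen e := by
  obtain ⟨W, e, hW, -, he⟩ := VarietyA.FinTriv.exists_isGen_preimage q L hL (closedPoint A) ⊤ trivial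
  have hW' : W = ⊤ := (closedPoint_mem_iff W).mp hW
  subst hW'
  exact ⟨e, he⟩

theorem free_of_finite_flat [IsDomain A] [ValuationRing A] (q : T ⟶ Spec (CommRingCat.of A))
    [IsFinite q] [Flat q] : letI := (str q ⊤).toAlgebra; Module.Free A Γ(T, ⊤) := by
  have : IsAffine T := isAffine_of_isAffineHom q
  have h1 : (str q ⊤).Finite := by
    have h2 : (q.app ⊤).hom.Finite := q.finite_app ⊤ (isAffineOpen_top _)
    rw [Scheme.Hom.app_eq_appLE] at h2
    exact RingHom.Finite.comp h2 (RingHom.Finite.of_surjective _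
      (ConcreteCategory.bijective_of_isIso (Scheme.ΓSpecIso (CommRingCat.of A)).inv).2)
  have h2 := str_flat q (isAffineOpen_top T)
  algebraize [str q ⊤]
  have : Module.Finite A Γ(T, ⊤) := h1
  have : Module.Flat A Γ(T, ⊤) := h2
  exact Module.free_of_flat_of_isLocalRing

theorem main [IsDomain A] [ValuationRing A] [IsProper f] [Flat f] [LocallyOfFinitePresentation f]
    [IsIntegral (f.fiber (closedPoint A))] {L : X.Modules} (hL : PicF.IsInvertible L) (s : Γ(L, ⊤))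
    (hs : ∀ (U : X.Opens) (e : Γ(L, U)) (g : Γ(X, U)), IsAffineOpen U → IsGen e →
      res L le_top s = g • e → ∃ a : A, a ≠ 0 ∧ g ∣ str f U a) :
    ∃ s' : Γ(L, ⊤), IsGen s' := by
  have : Nonempty X := ⟨xi f⟩
  obtain ⟨T, t, hT, hfin, hflat⟩ := exists_multisection f
  have hLT : PicF.IsInvertible ((Scheme.Modules.pullback t).obj L) := isInvertible_pullback t hL
  obtain ⟨eT, heT⟩ := exists_top_gen (t ≫ f) _ hLT
  obtain ⟨gT, hgT⟩ := heT.exists_eq (pullTop t s)
  obtain ⟨z, hz⟩ : ∃ z : T, (t ≫ f) z = closedPoint A := by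
    obtain ⟨z₀⟩ := hT
    obtain ⟨z, hz, -⟩ := exists_specializes (t ≫ f) (t ≫ f).isClosedMap z₀
    exact ⟨z, hz⟩
  have hx : f (t z) = closedPoint A := by rw [← hz]; rfl
  -- the section does not vanish on `T`
  have hgT0 : gT ≠ 0 := by
    rintro rfl
    obtain ⟨U, e, g, hU, hxU, he, hg⟩ := exists_affine_gen hL s (t z)
    obtain ⟨a, ha, g', hg'⟩ := hs U e g hU he hg
    have h1 : pullSec t (res L (le_top : U ≤ ⊤) s) = 0 := by
      rw [← res_pullSec]
      change res _ _ (pullTop t s) = 0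
      rw [hgT, zero_smul, map_zero]
    rw [hg, pullSec_smul] at h1
    have h2 : t.app U g = 0 := (he.pullSec t).ext (by rw [h1, zero_smul])
    have h3 : str (t ≫ f) (t ⁻¹ᵁ U) a * 1 = 0 := by
      rw [mul_one, ← str_app, hg', map_mul, h2, zero_mul]
    have h4 := eq_zero_of_str_mul (t ≫ f) ha h3
    have : Nonempty (t ⁻¹ᵁ U) := ⟨⟨z, hxU⟩⟩
    have : Nontrivial Γ(T, t ⁻¹ᵁ U) := inferInstance
    exact one_ne_zero h4
  obtain ⟨c, g', hc, hgc, hg'⟩ : ∃ (c : A) (g' : Γ(T, ⊤)), c ≠ 0 ∧ gT = str (t ≫ f) ⊤ c * g' ∧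
      g' ∉ (maximalIdeal A).map (str (t ≫ f) ⊤) := by
    have h1 := free_of_finite_flat (t ≫ f)
    algebraize [str (t ≫ f) ⊤]
    exact exists_content (A := A) (B := Γ(T, ⊤)) gT hgT0
  have hI : InI f s c (xi f) := by
    by_contra hI
    have hJ := (inI_or_inJ f hL s c hc).resolve_left hI
    obtain ⟨m₁, hm₁, d, hd, hdJ⟩ := exists_inJ f hL s c hc hJ hI
    have hd0 : d ≠ 0 := fun h => hc (by rw [hd, h, mul_zero])
    obtain ⟨V, hxV, e, he, y, hy⟩ := inJ_of_xi f hL s hs d hdJ hx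
    have hgen := he.pullSec t
    obtain ⟨u, hu⟩ := hgen.exists_eq (res _ (le_top : t ⁻¹ᵁ V ≤ ⊤) eT)
    have h1 : str (t ≫ f) (t ⁻¹ᵁ V) d = t.app V y * (ores (le_top : t ⁻¹ᵁ V ≤ ⊤) gT * u) := by
      refine hgen.ext ?_
      have h2 := congrArg (pullSec t) hy
      rw [pullSec_smul, pullSec_smul, str_app] at h2
      have h3 : pullSec t (res L (le_top : V ≤ ⊤) s) = ores (le_top : t ⁻¹ᵁ V ≤ ⊤) gT • u • pullSec t e := by
        rw [← res_pullSec, ← hu]
        change res _ _ (pullTop t s) = _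
        rw [hgT, res_smul]
      rw [h2, h3, mul_smul, mul_smul]
    have h2 : str (t ≫ f) (t ⁻¹ᵁ V) d *
        (1 - str (t ≫ f) (t ⁻¹ᵁ V) m₁ * (t.app V y * u * ores (le_top : t ⁻¹ᵁ V ≤ ⊤) g')) = 0 := by
      rw [hgc, map_mul, ores_str, hd, map_mul] at h1
      linear_combination h1
    have h3 := eq_zero_of_str_mul (t ≫ f) hd0 h2
    have hzV : z ∈ t ⁻¹ᵁ V := hxV
    have h4 : str (t ≫ f) (t ⁻¹ᵁ V) m₁ ∈ ptIdeal hzV :=
      map_le_ptIdeal (t ≫ f) hzV hz (Ideal.mem_map_of_mem _ hm₁)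
    have h5 : (1 : Γ(T, t ⁻¹ᵁ V)) ∈ ptIdeal hzV := by
      rw [sub_eq_zero.mp h3]
      exact Ideal.mul_mem_right _ _ h4
    exact (ptIdeal_isPrime hzV).ne_top ((Ideal.eq_top_iff_one _).mpr h5)
  have allI : ∀ c', c' ≠ 0 → InI f s c' (xi f) → ∀ x, InI f s c' x := by
    intro c' hc' h x
    obtain ⟨x₀, hx₀, hxx₀⟩ := exists_specializes f f.isClosedMap x
    exact (inI_of_xi f hL s c' hc' h hx₀).specializes f hxx₀
  have hJ : InJ f s c (xi f) := by
    by_contra hJ
    obtain ⟨m₁, hm₁, hm₁0, hI'⟩ := exists_inI f hL s hs c hc hI hJ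
    have hcm : c * m₁ ≠ 0 := mul_ne_zero hc hm₁0
    obtain ⟨s', hs'⟩ := exists_eq_smul f hL s (c * m₁) hcm (allI _ hcm hI')
    obtain ⟨g'', hg''⟩ := heT.exists_eq (pullTop t s')
    have h1 : gT = str (t ≫ f) ⊤ (c * m₁) * g'' := by
      refine heT.ext ?_
      rw [← hgT, mul_smul, ← hg'', hs']
      have := pullSec_smul t (str f ⊤ (c * m₁)) s'
      rw [str_app] at this
      exact this
    have h2 : str (t ≫ f) ⊤ c * (g' - str (t ≫ f) ⊤ m₁ * g'') = 0 := by
      rw [hgc, map_mul] at h1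
      linear_combination h1
    have h3 := sub_eq_zero.mp (eq_zero_of_str_mul (t ≫ f) hc h2)
    exact hg' (by rw [h3]; exact Ideal.mul_mem_right _ _ (Ideal.mem_map_of_mem _ hm₁))
  have allJ : ∀ x, InJ f s c x := by
    intro x
    obtain ⟨x₀, hx₀, hxx₀⟩ := exists_specializes f f.isClosedMap x
    exact (inJ_of_xi f hL s hs c hJ hx₀).specializes f hxx₀
  exact exists_isGen f hL s c hc (allI c hc hI) allJ

end Groth.Agent.Flat2E.ValTriv8
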