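import Groth.Agent.Flat2E.ValTriv8
import Groth.Agent.VarietyB.FlatH0
import Groth.Agent.PerfB.TensInv

/-!
# Sections of an invertible module, trivial on the generic fibre
-/

set_option autoImplicit false
universe u

open CategoryTheory CategoryTheory.Limits AlgebraicGeometry Opposite TopologicalSpace

namespace Groth.Agent.Flat2E.ValTriv9

open IsLocalRing ValTriv1 ValTriv4 ValTriv5 ValTriv6 ValTriv7 TensorProduct
open Groth.Agent.Fdesc.LocGen

variable {A : Type u} [CommRing A] {X : Scheme.{u}} (f : X ⟶ Spec (CommRingCat.of A))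

theorem isLocalization_of_isPushout {R' R A' B : CommRingCat.{u}} {φ' : R' ⟶ A'} {π : R' ⟶ R}
    {ρ : A' ⟶ B} {φ : R ⟶ B} (h : IsPushout φ' π ρ φ) (M : Submonoid R')
    (hM : @IsLocalization _ _ M R _ π.hom.toAlgebra) :
    @IsLocalization _ _ (M.map φ'.hom) B _ ρ.hom.toAlgebra := by
  let i1 := π.hom.toAlgebra
  let i2 := φ'.hom.toAlgebra
  let i3 := ρ.hom.toAlgebra
  let i4 := φ.hom.toAlgebra
  let i5 : Algebra R' B := (ρ.hom.comp φ'.hom).toAlgebra
  have i6 : IsScalarTower R' A' B := IsScalarTower.of_algebraMap_eq (fun _ => rfl)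
  have i7 : IsScalarTower R' R B := IsScalarTower.of_algebraMap_eq (fun a => congr($(h.w) a))
  have h1 : Algebra.IsPushout R' A' R B := CommRingCat.isPushout_iff_isPushout.mp h
  exact (Algebra.isLocalization_iff_isPushout M R).mpr h1

theorem exists_smul_bc {R K M M' : Type*} [CommRing R] [IsDomain R] [CommRing K] [Algebra R K]
    [AddCommGroup M] [Module R M] [AddCommGroup M'] [Module K M']
    (hK : ∀ z : K, ∃ a b : R, b ≠ 0 ∧ algebraMap R K b * z = algebraMap R K a)
    (σ : M →ₛₗ[algebraMap R K] M') (z : K ⊗[R] M) :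
    ∃ (b : R) (m : M), b ≠ 0 ∧ σ m = algebraMap R K b • VarietyB.BCAlg.bc σ z := by
  induction z with
  | zero => exact ⟨1, 0, one_ne_zero, by simp⟩
  | add x y hx hy =>
    obtain ⟨b, m, hb, hm⟩ := hx
    obtain ⟨b', m', hb', hm'⟩ := hy
    refine ⟨b * b', b' • m + b • m', mul_ne_zero hb hb', ?_⟩
    rw [map_add, map_smulₛₗ, map_smulₛₗ, hm, hm', map_add, smul_add, smul_smul, smul_smul, map_mul,
      mul_comm (algebraMap R K b)]
  | tmul k m =>
    obtain ⟨a, b, hb, h⟩ := hK k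
    refine ⟨b, a • m, hb, ?_⟩
    rw [map_smulₛₗ, VarietyB.BCAlg.bc_tmul, smul_smul, h]

theorem exists_toRes_mul (y : Spec (CommRingCat.of A)) (z : (Spec (CommRingCat.of A)).residueField y) :
    ∃ a b : A, b ∉ y.asIdeal ∧ toRes y b * z = toRes y a := by
  obtain ⟨w, rfl⟩ := (ConcreteCategory.bijective_of_isIso
    (Scheme.Spec.residueFieldIso (CommRingCat.of A) y).inv).2 z
  obtain ⟨⟨a, b⟩, hab⟩ := IsLocalization.surj (nonZeroDivisors (A ⧸ y.asIdeal))
    (S := y.asIdeal.ResidueField) w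
  obtain ⟨a, rfl⟩ := Ideal.Quotient.mk_surjective a
  obtain ⟨b, hb⟩ := b
  obtain ⟨b, rfl⟩ := Ideal.Quotient.mk_surjective b
  refine ⟨a, b, ?_, ?_⟩
  · intro h
    rw [Ideal.Quotient.eq_zero_iff_mem.mpr h] at hb
    exact nonZeroDivisors.ne_zero hb rfl
  · change (Scheme.Spec.residueFieldIso (CommRingCat.of A) y).inv (algebraMap A y.asIdeal.ResidueField b) *
      (Scheme.Spec.residueFieldIso (CommRingCat.of A) y).inv w =
      (Scheme.Spec.residueFieldIso (CommRingCat.of A) y).inv (algebraMap A y.asIdeal.ResidueField a)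
    rw [← map_mul]
    congr 1
    rw [mul_comm]
    exact hab

section

variable [IsDomain A]

/-- the generic point -/
noncomputable abbrev eta (A : Type u) [CommRing A] [IsDomain A] : Spec (CommRingCat.of A) :=
  genericPoint (Spec (CommRingCat.of A))

theorem mem_eta_iff (a : A) : a ∈ (eta A).asIdeal ↔ a = 0 := by
  have : eta A = (⊥ : PrimeSpectrum A) := genericPoint_eq_bot_of_affine (CommRingCat.of A)
  rw [this]
  exact Ideal.mem_bot

theorem isLocalization_toRes :
    @IsLocalization _ _ (nonZeroDivisors A) ((Spec (CommRingCat.of A)).residueField (eta A)) _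
      (toRes (eta A)).hom.toAlgebra := by
  let i1 := (toRes (eta A)).hom.toAlgebra
  refine ⟨fun b => ?_, fun z => ?_, fun {a b} h => ?_⟩
  · rw [isUnit_iff_ne_zero]
    intro h
    exact nonZeroDivisors.ne_zero b.2 ((mem_eta_iff _).mp ((toRes_eq_zero_iff _ _).mp h))
  · obtain ⟨a, b, hb, h⟩ := exists_toRes_mul (eta A) z
    have hb' : b ≠ 0 := fun h0 => hb ((mem_eta_iff b).mpr h0)
    exact ⟨(a, ⟨b, mem_nonZeroDivisors_of_ne_zero hb'⟩), by rw [mul_comm]; exact h⟩
  · have h1 : toRes (eta A) (a - b) = 0 := by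
      rw [map_sub, sub_eq_zero]
      exact h
    have h2 := (mem_eta_iff _).mp ((toRes_eq_zero_iff _ _).mp h1)
    exact ⟨1, by rw [sub_eq_zero.mp h2]⟩

theorem flat_toRes : (toRes (eta A)).hom.Flat := by
  let i1 := (toRes (eta A)).hom.toAlgebra
  have := isLocalization_toRes (A := A)
  exact IsLocalization.flat ((Spec (CommRingCat.of A)).residueField (eta A)) (nonZeroDivisors A)

omit [IsDomain A] in
theorem isPushout_sections {W : X.Opens} (hW : IsAffineOpen W) (y : Spec (CommRingCat.of A)) :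
    ∃ γ, IsPushout (CommRingCat.ofHom (str f W)) (toRes y) ((f.fiberι y).app W) γ := by
  have h1 := Flat2C.Thick.isPushout_appLE (isPullback_fiber f y) (isAffineOpen_top _) hW le_top
  have h2 : IsPushout (Scheme.ΓSpecIso (CommRingCat.of A)).inv (toRes y)
      ((Spec.map (toRes y)).app ⊤) (Scheme.ΓSpecIso _).inv :=
    IsPushout.of_horiz_isIso ⟨(Scheme.ΓSpecIso_inv_naturality (toRes y)).symm⟩
  exact ⟨_, h2.paste_horiz h1⟩

theorem isLocalization_fiberι {W : X.Opens} (hW : IsAffineOpen W) :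
    @IsLocalization _ _ ((nonZeroDivisors A).map (str f W))
      Γ(f.fiber (eta A), f.fiberι (eta A) ⁻¹ᵁ W) _ ((f.fiberι (eta A)).app W).hom.toAlgebra := by
  obtain ⟨γ, h⟩ := isPushout_sections f hW (eta A)
  exact isLocalization_of_isPushout h _ isLocalization_toRes

/-- If `g` becomes a unit on the generic fibre, it divides a nonzero element of `A`. -/
theorem exists_dvd_of_isUnit [Flat f] {W : X.Opens} (hW : IsAffineOpen W) (g : Γ(X, W))
    (hg : IsUnit ((f.fiberι (eta A)).app W g)) : ∃ a : A, a ≠ 0 ∧ g ∣ str f W a := by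
  let i1 := ((f.fiberι (eta A)).app W).hom.toAlgebra
  have := isLocalization_fiberι f hW
  obtain ⟨v, hv⟩ := hg.exists_right_inv
  obtain ⟨⟨b, ⟨_, a, ha, rfl⟩⟩, hb⟩ := IsLocalization.surj ((nonZeroDivisors A).map (str f W)) v
  have h1 : algebraMap _ Γ(f.fiber (eta A), f.fiberι (eta A) ⁻¹ᵁ W) (g * b) =
      algebraMap _ Γ(f.fiber (eta A), f.fiberι (eta A) ⁻¹ᵁ W) (str f W a) := by
    rw [map_mul, ← hb, ← mul_assoc]
    change (f.fiberι (eta A)).app W g * v * _ = _
    rw [hv, one_mul]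
  obtain ⟨⟨_, a', ha', rfl⟩, h2⟩ :=
    (IsLocalization.eq_iff_exists ((nonZeroDivisors A).map (str f W)) _).mp h1
  refine ⟨a' * a, mul_ne_zero (nonZeroDivisors.ne_zero ha') (nonZeroDivisors.ne_zero ha),
    str f W a' * b, ?_⟩
  rw [map_mul, ← h2]
  ring

theorem exists_pullTop [CompactSpace X] [QuasiSeparatedSpace X] (L : X.Modules)
    (hL : PicF.IsInvertible L)
    (t₀ : Γ((Scheme.Modules.pullback (f.fiberι (eta A))).obj L, ⊤)) :
    ∃ (a : A) (s : Γ(L, ⊤)), a ≠ 0 ∧
      pullTop (f.fiberι (eta A)) s = str (f.fiberι (eta A) ≫ f) ⊤ a • t₀ := by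
  have h1 := VarietyB.FlatH0.bijective_bc_secSpec (isPullback_fiber f (eta A)) flat_toRes L
    (PerfB.TensInv.isQCoh_of_isInvertible hL)
  let i1 := (toRes (eta A)).hom.toAlgebra
  let i2 := VarietyB.FlatH0.modSpec f L
  let i3 := VarietyB.FlatH0.modSpec (f.fiberToSpecResidueField (eta A))
    ((Scheme.Modules.pullback (f.fiberι (eta A))).obj L)
  obtain ⟨z, hz⟩ := h1.2 t₀
  obtain ⟨b, m, hb, hm⟩ := exists_smul_bc (fun z => by
    obtain ⟨a, b, hb, h⟩ := exists_toRes_mul (eta A) z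
    exact ⟨a, b, fun h0 => hb ((mem_eta_iff b).mpr h0), h⟩)
    (VarietyB.FlatH0.secSpec (isPullback_fiber f (eta A)).w L) z
  refine ⟨b, m, hb, ?_⟩
  rw [hz] at hm
  have h2 : VarietyB.FlatH0.secSpec (isPullback_fiber f (eta A)).w L m =
      pullTop (f.fiberι (eta A)) m := by
    rw [VarietyB.FlatH0.secSpec_apply]
    exact res_refl _ _
  rw [← h2, hm]
  have h3 : (f.fiberToSpecResidueField (eta A)).appTop ((Scheme.ΓSpecIso _).inv (toRes (eta A) b)) =
      str (f.fiberι (eta A) ≫ f) ⊤ b := by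
    rw [(isPullback_fiber f (eta A)).w]
    refine Eq.trans ?_ (str_comp (Spec.map (toRes (eta A)))
      (f.fiberToSpecResidueField (eta A)) (le_refl (f.fiberToSpecResidueField (eta A) ⁻¹ᵁ ⊤)) b)
    rw [str_SpecMap, Scheme.Hom.appTop, Scheme.Hom.app_eq_appLE]
    rfl
  rw [← h3]
  rfl

/-- The section with its divisibility property. -/
theorem exists_section [CompactSpace X] [QuasiSeparatedSpace X] [Flat f] (L : X.Modules)
    (hL : PicF.IsInvertible L)
    (t₀ : Γ((Scheme.Modules.pullback (f.fiberι (eta A))).obj L, ⊤)) (ht₀ : IsGen t₀) :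
    ∃ s : Γ(L, ⊤), ∀ (U : X.Opens) (e : Γ(L, U)) (g : Γ(X, U)), IsAffineOpen U → IsGen e →
      res L le_top s = g • e → ∃ a : A, a ≠ 0 ∧ g ∣ str f U a := by
  obtain ⟨a, s, ha, hs⟩ := exists_pullTop f L hL t₀
  refine ⟨s, fun U e g hU he hg => exists_dvd_of_isUnit f hU g ?_⟩
  set j := f.fiberι (eta A) with hj
  have hgen := he.pullSec j
  obtain ⟨u, hu, hue⟩ := hgen.exists_unit (ht₀.res (le_top : j ⁻¹ᵁ U ≤ ⊤))
  have hunit : IsUnit (str (j ≫ f) (j ⁻¹ᵁ U) a) := by
    rw [← ValTriv8.str_app]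
    let i1 := ((f.fiberι (eta A)).app U).hom.toAlgebra
    have := isLocalization_fiberι f hU
    exact IsLocalization.map_units (M := (nonZeroDivisors A).map (str f U))
      Γ(f.fiber (eta A), f.fiberι (eta A) ⁻¹ᵁ U) ⟨_, a, mem_nonZeroDivisors_of_ne_zero ha, rfl⟩
  have h1 : pullSec j (res L (le_top : U ≤ ⊤) s) = (str (j ≫ f) (j ⁻¹ᵁ U) a * u) • pullSec j e := by
    rw [← res_pullSec]
    change res _ _ (pullTop j s) = _
    rw [hs, res_smul, ores_str, mul_smul, ← hue]
  rw [hg, pullSec_smul] at h1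
  rw [hgen.ext h1]
  exact hunit.mul hu

end

end Groth.Agent.Flat2E.ValTriv9
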