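import Mathlib.RingTheory.ZariskisMainTheorem
import Mathlib.RingTheory.IntegralClosure.GoingDown
import Mathlib.RingTheory.Polynomial.IsIntegral
import Mathlib.RingTheory.AlgebraicIndependent.TranscendenceBasis
import Mathlib.Algebra.MvPolynomial.Equiv

/-!
# Quasi-finite families over a normal base: going down to the zero section

Algebra for Stacks 053R.
-/

set_option autoImplicit false

namespace Groth.Agent.Flat2E.VertAlg

open MvPolynomial Algebra Cardinal

/-- Polynomial rings in finitely many variables over a normal domain are normal. -/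
theorem isIntegrallyClosed_mvPolynomial (R : Type*) [CommRing R] [IsDomain R] [IsIntegrallyClosed R]
    (n : ℕ) : IsIntegrallyClosed (MvPolynomial (Fin n) R) := by
  induction n with
  | zero => exact IsIntegrallyClosed.of_equiv (MvPolynomial.isEmptyAlgEquiv R (Fin 0)).symm.toRingEquiv
  | succ n ih =>
    exact IsIntegrallyClosed.of_equiv (MvPolynomial.finSuccEquiv R n).symm.toRingEquiv

/-- The ideal generated by the variables is prime, as the kernel of the evaluation at zero. -/
noncomputable def zeroIdeal (R : Type*) [CommRing R] (n : ℕ) : Ideal (MvPolynomial (Fin n) R) :=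
  RingHom.ker (MvPolynomial.constantCoeff (R := R) (σ := Fin n))

theorem zeroIdeal_le {R : Type*} [CommRing R] {n : ℕ} {J : Ideal (MvPolynomial (Fin n) R)}
    (h : ∀ i, X i ∈ J) : zeroIdeal R n ≤ J := by
  intro f hf
  rw [f.as_sum]
  refine Ideal.sum_mem _ fun m hm => ?_
  have hm0 : m ≠ 0 := by
    rintro rfl
    rw [MvPolynomial.mem_support_iff] at hm
    exact hm hf
  obtain ⟨i, hi⟩ : ∃ i, m i ≠ 0 := by
    by_contra hcon
    push Not at hcon
    exact hm0 (Finsupp.ext hcon)
  rw [MvPolynomial.monomial_eq]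
  refine Ideal.mul_mem_left _ _ ?_
  rw [Finsupp.prod, ← Finset.mul_prod_erase _ _ (Finsupp.mem_support_iff.mpr hi)]
  exact Ideal.mul_mem_right _ _ (Ideal.pow_mem_of_mem _ (h i) _ (Nat.pos_of_ne_zero hi))

/-- Let `R` be a normal domain and `A` a finite type domain over `R` of transcendence degree at least
`n`. If `y₁, …, yₙ` are elements of a prime `M` such that `R[x] → A` is quasi-finite at `M`, then there is
a prime below `M` lying over the zero ideal of `R` and containing all `yᵢ`. -/
theorem exists_prime_of_quasiFiniteAt {R A : Type*} [CommRing R] [CommRing A] [IsDomain R]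
    [IsIntegrallyClosed R] [IsDomain A] [Algebra R A] [FaithfulSMul R A] [Algebra.FiniteType R A]
    {n : ℕ} (hn : (n : Cardinal) ≤ Algebra.trdeg R A) (y : Fin n → A) (M : Ideal A) [M.IsPrime]
    (hy : ∀ i, y i ∈ M)
    (hqf : letI := (MvPolynomial.aeval (R := R) y).toRingHom.toAlgebra
      Algebra.QuasiFiniteAt (MvPolynomial (Fin n) R) M) :
    ∃ Q : Ideal A, Q.IsPrime ∧ Q ≤ M ∧ Q.comap (algebraMap R A) = ⊥ ∧ ∀ i, y i ∈ Q := by
  let P := MvPolynomial (Fin n) R
  let _ : Algebra P A := (MvPolynomial.aeval (R := R) y).toRingHom.toAlgebra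
  have hqf : Algebra.QuasiFiniteAt P M := hqf
  have : IsScalarTower R P A := .of_algebraMap_eq fun r => by
    exact ((MvPolynomial.aeval (R := R) y).commutes r).symm
  have hX : ∀ i, algebraMap P A (X i) = y i := fun i => by
    change MvPolynomial.aeval y (X i) = y i
    simp
  have : Algebra.FiniteType P A := Algebra.FiniteType.of_restrictScalars_finiteType R P A
  obtain ⟨r, hrM, hri, H⟩ := zariskisMainProperty_iff.mp
    (ZariskisMainProperty.of_finiteType (R := P) M)
  have hr0 : r ≠ 0 := fun h => hrM (h ▸ zero_mem _)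
  -- algebraic
  have halg : Algebra.IsAlgebraic (adjoin R (Set.range y)) A := by
    have hle : ∀ p : P, algebraMap P A p ∈ adjoin R (Set.range y) := by
      intro p
      rw [Algebra.adjoin_range_eq_range_aeval]
      exact ⟨p, rfl⟩
    have hint : ∀ a : A, IsIntegral P a → IsIntegral (adjoin R (Set.range y)) a := by
      intro a ha
      obtain ⟨f, hf, hfa⟩ := ha
      let ψ : P →+* adjoin R (Set.range y) :=
        (algebraMap P A).codRestrict (adjoin R (Set.range y)).toSubring (fun p => hle p)
      refine ⟨f.map ψ, hf.map _, ?_⟩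
      rw [Polynomial.eval₂_map]
      exact hfa
    constructor
    intro x
    obtain ⟨m, hm⟩ := H x
    have h1 : IsAlgebraic (adjoin R (Set.range y)) (r ^ m) := (hint _ (hri.pow m)).isAlgebraic
    have h2 : IsAlgebraic (adjoin R (Set.range y)) (r ^ m * x) := (hint _ hm).isAlgebraic
    exact IsAlgebraic.of_mul (mem_nonZeroDivisors_of_ne_zero (pow_ne_zero m hr0)) h1 h2
  have htb : IsTranscendenceBasis R y :=
    Algebra.IsAlgebraic.isTranscendenceBasis_of_lift_le_trdeg_of_finite R y (by simpa using hn)
  have hinj : Function.Injective (algebraMap P A) := htb.1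
  have : FaithfulSMul P A := (faithfulSMul_iff_algebraMap_injective P A).mpr hinj
  have : IsIntegrallyClosed P := isIntegrallyClosed_mvPolynomial R n
  let B := integralClosure P A
  have : FaithfulSMul P B := by
    rw [faithfulSMul_iff_algebraMap_injective]
    intro a b hab
    exact hinj (congrArg (algebraMap B A) hab)
  have : Algebra.HasGoingDown P B := inferInstance
  let MB : Ideal B := M.comap (algebraMap B A)
  have : MB.IsPrime := Ideal.comap_isPrime _ _
  have hz : (zeroIdeal R n).IsPrime := RingHom.ker_isPrime _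
  have hle : zeroIdeal R n ≤ MB.under P := by
    apply zeroIdeal_le
    intro i
    change algebraMap B A (algebraMap P B (X i)) ∈ M
    rw [← IsScalarTower.algebraMap_apply, hX]
    exact hy i
  obtain ⟨QB, hQBle, hQBp, hQBo⟩ := Ideal.exists_ideal_le_liesOver_of_le (p := zeroIdeal R n)
    (q := MB.under P) MB hle
  let rB : B := ⟨r, hri⟩
  have hrQ : rB ∉ QB := fun h => hrM (hQBle h)
  have hrQ' : ∀ m : ℕ, rB ^ m ∉ QB := fun m h => hrQ (hQBp.mem_of_pow_mem m h)
  have hpow : ∀ m : ℕ, ((rB ^ m : B) : A) = r ^ m := fun m => rfl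
  -- the prime
  let Q : Ideal A :=
    { carrier := {a | ∃ (m : ℕ) (b : B), b ∈ QB ∧ (b : A) = r ^ m * a}
      add_mem' := by
        rintro a a' ⟨m, b, hb, hab⟩ ⟨m', b', hb', hab'⟩
        refine ⟨m + m', rB ^ m' * b + rB ^ m * b', add_mem (QB.mul_mem_left _ hb)
          (QB.mul_mem_left _ hb'), ?_⟩
        change r ^ m' * (b : A) + r ^ m * (b' : A) = _
        rw [hab, hab']
        ring
      zero_mem' := ⟨0, 0, zero_mem _, by simp⟩
      smul_mem' := by
        rintro c a ⟨m, b, hb, hab⟩
        obtain ⟨k, hk⟩ := H c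
        refine ⟨k + m, ⟨r ^ k * c, hk⟩ * b, QB.mul_mem_left _ hb, ?_⟩
        change r ^ k * c * (b : A) = _
        rw [hab, smul_eq_mul]
        ring }
  have hQmem : ∀ a : A, a ∈ Q ↔ ∃ (m : ℕ) (b : B), b ∈ QB ∧ (b : A) = r ^ m * a := fun a => Iff.rfl
  have hQB : ∀ b : B, (b : A) ∈ Q ↔ b ∈ QB := by
    intro b
    rw [hQmem]
    constructor
    · rintro ⟨m, b', hb', h⟩
      have : b' = rB ^ m * b := Subtype.ext h
      rw [this] at hb'
      exact (hQBp.mem_or_mem hb').resolve_left (hrQ' m)
    · intro hb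
      exact ⟨0, b, hb, by simp⟩
  have hQle : Q ≤ M := by
    rintro a ⟨m, b, hb, hab⟩
    have : r ^ m * a ∈ M := by
      rw [← hab]
      exact hQBle hb
    exact (Ideal.IsPrime.mem_or_mem ‹_› this).resolve_left
      (fun h => hrM (Ideal.IsPrime.mem_of_pow_mem ‹_› m h))
  refine ⟨Q, ⟨?_, ?_⟩, hQle, ?_, ?_⟩
  · intro h
    exact Ideal.IsPrime.ne_top (I := M) ‹_› (top_le_iff.mp (h ▸ hQle))
  · intro a a' haa'
    obtain ⟨k, hk⟩ := H a
    obtain ⟨k', hk'⟩ := H a'
    have h1 : (((⟨r ^ k * a, hk⟩ * ⟨r ^ k' * a', hk'⟩ : B)) : A) ∈ Q := by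
      have : (((⟨r ^ k * a, hk⟩ * ⟨r ^ k' * a', hk'⟩ : B)) : A) = r ^ (k + k') * (a * a') := by
        change (r ^ k * a) * (r ^ k' * a') = _
        ring
      rw [this]
      exact Q.mul_mem_left _ haa'
    rw [hQB] at h1
    rcases hQBp.mem_or_mem h1 with h | h
    · exact Or.inl ⟨k, _, h, rfl⟩
    · exact Or.inr ⟨k', _, h, rfl⟩
  · rw [eq_bot_iff]
    intro a ha
    rw [Ideal.mem_comap] at ha
    have e : algebraMap R A a = ((algebraMap P B (algebraMap R P a) : B) : A) := by
      change _ = algebraMap B A (algebraMap P B (algebraMap R P a))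
      rw [← IsScalarTower.algebraMap_apply P B A, ← IsScalarTower.algebraMap_apply R P A]
    rw [e, hQB] at ha
    have h2 : algebraMap R P a ∈ QB.under P := ha
    rw [← hQBo.over] at h2
    have : constantCoeff (C a : P) = 0 := h2
    rw [constantCoeff_C] at this
    exact this
  · intro i
    have e : y i = ((algebraMap P B (X i) : B) : A) := by
      change _ = algebraMap B A (algebraMap P B (X i))
      rw [← IsScalarTower.algebraMap_apply P B A, hX]
    rw [e, hQB]
    have h2 : X i ∈ QB.under P := by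
      rw [← hQBo.over]
      change constantCoeff (X i : P) = 0
      simp
    exact h2

end Groth.Agent.Flat2E.VertAlg
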