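import Groth.Agent.Flat2E.VertNormal2

/-!
# Vertical divisors: reduction to a normal base
-/

set_option autoImplicit false

universe u

namespace Groth.Agent.Flat2E.VertDomain

open Algebra TensorProduct CycB.TrdegAlg Cardinal

theorem trd_eq_zero_of_isIntegral {K L : Type u} [CommRing K] [CommRing L] [IsDomain L]
    (φ : K →+* L) (hφ : Function.Injective φ) (h : φ.IsIntegral) : trd φ = 0 := by
  let _ := φ.toAlgebra
  have : FaithfulSMul K L := (faithfulSMul_iff_algebraMap_injective K L).mpr hφ
  have : Nontrivial K := by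
    by_contra hK
    rw [not_nontrivial_iff_subsingleton] at hK
    exact one_ne_zero (α := L) (by rw [← map_one φ, Subsingleton.elim (1 : K) 0, map_zero])
  have : Algebra.IsAlgebraic K L := ⟨fun x => (show IsIntegral K x from h x).isAlgebraic⟩
  exact trdeg_eq_zero

theorem isIntegral_quotientMap {A B : Type u} [CommRing A] [CommRing B] (φ : A →+* B)
    (h : φ.IsIntegral) (p : Ideal A) (q : Ideal B) (hpq : p ≤ q.comap φ) :
    (Ideal.quotientMap q φ hpq).IsIntegral := by
  intro x
  obtain ⟨x, rfl⟩ := Ideal.Quotient.mk_surjective x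
  obtain ⟨f, hf, hfx⟩ := h x
  refine ⟨f.map (Ideal.Quotient.mk p), hf.map _, ?_⟩
  rw [Polynomial.eval₂_map]
  have e : (Ideal.quotientMap q φ hpq).comp (Ideal.Quotient.mk p) = (Ideal.Quotient.mk q).comp φ := by
    ext; simp
  rw [e, ← Polynomial.hom_eval₂, hfx, map_zero]

/-- Invariance of the transcendence degree at a prime under integral base change and integral
extension. -/
theorem trd_square {R A R' A' : Type u} [CommRing R] [CommRing A] [CommRing R'] [CommRing A']
    (φ : R →+* A) (φ' : R' →+* A') (i : R →+* R') (j : A →+* A') (comm : j.comp φ = φ'.comp i)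
    (hi : i.IsIntegral) (hj : j.IsIntegral) (Q' : Ideal A') [hQ' : Q'.IsPrime] (Q : Ideal A)
    (hQ : Q = Q'.comap j) (p : Ideal R) (hp : p = Q.comap φ) (p' : Ideal R') (hp' : p' = Q'.comap φ') :
    trd (Ideal.quotientMap Q φ hp.le) = trd (Ideal.quotientMap Q' φ' hp'.le) := by
  have hQp : Q.IsPrime := hQ ▸ Ideal.comap_isPrime _ _
  have hpp : p.IsPrime := hp ▸ Ideal.comap_isPrime _ _
  have hpp' : p'.IsPrime := hp' ▸ Ideal.comap_isPrime _ _
  have hpp2 : p = p'.comap i := by
    rw [hp, hQ, hp', Ideal.comap_comap, Ideal.comap_comap, comm]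
  have e : (Ideal.quotientMap Q' j hQ.le).comp (Ideal.quotientMap Q φ hp.le) =
      (Ideal.quotientMap Q' φ' hp'.le).comp (Ideal.quotientMap p' i hpp2.le) := by
    apply Ideal.Quotient.ringHom_ext
    ext r
    simp only [RingHom.comp_apply, Ideal.quotientMap_mk]
    exact congrArg _ (congrArg (fun f => f r) comm)
  have ia := quotientMap_injective_of_eq φ p Q hp
  have ib := quotientMap_injective_of_eq j Q Q' hQ
  have ic := quotientMap_injective_of_eq i p p' hpp2
  have id := quotientMap_injective_of_eq φ' p' Q' hp'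
  have h1 := trd_comp' _ _ ia ib
  have h2 := trd_comp' _ _ ic id
  rw [trd_eq_zero_of_isIntegral _ ib (isIntegral_quotientMap _ hj _ _ _), add_zero] at h1
  rw [trd_eq_zero_of_isIntegral _ ic (isIntegral_quotientMap _ hi _ _ _), zero_add] at h2
  rw [← h1, ← h2, e]

/-- The compositum of `A` and `R'` in `L`. -/
theorem exists_compositum (R A R' L : Type u) [CommRing R] [CommRing A] [Algebra R A]
    [Algebra.FiniteType R A] [CommRing R'] [Field L] [Algebra R R'] [Algebra R' L] [Algebra R L]
    [Algebra A L] [IsScalarTower R R' L] [IsScalarTower R A L]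
    (hAL : Function.Injective (algebraMap A L)) (hR'L : Function.Injective (algebraMap R' L))
    (hint : Algebra.IsIntegral R R') :
    ∃ (A' : Type u) (_ : CommRing A') (_ : Algebra R' A') (j : A →+* A'),
      IsDomain A' ∧ FaithfulSMul R' A' ∧
        Algebra.FiniteType R' A' ∧ Function.Injective j ∧
        j.comp (algebraMap R A) = (algebraMap R' A').comp (algebraMap R R') ∧ j.IsIntegral := by
  let Φ : R' ⊗[R] A →ₐ[R'] L :=
    Algebra.TensorProduct.lift (Algebra.ofId R' L) (IsScalarTower.toAlgHom R A L)
      (fun _ _ => mul_comm _ _)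
  let K : Ideal (R' ⊗[R] A) := RingHom.ker Φ
  have hK : K.IsPrime := RingHom.ker_isPrime _
  let A' := (R' ⊗[R] A) ⧸ K
  let π : R' ⊗[R] A →+* A' := Ideal.Quotient.mk K
  have hπ : Function.Surjective π := Ideal.Quotient.mk_surjective
  have hftT : Algebra.FiniteType R' (R' ⊗[R] A) := inferInstance
  have hft : Algebra.FiniteType R' A' :=
    .of_surjective (Ideal.Quotient.mkₐ R' K) Ideal.Quotient.mk_surjective
  let ι : A →+* R' ⊗[R] A := (Algebra.TensorProduct.includeRight : A →ₐ[R] R' ⊗[R] A).toRingHom
  let j : A →+* A' := π.comp ι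
  have hΦι : ∀ a, Φ (ι a) = algebraMap A L a := by
    intro a
    change Φ (1 ⊗ₜ a) = _
    simp [Φ]
  have hjinj : Function.Injective j := by
    rw [injective_iff_map_eq_zero]
    intro a ha
    have : ι a ∈ K := Ideal.Quotient.eq_zero_iff_mem.mp ha
    have h2 : Φ (ι a) = 0 := this
    rw [hΦι] at h2
    exact (map_eq_zero_iff _ hAL).mp h2
  let i : R →+* R' := algebraMap R R'
  have halg : ∀ r : R', algebraMap R' A' r = π (algebraMap R' (R' ⊗[R] A) r) := fun r => rfl
  have hφ'inj : Function.Injective (algebraMap R' A') := by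
    rw [injective_iff_map_eq_zero]
    intro a ha
    rw [halg] at ha
    have : algebraMap R' (R' ⊗[R] A) a ∈ K := Ideal.Quotient.eq_zero_iff_mem.mp ha
    have h2 : Φ (algebraMap R' (R' ⊗[R] A) a) = 0 := this
    rw [Φ.commutes] at h2
    exact (map_eq_zero_iff _ hR'L).mp h2
  have hfaith : FaithfulSMul R' A' := (faithfulSMul_iff_algebraMap_injective R' A').mpr hφ'inj
  have comm : j.comp (algebraMap R A) = (algebraMap R' A').comp i := by
    ext r
    change π (ι (algebraMap R A r)) = π (algebraMap R' (R' ⊗[R] A) (algebraMap R R' r))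
    congr 1
    exact (Algebra.TensorProduct.includeRight : A →ₐ[R] R' ⊗[R] A).commutes r
  have hi : i.IsIntegral := fun x => hint.isIntegral x
  have hj : j.IsIntegral := by
    intro z
    obtain ⟨t, rfl⟩ := hπ z
    induction t using TensorProduct.induction_on with
    | zero => rw [map_zero]; exact RingHom.isIntegralElem_zero j
    | add x y hx hy =>
      rw [map_add]
      exact RingHom.IsIntegralElem.add j hx hy
    | tmul x a =>
      have h1 : π (x ⊗ₜ a) = algebraMap R' A' x * j a := by
        rw [halg]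
        change _ = π _ * π (1 ⊗ₜ a)
        rw [← map_mul, Algebra.TensorProduct.algebraMap_apply,
          Algebra.TensorProduct.tmul_mul_tmul, one_mul, mul_one]
        rfl
      rw [h1]
      refine RingHom.IsIntegralElem.mul j ?_ (RingHom.isIntegralElem_map j)
      obtain ⟨f, hf, hfx⟩ := hi x
      refine ⟨f.map (algebraMap R A), hf.map _, ?_⟩
      rw [Polynomial.eval₂_map, comm, ← Polynomial.hom_eval₂, hfx, map_zero]
  exact ⟨A', inferInstance, inferInstance, j,
    Ideal.Quotient.isDomain K, hfaith, hft, hjinj, comm, hj⟩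

/-- A finite type domain over a domain becomes, after integral extensions, a finite type domain over
a normal domain. -/
theorem exists_normal_model (R A : Type u) [CommRing R] [CommRing A]
    [IsDomain A] [Algebra R A] [FaithfulSMul R A] [Algebra.FiniteType R A] :
    ∃ (R' A' : Type u) (_ : CommRing R') (_ : CommRing A') (_ : Algebra R' A') (i : R →+* R')
      (j : A →+* A'), IsDomain R' ∧ IsIntegrallyClosed R' ∧ IsDomain A' ∧ FaithfulSMul R' A' ∧
        Algebra.FiniteType R' A' ∧ Function.Injective j ∧
        j.comp (algebraMap R A) = (algebraMap R' A').comp i ∧ i.IsIntegral ∧ j.IsIntegral := by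
  have h1 : IsIntegrallyClosed (integralClosure R (FractionRing A)) :=
    IsIntegrallyClosed.of_isIntegrallyClosedIn _ (FractionRing A)
  have h2 : Algebra.IsIntegral R (integralClosure R (FractionRing A)) := inferInstance
  obtain ⟨A', c, a, j, h3, h4, h5, h6, h7, h8⟩ := exists_compositum R A
    (integralClosure R (FractionRing A)) (FractionRing A) (IsFractionRing.injective _ _)
    Subtype.val_injective h2
  exact ⟨_, A', inferInstance, c, a, _, j, inferInstance, h1, h3, h4, h5, h6, h7,
    fun x => h2.isIntegral x, h8⟩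

theorem domain_case {R A : Type u} [CommRing R] [IsDomain R] [CommRing A]
    [IsDomain A] [Algebra R A] [FaithfulSMul R A] [Algebra.FiniteType R A] (P : Ideal A) [hP : P.IsPrime]
    (g : A) (hg : g ∈ P) (hgen : ∀ Q : Ideal A, Q.IsPrime → Q.comap (algebraMap R A) = ⊥ → g ∉ Q)
    (n : ℕ) (hn : (n : Cardinal) ≤ Algebra.trdeg R A)
    (hdim : ∀ (Q : Ideal A) (_ : Q.IsPrime) (h : P.comap (algebraMap R A) = Q.comap (algebraMap R A)),
      trd (Ideal.quotientMap Q (algebraMap R A) h.le) ≤ n) :
    ∃ (Q : Ideal A) (_ : Q.IsPrime) (h : P.comap (algebraMap R A) = Q.comap (algebraMap R A)),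
      Q ≤ P ∧ g ∈ Q ∧ (n : Cardinal) ≤ trd (Ideal.quotientMap Q (algebraMap R A) h.le) := by
  have hRA : Function.Injective (algebraMap R A) := FaithfulSMul.algebraMap_injective R A
  obtain ⟨R', A', _, _, _, i, j, _, _, _, hfaith, hft, hjinj, comm, hi, hj⟩ :=
    exists_normal_model R A
  let φ' : R' →+* A' := algebraMap R' A'
  have hφ'inj : Function.Injective φ' := FaithfulSMul.algebraMap_injective R' A'
  -- lift `P`
  obtain ⟨P', hP', hP'P⟩ : ∃ P' : Ideal A', P'.IsPrime ∧ P'.comap j = P := by
    let _ := j.toAlgebra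
    have : Algebra.IsIntegral A A' := ⟨hj⟩
    obtain ⟨P', _, hP', hP'2⟩ := Ideal.exists_ideal_over_prime_of_isIntegral P (⊥ : Ideal A') (by
      intro a ha
      have : j a = 0 := ha
      rw [(map_eq_zero_iff j hjinj).mp this]
      exact zero_mem _)
    exact ⟨P', hP', hP'2⟩
  -- transcendence degree
  have htr : Algebra.trdeg R A = Algebra.trdeg R' A' := by
    rw [← trd_algebraMap, ← trd_algebraMap]
    have h1 := trd_comp' (algebraMap R A) j hRA hjinj
    have hiinj : Function.Injective i := by
      intro a b hab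
      apply hRA
      apply hjinj
      have : (j.comp (algebraMap R A)) a = (j.comp (algebraMap R A)) b := by
        rw [comm, RingHom.comp_apply, RingHom.comp_apply, hab]
      exact this
    have h2 := trd_comp' i φ' hiinj hφ'inj
    rw [trd_eq_zero_of_isIntegral j hjinj hj, add_zero] at h1
    rw [trd_eq_zero_of_isIntegral i hiinj hi, zero_add] at h2
    rw [← h1, ← h2, comm]
  have key : ∀ (Q' : Ideal A') (_ : Q'.IsPrime) (h : P'.comap φ' = Q'.comap φ')
      (h' : P.comap (algebraMap R A) = (Q'.comap j).comap (algebraMap R A)),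
      trd (Ideal.quotientMap Q' φ' h.le) = trd (Ideal.quotientMap (Q'.comap j) (algebraMap R A) h'.le) :=
    fun Q' hQ' h h' =>
      (trd_square (algebraMap R A) φ' i j comm hi hj Q' _ rfl _ h' _ h).symm
  have hcm : ∀ Q' : Ideal A', (Q'.comap j).comap (algebraMap R A) = (Q'.comap φ').comap i := by
    intro Q'
    rw [Ideal.comap_comap, Ideal.comap_comap, comm]
  obtain ⟨Q', hQ', h, hle, hgQ, hnQ⟩ := VertNormal.normal_case P' (j g)
    (show g ∈ P'.comap j by rw [hP'P]; exact hg) (by
      intro Q hQ hQ0 hgQ
      refine hgen (Q.comap j) (Ideal.comap_isPrime _ _) ?_ hgQ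
      rw [hcm]
      change ((Q.comap (algebraMap R' A'))).comap i = ⊥
      rw [hQ0, eq_bot_iff]
      intro r hr
      have h0 : i r = 0 := hr
      have : (j.comp (algebraMap R A)) r = 0 := by
        rw [comm, RingHom.comp_apply, h0, map_zero]
      exact (map_eq_zero_iff _ hRA).mp ((map_eq_zero_iff _ hjinj).mp this))
    n (htr ▸ hn) (by
      intro Q' hQ' h
      have h' : P.comap (algebraMap R A) = (Q'.comap j).comap (algebraMap R A) := by
        rw [← hP'P, hcm, hcm]
        exact congrArg _ h
      have e := key Q' hQ' h h'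
      have := hdim (Q'.comap j) (Ideal.comap_isPrime _ _) h'
      rw [← e] at this
      exact this)
  have h' : P.comap (algebraMap R A) = (Q'.comap j).comap (algebraMap R A) := by
    rw [← hP'P, hcm, hcm]
    exact congrArg _ h
  refine ⟨Q'.comap j, Ideal.comap_isPrime _ _, h', ?_, hgQ, ?_⟩
  · rw [← hP'P]
    exact Ideal.comap_mono hle
  · rw [← key Q' hQ' h h']
    exact hnQ

end Groth.Agent.Flat2E.VertDomain
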