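import Groth.Agent.Flat2E.VertAlg
import Mathlib.RingTheory.Ideal.KrullsHeightTheorem
import Mathlib.RingTheory.Ideal.MinimalPrime.Noetherian
import Mathlib.RingTheory.Ideal.MinimalPrime.Localization
import Mathlib.RingTheory.KrullDimension.Basic
import Mathlib.RingTheory.Jacobson.Ring

/-!
# Systems of parameters in a fibre give quasi-finite maps to affine space
-/

set_option autoImplicit false

namespace Groth.Agent.Flat2E.VertFib

open Algebra TensorProduct

/-- A chain of primes above `q` has length at most `dim F/q`. -/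
theorem length_le_of_le_head {F : Type*} [CommRing F] (q : Ideal F) (l : LTSeries (PrimeSpectrum F))
    (h : q ≤ l.head.asIdeal) : (l.length : WithBot ℕ∞) ≤ ringKrullDim (F ⧸ q) := by
  have hle : ∀ i, q ≤ (l i).asIdeal := fun i => h.trans (l.head_le i)
  let l' : LTSeries (PrimeSpectrum (F ⧸ q)) :=
    { length := l.length
      toFun := fun i => ⟨(l i).asIdeal.map (Ideal.Quotient.mk q),
        Ideal.map_isPrime_of_surjective Ideal.Quotient.mk_surjective
          (by rw [Ideal.mk_ker]; exact hle i)⟩
      step := fun i => by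
        have hlt : (l i.castSucc).asIdeal < (l i.succ).asIdeal := l.step i
        change Ideal.map _ _ < Ideal.map _ _
        refine lt_of_le_of_ne (Ideal.map_mono hlt.le) fun heq => ?_
        have := congrArg (Ideal.comap (Ideal.Quotient.mk q)) heq
        rw [Ideal.comap_map_of_surjective _ Ideal.Quotient.mk_surjective,
          Ideal.comap_map_of_surjective _ Ideal.Quotient.mk_surjective] at this
        have hb : Ideal.comap (Ideal.Quotient.mk q) ⊥ = q := by
          rw [← RingHom.ker_eq_comap_bot, Ideal.mk_ker]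
        rw [hb, sup_eq_left.mpr (hle _), sup_eq_left.mpr (hle _)] at this
        exact hlt.ne this }
  exact Order.LTSeries.length_le_krullDim l'

/-- Isolation of a maximal ideal which is minimal over `J`. -/
theorem exists_isolating {F : Type*} [CommRing F] [IsNoetherianRing F] (J M : Ideal F)
    (hM : M.IsMaximal) (hMJ : M ∈ J.minimalPrimes) :
    ∃ h : F, h ∉ M ∧ ∀ q : Ideal F, q.IsPrime → J ≤ q → h ∉ q → q = M := by
  classical
  have hfin := Ideal.finite_minimalPrimes_of_isNoetherianRing F J
  let S := hfin.toFinset.erase M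
  have hMp : M.IsPrime := hM.isPrime
  have hnot : ¬ (S.inf id ≤ M) := by
    intro hle
    obtain ⟨q, hq, hqM⟩ := (Ideal.IsPrime.inf_le' hMp).mp hle
    have hq' := Finset.mem_erase.mp hq
    have hqJ : q ∈ J.minimalPrimes := hfin.mem_toFinset.mp hq'.2
    exact hq'.1 (le_antisymm hqM (hMJ.2 ⟨hqJ.1.1, hqJ.1.2⟩ hqM))
  obtain ⟨h, hh, hhM⟩ := SetLike.not_le_iff_exists.mp hnot
  refine ⟨h, hhM, fun q hq hJq hhq => ?_⟩
  obtain ⟨q', hq', hq'q⟩ := Ideal.exists_minimalPrimes_le hJq
  by_cases hcase : q' = M
  · subst hcase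
    exact (hM.eq_of_le hq.ne_top hq'q).symm
  · exfalso
    apply hhq
    apply hq'q
    have : q' ∈ S := Finset.mem_erase.mpr ⟨hcase, hfin.mem_toFinset.mpr hq'⟩
    exact (Finset.inf_le (f := id) this) hh

/-- A finite type algebra over a field: a prime `P` is contained in a maximal ideal `M` such that
every minimal prime contained in `M` is contained in `P`. -/
theorem exists_maximal_minimalPrimes_le {F : Type*} [CommRing F] [IsNoetherianRing F]
    [IsJacobsonRing F] (P : Ideal F) [hP : P.IsPrime] :
    ∃ M : Ideal F, M.IsMaximal ∧ P ≤ M ∧ ∀ q ∈ minimalPrimes F, q ≤ M → q ≤ P := by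
  classical
  have hfin := minimalPrimes.finite_of_isNoetherianRing F
  let S := hfin.toFinset.filter (fun q => ¬ q ≤ P)
  have hnot : ¬ (S.inf id ≤ P) := by
    intro hle
    obtain ⟨q, hq, hqP⟩ := (Ideal.IsPrime.inf_le' hP).mp hle
    exact (Finset.mem_filter.mp hq).2 hqP
  obtain ⟨h, hh, hhP⟩ := SetLike.not_le_iff_exists.mp hnot
  have hj : P.jacobson = P := IsJacobsonRing.out ‹_› hP.isRadical
  rw [← hj, Ideal.jacobson, Submodule.mem_sInf] at hhP
  push Not at hhP
  obtain ⟨M, ⟨hPM, hM⟩, hhM⟩ := hhP
  refine ⟨M, hM, hPM, fun q hq hqM => ?_⟩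
  by_contra hqP
  have : q ∈ S := Finset.mem_filter.mpr ⟨hfin.mem_toFinset.mpr hq, hqP⟩
  exact hhM (hqM ((Finset.inf_le (f := id) this) hh))

/-- Systems of parameters starting with a given element. -/
theorem exists_sop {F : Type*} [CommRing F] [IsNoetherianRing F]
    [IsJacobsonRing F] (n : ℕ) (P : Ideal F) [hP : P.IsPrime] (g : F) (hg : g ∈ P)
    (hdim : ∀ q : Ideal F, q.IsPrime → ringKrullDim (F ⧸ q) ≤ n)
    (hmin : ∀ q : Ideal F, q.IsPrime → q ≤ P → g ∈ q → ringKrullDim (F ⧸ q) < n) :
    ∃ M : Ideal F, M.IsMaximal ∧ P ≤ M ∧ ∃ y : Fin n → F, (∃ i, y i = g) ∧ (∀ i, y i ∈ M) ∧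
      M ∈ (Ideal.span (Set.range y)).minimalPrimes := by
  classical
  obtain ⟨M, hM, hPM, hmax⟩ := exists_maximal_minimalPrimes_le P
  have hMp := hM.isPrime
  let I : Ideal F := Ideal.span {g}
  have hIM : I ≤ M := (Ideal.span_singleton_le_iff_mem M).mpr (hPM hg)
  let M' : Ideal (F ⧸ I) := M.map (Ideal.Quotient.mk I)
  have hM' : M'.IsPrime := Ideal.map_isPrime_of_surjective Ideal.Quotient.mk_surjective
    (by rw [Ideal.mk_ker]; exact hIM)
  have hcM : M'.comap (Ideal.Quotient.mk I) = M := by
    rw [Ideal.comap_map_of_surjective _ Ideal.Quotient.mk_surjective, ← RingHom.ker_eq_comap_bot,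
      Ideal.mk_ker, sup_eq_left.mpr hIM]
  have hht : M'.height < n := by
    obtain ⟨l, hl, hlen⟩ := Ideal.exists_ltSeries_length_eq_height M'
    rw [← hlen]
    -- pull back the chain
    let l' : LTSeries (PrimeSpectrum F) := l.map (PrimeSpectrum.comap (Ideal.Quotient.mk I))
      (fun a b hab => by
        refine lt_of_le_of_ne (Ideal.comap_mono hab.le) fun heq => hab.ne ?_
        exact PrimeSpectrum.comap_injective_of_surjective _ Ideal.Quotient.mk_surjective heq)
    have hlen' : l'.length = l.length := rfl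
    have hlast : l'.last.asIdeal = M := by
      have : l'.last = PrimeSpectrum.comap (Ideal.Quotient.mk I) l.last := rfl
      rw [this, hl]
      exact hcM
    have hhead : g ∈ l'.head.asIdeal := by
      change Ideal.Quotient.mk I g ∈ l.head.asIdeal
      rw [Ideal.Quotient.eq_zero_iff_mem.mpr (Ideal.mem_span_singleton_self g)]
      exact zero_mem _
    have hheadM : l'.head.asIdeal ≤ M := by
      rw [← hlast]
      exact l'.head_le_last
    obtain ⟨q, hq, hqh⟩ := Ideal.exists_minimalPrimes_le (I := (⊥ : Ideal F)) (J := l'.head.asIdeal)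
      bot_le
    have hqp : q.IsPrime := hq.1.1
    have hqP : q ≤ P := hmax q hq (hqh.trans hheadM)
    rw [← hlen']
    by_cases hgq : g ∈ q
    · have h1 := (length_le_of_le_head q l' hqh).trans_lt (hmin q hqp hqP hgq)
      exact_mod_cast h1
    · have hlt : (⟨q, hqp⟩ : PrimeSpectrum F) < l'.head :=
        lt_of_le_of_ne hqh fun heq => hgq (by
          have : q = l'.head.asIdeal := congrArg PrimeSpectrum.asIdeal heq
          rw [this]; exact hhead)
      have h1 := (length_le_of_le_head q (l'.cons _ hlt) (by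
        rw [RelSeries.head_cons])).trans (hdim q hqp)
      rw [RelSeries.cons_length] at h1
      have h2 : l'.length + 1 ≤ n := by exact_mod_cast h1
      exact_mod_cast h2
  obtain ⟨s, hs, hcard⟩ := Ideal.exists_finset_card_eq_height_of_isNoetherianRing M'
  rw [← hcard] at hht
  have hht' : s.card < n := by exact_mod_cast hht
  let T : Finset F := insert g (s.image (Function.surjInv Ideal.Quotient.mk_surjective))
  have hTcard : T.card ≤ n := by
    refine (Finset.card_insert_le _ _).trans ?_
    exact (Nat.add_le_add_right Finset.card_image_le 1).trans hht'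
  have hTspan : Ideal.span (T : Set F) = (Ideal.span (s : Set (F ⧸ I))).comap (Ideal.Quotient.mk I) := by
    have h1 : Ideal.span (s : Set (F ⧸ I)) = (Ideal.span
        (s.image (Function.surjInv (Ideal.Quotient.mk_surjective (I := I))) : Set F)).map
          (Ideal.Quotient.mk I) := by
      rw [Ideal.map_span, Finset.coe_image, ← Set.image_comp]
      congr 1
      ext x
      constructor
      · intro hx
        exact ⟨x, hx, Function.surjInv_eq Ideal.Quotient.mk_surjective x⟩
      · rintro ⟨z, hz, rfl⟩
        rw [Function.comp_apply, Function.surjInv_eq Ideal.Quotient.mk_surjective z]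
        exact hz
    rw [h1, Ideal.comap_map_of_surjective _ Ideal.Quotient.mk_surjective, ← RingHom.ker_eq_comap_bot,
      Ideal.mk_ker]
    simp only [T, Finset.coe_insert, Ideal.span_insert]
    exact sup_comm _ _
  have hTM : M ∈ (Ideal.span (T : Set F)).minimalPrimes := by
    rw [hTspan, Ideal.comap_minimalPrimes_eq_of_surjective Ideal.Quotient.mk_surjective]
    exact ⟨M', hs, hcM⟩
  have hTne : T.Nonempty := ⟨g, Finset.mem_insert_self _ _⟩
  obtain ⟨y, hy⟩ : ∃ y : Fin n → F, Set.range y = (T : Set F) := by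
    have : Nonempty T := ⟨⟨g, Finset.mem_insert_self _ _⟩⟩
    obtain ⟨e⟩ : Nonempty (T ↪ Fin n) := by
      rw [Function.Embedding.nonempty_iff_card_le]
      simpa using hTcard
    refine ⟨fun i => (Function.invFun e i : T), ?_⟩
    ext x
    constructor
    · rintro ⟨i, rfl⟩
      exact (Function.invFun e i).2
    · intro hx
      exact ⟨e ⟨x, hx⟩, by simp [Function.leftInverse_invFun e.injective ⟨x, hx⟩]⟩
  refine ⟨M, hM, hPM, y, ?_, ?_, ?_⟩
  · have : g ∈ Set.range y := by
      rw [hy]
      exact Finset.mem_coe.mpr (Finset.mem_insert_self _ _)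
    exact this
  · intro i
    apply hTM.1.2
    apply Ideal.subset_span
    rw [← hy]
    exact ⟨i, rfl⟩
  · rw [hy]
    exact hTM

end Groth.Agent.Flat2E.VertFib
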