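import Groth.Agent.Flat2E.VertDomain

/-!
# Vertical divisors: general rings
-/

set_option autoImplicit false

universe u

namespace Groth.Agent.Flat2E.VertGen

open CycB.TrdegAlg Cardinal VertDomain

theorem isIntegral_of_surjective {A B : Type u} [CommRing A] [CommRing B] (φ : A →+* B)
    (h : Function.Surjective φ) : φ.IsIntegral := fun x => by
  obtain ⟨a, rfl⟩ := h x
  exact RingHom.isIntegralElem_map φ

theorem general_case {R A : Type u} [CommRing R] [CommRing A] (φ : R →+* A) (hφ : φ.FiniteType)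
    (q0 P : Ideal A) [hq0 : q0.IsPrime] [hP : P.IsPrime] (hq0P : q0 ≤ P) (g : A) (hg : g ∈ P)
    (hgen : ∀ Q : Ideal A, Q.IsPrime → q0 ≤ Q → Q.comap φ = q0.comap φ → g ∉ Q) (n : ℕ)
    (hn : (n : Cardinal) ≤ trd (Ideal.quotientMap q0 φ le_rfl))
    (hdim : ∀ (Q : Ideal A) (_ : Q.IsPrime) (_ : q0 ≤ Q) (h : P.comap φ = Q.comap φ),
      trd (Ideal.quotientMap Q φ h.le) ≤ n) :
    ∃ (Q : Ideal A) (_ : Q.IsPrime) (h : P.comap φ = Q.comap φ), q0 ≤ Q ∧ Q ≤ P ∧ g ∈ Q ∧
      (n : Cardinal) ≤ trd (Ideal.quotientMap Q φ h.le) := by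
  let p0 : Ideal R := q0.comap φ
  have hp0 : p0.IsPrime := Ideal.comap_isPrime _ _
  let φb : R ⧸ p0 →+* A ⧸ q0 := Ideal.quotientMap q0 φ le_rfl
  have hφb : Function.Injective φb := quotientMap_injective_of_eq φ p0 q0 rfl
  have hft : φb.FiniteType := quotientMap_finiteType φ hφ p0 q0 le_rfl
  let _ : Algebra (R ⧸ p0) (A ⧸ q0) := φb.toAlgebra
  have : FaithfulSMul (R ⧸ p0) (A ⧸ q0) := (faithfulSMul_iff_algebraMap_injective _ _).mpr hφb
  have : Algebra.FiniteType (R ⧸ p0) (A ⧸ q0) := hft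
  let i : R →+* R ⧸ p0 := Ideal.Quotient.mk p0
  let j : A →+* A ⧸ q0 := Ideal.Quotient.mk q0
  have hj : Function.Surjective j := Ideal.Quotient.mk_surjective
  have hi : Function.Surjective i := Ideal.Quotient.mk_surjective
  have comm : j.comp φ = φb.comp i := by
    ext r
    simp [i, j, φb]
  let Pb : Ideal (A ⧸ q0) := P.map j
  have hPb : Pb.IsPrime := Ideal.map_isPrime_of_surjective hj (by rw [Ideal.mk_ker]; exact hq0P)
  have hcPb : Pb.comap j = P := by
    rw [Ideal.comap_map_of_surjective _ hj, ← RingHom.ker_eq_comap_bot, Ideal.mk_ker,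
      sup_eq_left.mpr hq0P]
  have hcm : ∀ Q : Ideal (A ⧸ q0), (Q.comap j).comap φ = (Q.comap φb).comap i := by
    intro Q
    rw [Ideal.comap_comap, Ideal.comap_comap, comm]
  have hq0le : ∀ Q : Ideal (A ⧸ q0), q0 ≤ Q.comap j := by
    intro Q a ha
    change j a ∈ Q
    have : j a = 0 := Ideal.Quotient.eq_zero_iff_mem.mpr ha
    rw [this]; exact zero_mem _
  have hcomap : ∀ (Q : Ideal (A ⧸ q0)), Pb.comap φb = Q.comap φb → P.comap φ = (Q.comap j).comap φ := by
    intro Q h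
    rw [← hcPb, hcm, hcm, h]
  have key : ∀ (Q : Ideal (A ⧸ q0)) (_ : Q.IsPrime) (h : Pb.comap φb = Q.comap φb)
      (h' : P.comap φ = (Q.comap j).comap φ),
      trd (Ideal.quotientMap (Q.comap j) φ h'.le) = trd (Ideal.quotientMap Q φb h.le) :=
    fun Q hQ h h' => trd_square φ φb i j comm (isIntegral_of_surjective i hi)
      (isIntegral_of_surjective j hj) Q _ rfl _ h' _ h
  obtain ⟨Q, hQ, h, hle, hgQ, hnQ⟩ := domain_case (R := R ⧸ p0) (A := A ⧸ q0) Pb (j g)
    (Ideal.mem_map_of_mem _ hg) (by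
      intro Q hQ hQ0 hgQ
      refine hgen (Q.comap j) (Ideal.comap_isPrime _ _) (hq0le Q) ?_ hgQ
      rw [hcm]
      have : Q.comap φb = ⊥ := hQ0
      rw [this, ← RingHom.ker_eq_comap_bot, Ideal.mk_ker])
    n hn (by
      intro Q hQ h
      have h' := hcomap Q h
      have := hdim (Q.comap j) (Ideal.comap_isPrime _ _) (hq0le Q) h'
      rw [key Q hQ h h'] at this
      exact this)
  have h' := hcomap Q h
  refine ⟨Q.comap j, Ideal.comap_isPrime _ _, h', hq0le Q, ?_, hgQ, ?_⟩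
  · rw [← hcPb]
    exact Ideal.comap_mono hle
  · rw [key Q hQ h h']
    exact hnQ

end Groth.Agent.Flat2E.VertGen
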