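import Groth.Agent.Flat2E.VertFib
import Groth.Agent.CycB.TrdegAlg
import Groth.Agent.Ega4B.DimFT
import Mathlib.RingTheory.LocalRing.ResidueField.Fiber

/-!
# Vertical divisors over a normal base
-/

set_option autoImplicit false

universe u

namespace Groth.Agent.Flat2E.VertNormal

open Algebra TensorProduct MvPolynomial CycB.TrdegAlg Cardinal

/-- elements of the fibre ring up to scalars come from the algebra -/
theorem exists_qf {R A : Type*} [CommRing R] [CommRing A] [Algebra R A] [Algebra.FiniteType R A]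
    (p : Ideal R) [p.IsPrime] (P : Ideal (p.Fiber A)) [hP : P.IsPrime] (g : A)
    (hg : (1 ⊗ₜ g : p.Fiber A) ∈ P) (n : ℕ)
    (hdim : ∀ q : Ideal (p.Fiber A), q.IsPrime → ringKrullDim (p.Fiber A ⧸ q) ≤ n)
    (hmin : ∀ q : Ideal (p.Fiber A), q.IsPrime → q ≤ P → (1 ⊗ₜ g : p.Fiber A) ∈ q →
      ringKrullDim (p.Fiber A ⧸ q) < n) :
    ∃ M : Ideal A, M.IsPrime ∧ P.comap (Algebra.TensorProduct.includeRight : A →ₐ[R] p.Fiber A) ≤ M ∧
      ∃ y : Fin n → A, (∃ i, y i = g) ∧ (∀ i, y i ∈ M) ∧
        ∀ _ : M.IsPrime, letI := (MvPolynomial.aeval (R := R) y).toRingHom.toAlgebra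
          Algebra.QuasiFiniteAt (MvPolynomial (Fin n) R) M := by
  classical
  let F := p.Fiber A
  have : Algebra.FiniteType p.ResidueField F := inferInstance
  have : IsNoetherianRing F := Algebra.FiniteType.isNoetherianRing p.ResidueField F
  have : IsJacobsonRing F := isJacobsonRing_of_finiteType (A := p.ResidueField)
  obtain ⟨M, hM, hPM, y', ⟨i₀, hi₀⟩, hy'M, hMmin⟩ := VertFib.exists_sop n P _ hg hdim hmin
  have hMp := hM.isPrime
  obtain ⟨h', hh'M, hiso⟩ := VertFib.exists_isolating _ M hM hMmin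
  let ι : A →ₐ[R] F := Algebra.TensorProduct.includeRight
  have hunit : ∀ r : R, r ∉ p → IsUnit (algebraMap R F r) := by
    intro r hr
    have : IsUnit (algebraMap R p.ResidueField r) := by
      rw [isUnit_iff_ne_zero]
      intro h0
      exact hr ((Ideal.algebraMap_residueField_eq_zero).mp h0)
    rw [IsScalarTower.algebraMap_apply R p.ResidueField F]
    exact this.map _
  -- scaling
  have hscale : ∀ x : F, ∃ a : A, ∃ r ∉ p, r • x = ι a := fun x => by
    obtain ⟨r, hr, s, hs⟩ := Ideal.Fiber.exists_smul_eq_one_tmul p x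
    exact ⟨s, r, hr, hs⟩
  have hscale' : ∀ i : Fin n, ∃ a : A, (∃ r ∉ p, r • (y' i) = ι a) ∧ (i = i₀ → a = g) := by
    intro i
    by_cases h : i = i₀
    · subst h
      exact ⟨g, ⟨1, fun h1 => (Ideal.IsPrime.ne_top (I := p) ‹_›) ((Ideal.eq_top_iff_one p).mpr h1),
        by rw [one_smul, hi₀]; rfl⟩, fun _ => rfl⟩
    · obtain ⟨a, ha⟩ := hscale (y' i)
      exact ⟨a, ha, fun h' => absurd h' h⟩
  choose y hy hyg using hscale'
  obtain ⟨h, r, hr, hrh⟩ := hscale h'
  -- membership in primes of F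
  have hmemiff : ∀ (q : Ideal F) (x : F) (r : R) (a : A), r ∉ p → r • x = ι a → (x ∈ q ↔ ι a ∈ q) := by
    intro q x r a hr hx
    rw [← hx, Algebra.smul_def]
    constructor
    · exact fun h => q.mul_mem_left _ h
    · intro h
      obtain ⟨u, hu⟩ := hunit r hr
      rw [← hu] at h
      have := q.mul_mem_left (↑u⁻¹) h
      rwa [← mul_assoc, Units.inv_mul, one_mul] at this
  have hyM : ∀ i, ι (y i) ∈ M := fun i => by
    obtain ⟨r, hr, hx⟩ := hy i
    exact (hmemiff M _ r _ hr hx).mp (hy'M i)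
  have hcomapP : ∀ q : Ideal F, q.IsPrime → (q.comap ι).comap (algebraMap R A) = p := by
    intro q hq
    have h1 := PrimeSpectrum.preimageOrderIsoFiber R A ⟨p, ‹_›⟩
    have h2 := ((PrimeSpectrum.preimageOrderIsoFiber R A ⟨p, ‹_›⟩).symm ⟨q, hq⟩).2
    exact congrArg PrimeSpectrum.asIdeal h2
  refine ⟨M.comap ι, Ideal.comap_isPrime _ _, Ideal.comap_mono hPM, y, ⟨i₀, hyg i₀ rfl⟩, hyM, ?_⟩
  intro hcp
  let _ : Algebra (MvPolynomial (Fin n) R) A := (MvPolynomial.aeval (R := R) y).toRingHom.toAlgebra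
  have hst : IsScalarTower R (MvPolynomial (Fin n) R) A := .of_algebraMap_eq fun r => by
    exact ((MvPolynomial.aeval (R := R) y).commutes r).symm
  have hX : ∀ i, algebraMap (MvPolynomial (Fin n) R) A (X i) = y i := fun i => by
    change MvPolynomial.aeval y (X i) = y i
    simp
  have : Algebra.FiniteType (MvPolynomial (Fin n) R) A :=
    Algebra.FiniteType.of_restrictScalars_finiteType R _ A
  refine QuasiFiniteAt.of_isOpen_singleton_fiber (R := MvPolynomial (Fin n) R)
    (⟨M.comap ι, hcp⟩ : PrimeSpectrum A) ?_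
  rw [isOpen_induced_iff]
  refine ⟨PrimeSpectrum.basicOpen h, (PrimeSpectrum.basicOpen h).isOpen, ?_⟩
  ext ⟨Q, hQ⟩
  simp only [Set.mem_preimage, SetLike.mem_coe, PrimeSpectrum.mem_basicOpen, Set.mem_singleton_iff,
    Subtype.mk.injEq]
  constructor
  · intro hhQ
    have hQ' : Q.asIdeal.comap (algebraMap (MvPolynomial (Fin n) R) A) =
        (M.comap ι).comap (algebraMap (MvPolynomial (Fin n) R) A) :=
      congrArg PrimeSpectrum.asIdeal hQ
    have hQp : Q.asIdeal.comap (algebraMap R A) = p := by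
      rw [IsScalarTower.algebraMap_eq R (MvPolynomial (Fin n) R) A, ← Ideal.comap_comap, hQ',
        Ideal.comap_comap, ← IsScalarTower.algebraMap_eq R (MvPolynomial (Fin n) R) A]
      exact hcomapP M hMp
    have hQy : ∀ i, y i ∈ Q.asIdeal := by
      intro i
      have : X i ∈ Q.asIdeal.comap (algebraMap (MvPolynomial (Fin n) R) A) := by
        rw [hQ', Ideal.mem_comap, hX]
        exact hyM i
      rw [Ideal.mem_comap, hX] at this
      exact this
    -- the prime of F
    let e := PrimeSpectrum.preimageOrderIsoFiber R A ⟨p, ‹_›⟩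
    let q : PrimeSpectrum F := e ⟨Q, PrimeSpectrum.ext hQp⟩
    have hq : q.asIdeal.comap ι = Q.asIdeal := by
      have : (e.symm q).1 = Q := by
        rw [OrderIso.symm_apply_apply]
      exact congrArg PrimeSpectrum.asIdeal this
    have h1 : Ideal.span (Set.range y') ≤ q.asIdeal := by
      rw [Ideal.span_le]
      rintro _ ⟨i, rfl⟩
      obtain ⟨r, hr, hx⟩ := hy i
      refine (hmemiff q.asIdeal _ r _ hr hx).mpr ?_
      change y i ∈ q.asIdeal.comap ι
      rw [hq]
      exact hQy i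
    have h2 : h' ∉ q.asIdeal := by
      rw [hmemiff q.asIdeal _ r _ hr hrh]
      change ¬ (h ∈ q.asIdeal.comap ι)
      rw [hq]
      exact hhQ
    have h3 := hiso q.asIdeal q.isPrime h1 h2
    apply PrimeSpectrum.ext
    change Q.asIdeal = M.comap ι
    rw [← hq, h3]
  · rintro rfl
    change ¬ (ι h ∈ M)
    rw [← hmemiff M _ r _ hr hrh]
    exact hh'M

end Groth.Agent.Flat2E.VertNormal
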