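import Groth.Agent.Flat2E.VertNormal

/-!
# Vertical divisors over a normal base, II
-/

set_option autoImplicit false

universe u

namespace Groth.Agent.Flat2E.VertNormal

open Algebra TensorProduct MvPolynomial CycB.TrdegAlg Cardinal

theorem comap_fiber {R A : Type u} [CommRing R] [CommRing A] [Algebra R A]
    (p : Ideal R) [p.IsPrime] (q : Ideal (p.Fiber A)) [hq : q.IsPrime] :
    (q.comap (Algebra.TensorProduct.includeRight : A →ₐ[R] p.Fiber A)).comap (algebraMap R A) = p := by
  have h2 := ((PrimeSpectrum.preimageOrderIsoFiber R A ⟨p, ‹_›⟩).symm ⟨q, hq⟩).2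
  exact congrArg PrimeSpectrum.asIdeal h2

theorem exists_fiber_prime {R A : Type u} [CommRing R] [CommRing A] [Algebra R A]
    (p : Ideal R) [hp : p.IsPrime] (Q : Ideal A) [hQ : Q.IsPrime] (h : Q.comap (algebraMap R A) = p) :
    ∃ q : Ideal (p.Fiber A), q.IsPrime ∧
      q.comap (Algebra.TensorProduct.includeRight : A →ₐ[R] p.Fiber A) = Q := by
  let e := PrimeSpectrum.preimageOrderIsoFiber R A ⟨p, hp⟩
  let q := e ⟨⟨Q, hQ⟩, PrimeSpectrum.ext h⟩
  refine ⟨q.asIdeal, q.isPrime, ?_⟩
  have : (e.symm q).1 = ⟨Q, hQ⟩ := by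
    rw [OrderIso.symm_apply_apply]
  exact congrArg PrimeSpectrum.asIdeal this

theorem fiber_prime_le {R A : Type u} [CommRing R] [CommRing A] [Algebra R A]
    (p : Ideal R) [hp : p.IsPrime] (q q' : Ideal (p.Fiber A)) [hq : q.IsPrime] [hq' : q'.IsPrime]
    (h : q.comap (Algebra.TensorProduct.includeRight : A →ₐ[R] p.Fiber A) ≤
      q'.comap (Algebra.TensorProduct.includeRight : A →ₐ[R] p.Fiber A)) : q ≤ q' := by
  let e := PrimeSpectrum.preimageOrderIsoFiber R A ⟨p, hp⟩
  exact (e.symm.le_iff_le (x := ⟨q, hq⟩) (y := ⟨q', hq'⟩)).mp h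

/-- The transcendence degree of a quotient domain of the fibre ring. -/
theorem trd_fiber_aux {R A D : Type u} [CommRing R] [CommRing A] [Algebra R A]
    (p : Ideal R) [p.IsPrime] [CommRing D] [IsDomain D] [Algebra p.ResidueField D]
    (π : p.Fiber A →+* D) (hπ : Function.Surjective π)
    (hπc : ∀ c : p.ResidueField, π (algebraMap p.ResidueField (p.Fiber A) c) =
      algebraMap p.ResidueField D c) (Q : Ideal A)
    (hQ : ∀ a : A, a ∈ Q ↔ π ((1 : p.ResidueField) ⊗ₜ[R] a) = 0)
    (h : p ≤ Q.comap (algebraMap R A)) :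
    trd (Ideal.quotientMap Q (algebraMap R A) h) = Algebra.trdeg p.ResidueField D := by
  let F := p.Fiber A
  let ι : A →ₐ[R] F := Algebra.TensorProduct.includeRight
  let L := FractionRing D
  have hιr : ∀ r : R, ι (algebraMap R A r) = algebraMap p.ResidueField F (algebraMap R p.ResidueField r) := by
    intro r
    rw [AlgHom.commutes, IsScalarTower.algebraMap_apply R p.ResidueField F]
  have hπr : ∀ r : R, π (ι (algebraMap R A r)) =
      algebraMap p.ResidueField D (algebraMap R p.ResidueField r) := by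
    intro r
    rw [hιr, hπc]
  let ψB : A →+* L := (algebraMap D L).comp (π.comp ι.toRingHom)
  have hinj : Function.Injective (algebraMap D L) := IsFractionRing.injective _ _
  have hker : Q = RingHom.ker ψB := by
    ext a
    rw [RingHom.mem_ker, hQ]
    change _ ↔ algebraMap D L (π (ι a)) = 0
    rw [map_eq_zero_iff _ hinj]
    rfl
  have hψr : ∀ r : R, r ∉ p → ψB (algebraMap R A r) ≠ 0 := by
    intro r hr h0
    have h1 : π (ι (algebraMap R A r)) = 0 := (map_eq_zero_iff _ hinj).mp h0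
    rw [hπr, map_eq_zero_iff _ (algebraMap p.ResidueField D).injective] at h1
    exact hr ((Ideal.algebraMap_residueField_eq_zero).mp h1)
  have hnum : ∀ x : D, ∃ (a : A) (r : R), r ∉ p ∧
      algebraMap D L x * ψB (algebraMap R A r) = ψB a := by
    intro x
    obtain ⟨x, rfl⟩ := hπ x
    obtain ⟨r, hr, s, hs⟩ := Ideal.Fiber.exists_smul_eq_one_tmul p x
    refine ⟨s, r, hr, ?_⟩
    change algebraMap D L (π x) * algebraMap D L (π (ι (algebraMap R A r))) =
        algebraMap D L (π (ι s))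
    rw [← map_mul, ← map_mul]
    congr 2
    rw [AlgHom.commutes, mul_comm, ← Algebra.smul_def]
    exact hs
  have hB : FracGen ψB := by
    intro z
    obtain ⟨⟨x, y⟩, hxy⟩ := IsLocalization.surj (nonZeroDivisors D) z
    obtain ⟨a, r, hr, ha⟩ := hnum x
    obtain ⟨b, t, ht, hb⟩ := hnum y
    have hy0 : algebraMap D L y ≠ 0 := by
      rw [Ne, map_eq_zero_iff _ hinj]
      exact nonZeroDivisors.ne_zero y.2
    refine ⟨a * algebraMap R A t, b * algebraMap R A r, ?_, ?_⟩
    · rw [map_mul, ← hb]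
      exact mul_ne_zero (mul_ne_zero hy0 (hψr t ht)) (hψr r hr)
    · rw [map_mul, map_mul, ← hb, ← ha]
      calc z * (algebraMap D L y * ψB (algebraMap R A t) * ψB (algebraMap R A r))
          = (z * algebraMap D L y) * ψB (algebraMap R A t) * ψB (algebraMap R A r) := by ring
        _ = _ := by rw [hxy]; ring
  let ψA : R →+* p.ResidueField := algebraMap R p.ResidueField
  have hA : FracGen ψA := by
    intro z
    obtain ⟨⟨x, y⟩, hxy⟩ := IsLocalization.surj (nonZeroDivisors (R ⧸ p)) z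
    obtain ⟨x, rfl⟩ := Ideal.Quotient.mk_surjective x
    obtain ⟨y', hy'⟩ := Ideal.Quotient.mk_surjective y.1
    refine ⟨x, y', ?_, ?_⟩
    · intro h0
      have : y' ∈ p := (Ideal.algebraMap_residueField_eq_zero).mp h0
      have h1 : (y : R ⧸ p) = 0 := by
        rw [← hy', Ideal.Quotient.eq_zero_iff_mem]; exact this
      exact nonZeroDivisors.ne_zero y.2 h1
    · have e : ∀ r : R, ψA r = algebraMap (R ⧸ p) p.ResidueField (Ideal.Quotient.mk p r) := fun r =>
        IsScalarTower.algebraMap_apply R (R ⧸ p) p.ResidueField r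
      rw [e, e, hy']
      exact hxy
  let θ : p.ResidueField →+* L := (algebraMap D L).comp (algebraMap p.ResidueField D)
  have hθ : trd θ = Algebra.trdeg p.ResidueField D := by
    have e : θ = algebraMap p.ResidueField L := by
      change _ = algebraMap p.ResidueField L
      rw [IsScalarTower.algebraMap_eq p.ResidueField D L]
    rw [e, trd_algebraMap]
    exact trdeg_fractionField p.ResidueField D p.ResidueField L
  rw [← hθ]
  symm
  refine trd_eq_trd_quotientMap (algebraMap R A) ψA ψB θ ?_ hA hB p ?_ Q hker h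
  · ext r
    change algebraMap D L (algebraMap p.ResidueField D (algebraMap R p.ResidueField r)) =
      algebraMap D L (π (ι (algebraMap R A r)))
    rw [hπr]
  · ext r
    rw [RingHom.mem_ker]
    exact (Ideal.algebraMap_residueField_eq_zero).symm

/-- The dimension of a quotient of the fibre ring is the transcendence degree. -/
theorem dim_fiber {R A : Type u} [CommRing R] [CommRing A] [Algebra R A] [Algebra.FiniteType R A]
    (p : Ideal R) [p.IsPrime] (q : Ideal (p.Fiber A)) [hq : q.IsPrime] (Q : Ideal A)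
    (hQ : q.comap (Algebra.TensorProduct.includeRight : A →ₐ[R] p.Fiber A) = Q)
    (h : p ≤ Q.comap (algebraMap R A)) :
    ∃ m : ℕ, trd (Ideal.quotientMap Q (algebraMap R A) h) = m ∧ ringKrullDim (p.Fiber A ⧸ q) = m := by
  have : Algebra.FiniteType p.ResidueField (p.Fiber A) := inferInstance
  have hft : Algebra.FiniteType p.ResidueField (p.Fiber A ⧸ q) :=
    .of_surjective (Ideal.Quotient.mkₐ p.ResidueField q) Ideal.Quotient.mk_surjective
  have hdom : IsDomain (p.Fiber A ⧸ q) := inferInstance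
  have h2 : ∀ c : p.ResidueField, Ideal.Quotient.mk q (algebraMap p.ResidueField (p.Fiber A) c) =
      algebraMap p.ResidueField (p.Fiber A ⧸ q) c := fun c =>
    (IsScalarTower.algebraMap_apply p.ResidueField (p.Fiber A) (p.Fiber A ⧸ q) c).symm
  have h3 : ∀ a : A, a ∈ Q ↔ Ideal.Quotient.mk q ((1 : p.ResidueField) ⊗ₜ[R] a) = 0 := by
    intro a
    rw [← hQ, Ideal.Quotient.eq_zero_iff_mem]
    rfl
  have h4 : Function.Surjective (Ideal.Quotient.mk q) := Ideal.Quotient.mk_surjective
  obtain ⟨m, hm, hm'⟩ := Ega4B.DimFT.exists_dim p.ResidueField (p.Fiber A ⧸ q)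
  refine ⟨m, ?_, hm'⟩
  rw [← hm]
  exact trd_fiber_aux p (Ideal.Quotient.mk q) h4 h2 Q h3 h

/-- Normal case. -/
theorem normal_case {R A : Type u} [CommRing R] [IsDomain R] [IsIntegrallyClosed R] [CommRing A]
    [IsDomain A] [Algebra R A] [FaithfulSMul R A] [Algebra.FiniteType R A] (P : Ideal A) [hP : P.IsPrime]
    (g : A) (hg : g ∈ P) (hgen : ∀ Q : Ideal A, Q.IsPrime → Q.comap (algebraMap R A) = ⊥ → g ∉ Q)
    (n : ℕ) (hn : (n : Cardinal) ≤ Algebra.trdeg R A)
    (hdim : ∀ (Q : Ideal A) (_ : Q.IsPrime) (h : P.comap (algebraMap R A) = Q.comap (algebraMap R A)),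
      trd (Ideal.quotientMap Q (algebraMap R A) h.le) ≤ n) :
    ∃ (Q : Ideal A) (_ : Q.IsPrime) (h : P.comap (algebraMap R A) = Q.comap (algebraMap R A)),
      Q ≤ P ∧ g ∈ Q ∧ (n : Cardinal) ≤ trd (Ideal.quotientMap Q (algebraMap R A) h.le) := by
  by_contra hcon
  push Not at hcon
  let p := P.comap (algebraMap R A)
  have hp : p.IsPrime := Ideal.comap_isPrime _ _
  obtain ⟨P', hP', hP'P⟩ := exists_fiber_prime p P rfl
  have hgP' : (1 ⊗ₜ g : p.Fiber A) ∈ P' := by
    have : g ∈ P'.comap (Algebra.TensorProduct.includeRight : A →ₐ[R] p.Fiber A) := by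
      rw [hP'P]; exact hg
    exact this
  have h1 : ∀ q : Ideal (p.Fiber A), q.IsPrime → ringKrullDim (p.Fiber A ⧸ q) ≤ n := by
    intro q hq
    have e := comap_fiber p q
    obtain ⟨m, hm, hm'⟩ := dim_fiber p q _ rfl e.ge
    rw [hm']
    have := hdim _ (Ideal.comap_isPrime _ _) e.symm
    rw [hm] at this
    exact_mod_cast this
  have h2 : ∀ q : Ideal (p.Fiber A), q.IsPrime → q ≤ P' → (1 ⊗ₜ g : p.Fiber A) ∈ q →
      ringKrullDim (p.Fiber A ⧸ q) < n := by
    intro q hq hqP' hgq
    have e := comap_fiber p q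
    obtain ⟨m, hm, hm'⟩ := dim_fiber p q _ rfl e.ge
    rw [hm']
    have := hcon _ (Ideal.comap_isPrime _ _) e.symm ?_ ?_
    · rw [hm] at this
      exact_mod_cast this
    · exact (Ideal.comap_mono hqP').trans hP'P.le
    · exact hgq
  obtain ⟨M, hM, hPM, y, ⟨i, hi⟩, hyM, hqf⟩ := exists_qf p P' g hgP' n h1 h2
  obtain ⟨Q, hQ, hQM, hQ0, hyQ⟩ := VertAlg.exists_prime_of_quasiFiniteAt hn y M hyM (hqf hM)
  exact hgen Q hQ hQ0 (hi ▸ hyQ i)

end Groth.Agent.Flat2E.VertNormal
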